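import Groth.Agent.H15Subtr.UnivSub
import Groth.Agent.H18Et.TopInvariance

/-!
# Morphisms to separated étale schemes descend along universally submersive morphisms
-/

set_option autoImplicit false
set_option linter.style.haveILetI false
set_option backward.isDefEq.respectTransparency false

universe u

open CategoryTheory CategoryTheory.Limits AlgebraicGeometry

namespace Groth.Agent.H15Subtr

theorem isOpenImmersion_section {P Z : Scheme.{u}} (q : P ⟶ Z) [Etale q] (s : Z ⟶ P) (h : s ≫ q = 𝟙 Z) :
    IsOpenImmersion s := by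
  haveI : Etale (s ≫ q) := by rw [h]; infer_instance
  haveI : Etale s := Etale.of_comp s q
  haveI : Mono (s ≫ q) := by rw [h]; infer_instance
  haveI : Mono s := mono_of_mono s q
  exact IsOpenImmersion.of_flat_of_mono s

theorem isClosedImmersion_section {P Z : Scheme.{u}} (q : P ⟶ Z) [IsSeparated q] (s : Z ⟶ P)
    (h : s ≫ q = 𝟙 Z) : IsClosedImmersion s := by
  haveI : IsClosedImmersion (s ≫ q) := by rw [h]; infer_instance
  exact IsClosedImmersion.of_comp s q

/-- A section of a separated étale scheme descends along a universally submersive morphism. -/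
theorem exists_section_of_univSubmersive {Z' Z P : Scheme.{u}} (c : Z' ⟶ Z) (hc : SGA1.UnivSubmersive c)
    (q : P ⟶ Z) [Etale q] [IsSeparated q] (s' : Z' ⟶ P) (h : s' ≫ q = c)
    (hker : pullback.fst c c ≫ s' = pullback.snd c c ≫ s') :
    ∃ s : Z ⟶ P, s ≫ q = 𝟙 Z ∧ c ≫ s = s' := by
  let Γ : Z' ⟶ pullback q c := pullback.lift s' (𝟙 Z') (by rw [h, Category.id_comp])
  have hΓ₁ : Γ ≫ pullback.fst q c = s' := pullback.lift_fst _ _ _
  have hΓ₂ : Γ ≫ pullback.snd q c = 𝟙 Z' := pullback.lift_snd _ _ _
  haveI : IsOpenImmersion Γ := isOpenImmersion_section (pullback.snd q c) Γ hΓ₂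
  have he : SGA1.UnivSubmersive (pullback.fst q c) := univSubmersive_fst hc
  -- two points with the same image, the first on the graph
  have hfac : ∀ {T : Scheme.{u}} (a : T ⟶ pullback q c), Set.range a ⊆ Set.range Γ →
      a ≫ pullback.fst q c = (a ≫ pullback.snd q c) ≫ s' := fun a ha => by
    have hl : IsOpenImmersion.lift Γ a ha ≫ Γ = a := IsOpenImmersion.lift_fac _ _ _
    calc a ≫ pullback.fst q c = (IsOpenImmersion.lift Γ a ha ≫ Γ) ≫ pullback.fst q c := by rw [hl]
      _ = ((IsOpenImmersion.lift Γ a ha ≫ Γ) ≫ pullback.snd q c) ≫ s' := by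
          rw [Category.assoc, Category.assoc, Category.assoc, hΓ₁, reassoc_of% hΓ₂]
      _ = (a ≫ pullback.snd q c) ≫ s' := by rw [hl]
  have hsat : pullback.fst q c ⁻¹' Set.range s' = Set.range Γ := by
    refine Set.Subset.antisymm ?_ ?_
    · rintro v₁ ⟨z₀, hz₀⟩
      obtain ⟨π, hπ₀, hπ₁⟩ := Scheme.Pullback.exists_preimage_pullback (f := pullback.fst q c)
        (g := pullback.fst q c) (Γ z₀) v₁ (by rw [← Scheme.Hom.comp_apply, hΓ₁, hz₀])
      let k := (pullback (pullback.fst q c) (pullback.fst q c)).fromSpecResidueField π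
      let a₀ := k ≫ pullback.fst (pullback.fst q c) (pullback.fst q c)
      let a₁ := k ≫ pullback.snd (pullback.fst q c) (pullback.fst q c)
      have ha : a₀ ≫ pullback.fst q c = a₁ ≫ pullback.fst q c := by
        simp only [a₀, a₁, Category.assoc, pullback.condition]
      have hr : Set.range a₀ ⊆ Set.range Γ := by
        rintro _ ⟨t, rfl⟩
        show pullback.fst (pullback.fst q c) (pullback.fst q c) (k t) ∈ _
        rw [Scheme.fromSpecResidueField_apply, hπ₀]
        exact ⟨z₀, rfl⟩
      have hcond : (a₀ ≫ pullback.snd q c) ≫ c = (a₁ ≫ pullback.snd q c) ≫ c :=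
        calc (a₀ ≫ pullback.snd q c) ≫ c = a₀ ≫ pullback.fst q c ≫ q :=
              (Category.assoc _ _ _).trans (congrArg (a₀ ≫ ·) pullback.condition.symm)
          _ = a₁ ≫ pullback.fst q c ≫ q :=
              (Category.assoc _ _ _).symm.trans ((congrArg (· ≫ q) ha).trans (Category.assoc _ _ _))
          _ = (a₁ ≫ pullback.snd q c) ≫ c :=
              (congrArg (a₁ ≫ ·) pullback.condition).trans (Category.assoc _ _ _).symm
      have hs : (a₀ ≫ pullback.snd q c) ≫ s' = (a₁ ≫ pullback.snd q c) ≫ s' := by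
        have := congrArg (fun x => pullback.lift _ _ hcond ≫ x) hker
        simpa only [pullback.lift_fst_assoc, pullback.lift_snd_assoc] using this
      have e : a₁ = (a₁ ≫ pullback.snd q c) ≫ Γ := by
        apply pullback.hom_ext
        · simp only [Category.assoc, hΓ₁]
          rw [← ha, hfac a₀ hr, hs, Category.assoc]
        · simp only [Category.assoc, hΓ₂, Category.comp_id]
      obtain ⟨pt⟩ : Nonempty (Spec ((pullback (pullback.fst q c) (pullback.fst q c)).residueField π)) :=
        inferInstance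
      have hpt : a₁ pt = v₁ := by
        show pullback.snd (pullback.fst q c) (pullback.fst q c) (k pt) = _
        rw [Scheme.fromSpecResidueField_apply, hπ₁]
      exact ⟨(a₁ ≫ pullback.snd q c) pt, by rw [← Scheme.Hom.comp_apply, ← e, hpt]⟩
    · rintro _ ⟨z, rfl⟩
      exact ⟨z, by rw [← hΓ₁, Scheme.Hom.comp_apply]⟩
  have hopen : IsOpen (Set.range s') := by
    refine (isQuotientMap_of_univSubmersive he).isOpen_preimage.1 ?_
    rw [hsat]
    exact Γ.isOpenEmbedding.isOpen_range
  let O : P.Opens := ⟨Set.range s', hopen⟩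
  haveI : Surjective c := surjective_of_univSubmersive hc
  haveI : Surjective (O.ι ≫ q) := ⟨fun z => by
    obtain ⟨z', rfl⟩ := c.surjective z
    exact ⟨⟨s' z', ⟨z', rfl⟩⟩, (Scheme.Hom.comp_apply _ _ _).symm.trans (congrArg (fun m => m z') h)⟩⟩
  haveI : Surjective (pullback.diagonal (O.ι ≫ q)) := by
    refine ⟨fun π => ?_⟩
    let k := (pullback (O.ι ≫ q) (O.ι ≫ q)).fromSpecResidueField π
    let u₀ := k ≫ pullback.fst (O.ι ≫ q) (O.ι ≫ q)
    let u₁ := k ≫ pullback.snd (O.ι ≫ q) (O.ι ≫ q)
    let y := u₀ ≫ O.ι ≫ q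
    obtain ⟨pt⟩ : Nonempty (Spec ((pullback (O.ι ≫ q) (O.ι ≫ q)).residueField π)) := inferInstance
    haveI : Surjective (pullback.snd c y) := inferInstance
    obtain ⟨w, -⟩ := (pullback.snd c y).surjective pt
    let m := (pullback c y).fromSpecResidueField w
    let x := m ≫ pullback.fst c y
    let t := m ≫ pullback.snd c y
    have hxt : x ≫ c = t ≫ y := by simp only [x, t, Category.assoc, pullback.condition]
    have key : ∀ u : Spec ((pullback (O.ι ≫ q) (O.ι ≫ q)).residueField π) ⟶ O.toScheme,
        u ≫ O.ι ≫ q = y → (t ≫ u) ≫ O.ι = x ≫ s' := fun u hu => by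
      let a : Spec ((pullback c y).residueField w) ⟶ pullback q c :=
        pullback.lift ((t ≫ u) ≫ O.ι) x (by rw [hxt]; simp only [Category.assoc]; exact congrArg (t ≫ ·) hu)
      have ha : Set.range a ⊆ Set.range Γ := by
        rintro _ ⟨p, rfl⟩
        rw [← hsat]
        show pullback.fst q c (a p) ∈ Set.range s'
        rw [← Scheme.Hom.comp_apply, pullback.lift_fst, Scheme.Hom.comp_apply]
        exact ((t ≫ u) p).2
      have := hfac a ha
      simpa only [a, pullback.lift_fst, pullback.lift_snd] using this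
    have hu : t ≫ u₀ = t ≫ u₁ := by
      rw [← cancel_mono O.ι, key u₀ rfl, key u₁ (by simp only [u₀, u₁, y, Category.assoc, pullback.condition])]
    have hd : (t ≫ u₀) ≫ pullback.diagonal (O.ι ≫ q) = t ≫ k := by
      apply pullback.hom_ext
      · simp only [u₀, Category.assoc, pullback.diagonal_fst, Category.comp_id]
      · rw [Category.assoc, pullback.diagonal_snd, Category.comp_id, hu]
        simp only [u₁, Category.assoc]
    obtain ⟨p⟩ : Nonempty (Spec ((pullback c y).residueField w)) := inferInstance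
    refine ⟨(t ≫ u₀) p, ?_⟩
    rw [← Scheme.Hom.comp_apply, hd, Scheme.Hom.comp_apply]
    exact Scheme.fromSpecResidueField_apply π _
  haveI : UniversallyInjective (O.ι ≫ q) := (UniversallyInjective.iff_diagonal (f := O.ι ≫ q)).mpr ‹_›
  haveI : IsOpenImmersion (O.ι ≫ q) := H18Et.TopInv.isOpenImmersion_of_etale_of_universallyInjective _
  haveI : IsIso (O.ι ≫ q) := (isIso_iff_isOpenImmersion_and_surjective _).mpr ⟨inferInstance, inferInstance⟩
  let l : Z' ⟶ O.toScheme := IsOpenImmersion.lift O.ι s' (Scheme.Opens.range_ι O).ge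
  have hl : l ≫ O.ι = s' := IsOpenImmersion.lift_fac _ _ _
  refine ⟨inv (O.ι ≫ q) ≫ O.ι, by rw [Category.assoc, IsIso.inv_hom_id], ?_⟩
  have : c ≫ inv (O.ι ≫ q) = l := by
    rw [IsIso.comp_inv_eq, ← Category.assoc, hl, h]
  rw [reassoc_of% this, hl]

/-- A morphism to a separated étale scheme descends along a universally submersive morphism. -/
theorem exists_desc_of_univSubmersive {Z' Z U W : Scheme.{u}} (c : Z' ⟶ Z) (hc : SGA1.UnivSubmersive c)
    (p : U ⟶ W) [Etale p] [IsSeparated p] (z : Z ⟶ W) (s' : Z' ⟶ U) (h : s' ≫ p = c ≫ z)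
    (hker : pullback.fst c c ≫ s' = pullback.snd c c ≫ s') :
    ∃ s : Z ⟶ U, s ≫ p = z ∧ c ≫ s = s' := by
  obtain ⟨t, ht, htc⟩ := exists_section_of_univSubmersive c hc (pullback.snd p z)
    (pullback.lift s' c h) (pullback.lift_snd _ _ _) (by
      apply pullback.hom_ext
      · simpa only [Category.assoc, pullback.lift_fst] using hker
      · simp only [Category.assoc, pullback.lift_snd, pullback.condition])
  refine ⟨t ≫ pullback.fst p z, ?_, ?_⟩
  · rw [Category.assoc, pullback.condition, reassoc_of% ht]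
  · rw [reassoc_of% htc, pullback.lift_fst]

end Groth.Agent.H15Subtr
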