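import Groth.Prelude.Def_Desc
import Groth.Agent.H13Desc.Eff.Lqf
import Groth.Agent.H12AlgSp.Bootstrap
import Mathlib.AlgebraicGeometry.Morphisms.LocalFlatDescent

/-!
# Descent of an étale datum to the intermediate scheme of a refinement
-/

set_option autoImplicit false
set_option linter.style.haveILetI false
set_option backward.isDefEq.respectTransparency false
set_option backward.isDefEq.respectTransparency.types false

universe u

open CategoryTheory CategoryTheory.Limits AlgebraicGeometry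

namespace Groth.Agent.H15Subtr

open H13Desc.Eff

variable {S' S X Y : Scheme.{u}} {g : S' ⟶ S} (D : Desc.SchDD g) (h : X ⟶ S') (p : X ⟶ Y) (q : Y ⟶ S)
  (w : h ≫ g = p ≫ q)

include w in
theorem compat_ref {T : Scheme.{u}} {x₀ x₁ : T ⟶ X} (e : x₀ ≫ p = x₁ ≫ p) :
    (x₀ ≫ h) ≫ g = (x₁ ≫ h) ≫ g := by
  rw [Category.assoc, Category.assoc, w, ← Category.assoc, ← Category.assoc, e]

/-- The pull-back of a descent datum to a refinement. -/
noncomputable def pullRef : Desc.SchDD p where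
  obj := Over.mk (pullback.snd D.obj.hom h)
  φ T x₀ x₁ e := (Desc.liftsPullbackEquiv D.obj h x₀).trans
    ((D.φ _ _ (compat_ref h p q w e)).trans (Desc.liftsPullbackEquiv D.obj h x₁).symm)
  φ_natural T T' k x₀ x₁ e e' v v' hv := by
    apply pullback.hom_ext
    · simp only [Equiv.trans_apply, Desc.liftsPullbackEquiv, Equiv.coe_fn_mk, Equiv.coe_fn_symm_mk,
        pullback.lift_fst, Category.assoc]
      have h2 : (k ≫ x₀ ≫ h) ≫ g = (k ≫ x₁ ≫ h) ≫ g := by
        simpa [Category.assoc] using compat_ref h p q w e'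
      refine (phi_congr'' D (Category.assoc _ _ _) (Category.assoc _ _ _) _ h2 _
        ⟨k ≫ v.1 ≫ pullback.fst D.obj.hom h, by
          rw [Category.assoc, Category.assoc, pullback.condition, ← Category.assoc v.1]
          exact congrArg (k ≫ · ≫ h) v.2⟩ ?_).trans (D.φ_natural k _ _ (compat_ref h p q w e) h2 _ _ rfl)
      show v'.1 ≫ _ = k ≫ v.1 ≫ _
      rw [hv, Category.assoc]
    · simp only [Equiv.trans_apply, Desc.liftsPullbackEquiv, Equiv.coe_fn_mk, Equiv.coe_fn_symm_mk,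
        pullback.lift_snd, Category.assoc]
  φ_self T x v := by simp [D.φ_self]
  φ_comp T x₀ x₁ x₂ h₀₁ h₁₂ v := by simp [D.φ_comp]

theorem pullRef_fst {T : Scheme.{u}} (x₀ x₁ : T ⟶ X) (e : x₀ ≫ p = x₁ ≫ p)
    (v : Desc.Lifts (pullRef D h p q w).obj x₀) :
    ((pullRef D h p q w).φ x₀ x₁ e v).1 ≫ pullback.fst D.obj.hom h =
      (D.φ (x₀ ≫ h) (x₁ ≫ h) (compat_ref h p q w e) (Desc.liftsPullbackEquiv D.obj h x₀ v)).1 :=
  pullback.lift_fst _ _ _

include q w in
/-- An étale separated datum restricted to a refinement descends to the intermediate scheme. -/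
theorem exists_descended [Flat p] [Surjective p] [LocallyOfFinitePresentation p] [Etale D.obj.hom]
    [IsSeparated D.obj.hom] :
    ∃ (UY : Over Y) (μ : pullback p UY.hom ⟶ D.obj.left)
      (hμ : IsPullback μ (pullback.fst p UY.hom) D.obj.hom h), Etale UY.hom ∧ IsSeparated UY.hom ∧
      ∀ ⦃T : Scheme.{u}⦄ (l₀ l₁ : T ⟶ pullback p UY.hom)
        (e : ((l₀ ≫ pullback.fst p UY.hom) ≫ h) ≫ g = ((l₁ ≫ pullback.fst p UY.hom) ≫ h) ≫ g),
        l₀ ≫ pullback.snd p UY.hom = l₁ ≫ pullback.snd p UY.hom →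
        (D.φ _ _ e ⟨l₀ ≫ μ, by rw [Category.assoc, hμ.w, Category.assoc]⟩).1 = l₁ ≫ μ := by
  haveI he : Etale (pullRef D h p q w).obj.hom := inferInstanceAs (Etale (pullback.snd D.obj.hom h))
  haveI hs : IsSeparated (pullRef D h p q w).obj.hom := inferInstanceAs (IsSeparated (pullback.snd D.obj.hom h))
  haveI : LocallyQuasiFinite (pullRef D h p q w).obj.hom := H12AlgSp.lqf_of_etale _
  obtain ⟨UY, ⟨e⟩⟩ := isEffective_lqf p (pullRef D h p q w)
  let m : pullback p UY.hom ⟶ pullback D.obj.hom h := e.hom.hom.left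
  haveI : IsIso m := inferInstanceAs (IsIso e.hom.hom.left)
  have hm : m ≫ pullback.snd D.obj.hom h = pullback.fst p UY.hom := Over.w e.hom.hom
  have hμ : IsPullback (m ≫ pullback.fst D.obj.hom h) (pullback.fst p UY.hom) D.obj.hom h := by
    have hc : CommSq (m ≫ pullback.fst D.obj.hom h) (pullback.fst p UY.hom) D.obj.hom h :=
      ⟨by rw [Category.assoc, pullback.condition, ← Category.assoc, hm]⟩
    exact IsPullback.of_iso_pullback hc (asIso m) rfl hm
  have hE : Etale (pullback.fst p UY.hom) := MorphismProperty.of_isPullback hμ ‹Etale D.obj.hom›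
  have hS : IsSeparated (pullback.fst p UY.hom) := MorphismProperty.of_isPullback hμ ‹IsSeparated D.obj.hom›
  refine ⟨UY, m ≫ pullback.fst D.obj.hom h, hμ,
    IsCover.descend p @Etale (IsPullback.of_hasPullback p UY.hom) hE,
    IsCover.descend p @IsSeparated (IsPullback.of_hasPullback p UY.hom) hS, fun T l₀ l₁ e' hl => ?_⟩
  have hp : (l₀ ≫ pullback.fst p UY.hom) ≫ p = (l₁ ≫ pullback.fst p UY.hom) ≫ p := by
    rw [Category.assoc, Category.assoc, pullback.condition, ← Category.assoc, ← Category.assoc, hl]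
  have hc := e.hom.comm (T := T) _ _ hp ⟨l₀, rfl⟩
    ⟨l₀ ≫ m, by show (l₀ ≫ m) ≫ pullback.snd D.obj.hom h = _; rw [Category.assoc, hm]⟩ rfl
  have h2 : ((((Desc.toDD p).obj UY).φ _ _ hp) ⟨l₀, rfl⟩).1 = l₁ :=
    pullback.hom_ext (pullback.lift_fst _ _ _) ((pullback.lift_snd _ _ _).trans hl)
  rw [h2] at hc
  refine Eq.trans ?_ ((pullRef_fst D h p q w _ _ hp ⟨l₀ ≫ m, by
    show (l₀ ≫ m) ≫ pullback.snd D.obj.hom h = _; rw [Category.assoc, hm]⟩).symm.trans
    ((congrArg (· ≫ pullback.fst D.obj.hom h) hc).trans (Category.assoc _ _ _)))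
  exact phi_congr'' D rfl rfl _ _ _ _ (Category.assoc _ _ _).symm

end Groth.Agent.H15Subtr
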