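import Groth.Prelude.Def_Desc
import Groth.Agent.H15Subtr.EtMor
import Groth.Agent.H13Desc.Eff.Chart
import Groth.Agent.H12AlgSp.Bootstrap
import Groth.Agent.H12AlgSp.LQFScheme2
import Groth.Agent.H12AlgSp.Sep
import Groth.Agent.H12AlgSp.SourceDescent
import Groth.Agent.H12AlgSp.QuotSheaf
import Groth.Agent.H18Descent.Basic
import Mathlib.AlgebraicGeometry.Sites.Fpqc

/-!
# Effectivity of a descent datum covered by an étale scheme over the base

A descent datum relative to a universally submersive morphism, étale and separated, which receives a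
surjective morphism from the canonical datum of an étale scheme over the base, is effective.
-/

set_option autoImplicit false
set_option linter.style.haveILetI false
set_option backward.isDefEq.respectTransparency false

universe u

open CategoryTheory CategoryTheory.Limits AlgebraicGeometry Opposite
open AlgSp Groth.Agent.H13AlgSp Groth.Agent.H12AlgSp

namespace Groth.Agent.H15Subtr

variable {S' S : Scheme.{u}} {g : S' ⟶ S} {D : Desc.SchDD g}

section pt

variable {W : Over S} (f : (Desc.toDD g).obj W ⟶ D)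

/-- The underlying map of a morphism out of a canonical datum. -/
noncomputable abbrev mmap : pullback g W.hom ⟶ D.obj.left := f.hom.left

theorem mmap_w : mmap f ≫ D.obj.hom = pullback.fst g W.hom := Over.w f.hom

/-- The point of the datum defined by a point of the covering scheme. -/
noncomputable def pt {T : Scheme.{u}} (x : T ⟶ S') (a : T ⟶ W.left) (h : a ≫ W.hom = x ≫ g) :
    Desc.Lifts D.obj x :=
  ⟨pullback.lift x a h.symm ≫ mmap f, by rw [Category.assoc, mmap_w, pullback.lift_fst]⟩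

theorem pt_val {T : Scheme.{u}} (x : T ⟶ S') (a : T ⟶ W.left) (h : a ≫ W.hom = x ≫ g) :
    (pt f x a h).1 = pullback.lift x a h.symm ≫ mmap f := rfl

theorem pt_move {T : Scheme.{u}} (x₀ x₁ : T ⟶ S') (hx : x₀ ≫ g = x₁ ≫ g) (a : T ⟶ W.left)
    (h₀ : a ≫ W.hom = x₀ ≫ g) (h₁ : a ≫ W.hom = x₁ ≫ g) :
    D.φ x₀ x₁ hx (pt f x₀ a h₀) = pt f x₁ a h₁ := by
  let v : Desc.Lifts ((Desc.toDD g).obj W).obj x₀ := ⟨pullback.lift x₀ a h₀.symm, pullback.lift_fst _ _ _⟩
  refine Subtype.ext ((f.comm x₀ x₁ hx v (pt f x₀ a h₀) rfl).trans ?_)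
  refine congrArg (· ≫ mmap f) ?_
  show pullback.lift x₁ (pullback.lift x₀ a h₀.symm ≫ pullback.snd g W.hom) _ = _
  apply pullback.hom_ext
  · rw [pullback.lift_fst, pullback.lift_fst]
  · rw [pullback.lift_snd, pullback.lift_snd, pullback.lift_snd]

theorem etale_mmap [Etale W.hom] [Etale D.obj.hom] : Etale (mmap f) := by
  haveI : Etale (mmap f ≫ D.obj.hom) := by rw [mmap_w]; infer_instance
  exact Etale.of_comp _ D.obj.hom

end pt

/-- The relation which a morphism from a canonical datum to a separated étale datum defines. -/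
theorem exists_rel (hg : SGA1.UnivSubmersive g) [Etale D.obj.hom] [IsSeparated D.obj.hom]
    {W : Over S} [Etale W.hom] (f : (Desc.toDD g).obj W ⟶ D) :
    ∃ (R : Over S) (s t : R ⟶ W), Etale s.left ∧ Etale t.left ∧ IsClosedImmersion (prod.lift t s).left ∧
      IsEqvRel s t ∧ ∀ {T : Scheme.{u}} (x : T ⟶ S') (a b : Over.mk (x ≫ g) ⟶ W),
        (pt f x a.left (Over.w a)).1 = (pt f x b.left (Over.w b)).1 ↔ ∃ r, r ≫ t = a ∧ r ≫ s = b := by
  haveI : Surjective g := surjective_of_univSubmersive hg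
  let WW : Over S := W ⨯ W
  let π := pullback.snd g WW.hom
  have hπ : SGA1.UnivSubmersive π := univSubmersive_snd hg
  let xx := pullback.fst g WW.hom
  have hxx : xx ≫ g = π ≫ WW.hom := pullback.condition
  have hA : ∀ j : WW ⟶ W, (π ≫ j.left) ≫ W.hom = xx ≫ g := fun j => by rw [Category.assoc, Over.w j, hxx]
  let a₀ := (pt f xx (π ≫ (prod.fst : WW ⟶ W).left) (hA _)).1
  let b₀ := (pt f xx (π ≫ (prod.snd : WW ⟶ W).left) (hA _)).1
  have hw₀ : a₀ ≫ D.obj.hom = b₀ ≫ D.obj.hom :=
    (pt f xx _ (hA _)).2.trans (pt f xx _ (hA _)).2.symm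
  let ab : pullback g WW.hom ⟶ pullback D.obj.hom D.obj.hom := pullback.lift a₀ b₀ hw₀
  let e : pullback (pullback.diagonal D.obj.hom) ab ⟶ pullback g WW.hom := pullback.snd _ _
  haveI : IsOpenImmersion (pullback.diagonal D.obj.hom) := inferInstance
  haveI : IsClosedImmersion (pullback.diagonal D.obj.hom) := IsSeparated.isClosedImmersion_diagonal
  haveI : IsOpenImmersion e := inferInstance
  haveI : IsClosedImmersion e := inferInstance
  have he : ∀ {Z : Scheme.{u}} (h : Z ⟶ pullback g WW.hom),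
      Set.range h ⊆ Set.range e ↔ h ≫ a₀ = h ≫ b₀ := by
    intro Z h
    have h1 : ab ≫ pullback.fst D.obj.hom D.obj.hom = a₀ := pullback.lift_fst _ _ _
    have h2 : ab ≫ pullback.snd D.obj.hom D.obj.hom = b₀ := pullback.lift_snd _ _ _
    have heq : e ≫ a₀ = e ≫ b₀ := by
      rw [← h1, ← h2, ← Category.assoc, ← Category.assoc,
        show e ≫ ab = pullback.fst _ _ ≫ pullback.diagonal D.obj.hom from pullback.condition.symm,
        Category.assoc, Category.assoc, pullback.diagonal_fst, pullback.diagonal_snd]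
    constructor
    · intro hh
      rw [← IsOpenImmersion.lift_fac e h hh, Category.assoc, Category.assoc, heq]
    · intro hh
      let l : Z ⟶ pullback (pullback.diagonal D.obj.hom) ab := pullback.lift (h ≫ a₀) h (by
        refine pullback.hom_ext ?_ ?_
        · rw [Category.assoc, pullback.diagonal_fst, Category.comp_id, Category.assoc, h1]
        · rw [Category.assoc, pullback.diagonal_snd, Category.comp_id, Category.assoc, h2, hh])
      rintro _ ⟨z, rfl⟩
      exact ⟨l z, by rw [← Scheme.Hom.comp_apply, pullback.lift_snd]⟩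
  have hval : ∀ {Z : Scheme.{u}} (h : Z ⟶ pullback g WW.hom) (j : WW ⟶ W) (x : Z ⟶ S') (a : Z ⟶ W.left)
      (hxa : a ≫ W.hom = x ≫ g), h ≫ xx = x → (h ≫ π) ≫ j.left = a →
      h ≫ (pt f xx (π ≫ j.left) (hA j)).1 = (pt f x a hxa).1 := fun h j x a hxa e₁ e₂ => by
    rw [pt_val, pt_val, ← Category.assoc]
    refine congrArg (· ≫ mmap f) (pullback.hom_ext ?_ ?_)
    · rw [Category.assoc, pullback.lift_fst, pullback.lift_fst, e₁]
    · rw [Category.assoc, pullback.lift_snd, pullback.lift_snd, ← e₂, Category.assoc]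
  have hsat : π ⁻¹' (π '' Set.range e) = Set.range e := by
    refine Set.Subset.antisymm ?_ (Set.subset_preimage_image _ _)
    rintro z₁ ⟨z₀, hz₀, hz⟩
    obtain ⟨ω, hω₀, hω₁⟩ := Scheme.Pullback.exists_preimage_pullback (f := π) (g := π) z₀ z₁ hz
    let k := (pullback π π).fromSpecResidueField ω
    let k₀ := k ≫ pullback.fst π π
    let k₁ := k ≫ pullback.snd π π
    have hk : k₀ ≫ π = k₁ ≫ π := by simp only [k₀, k₁, Category.assoc, pullback.condition]
    have hr : Set.range k₀ ⊆ Set.range e := by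
      rintro _ ⟨t, rfl⟩
      show pullback.fst π π (k t) ∈ Set.range e
      rw [Scheme.fromSpecResidueField_apply, hω₀]
      exact hz₀
    have hx : (k₀ ≫ xx) ≫ g = (k₁ ≫ xx) ≫ g := by
      rw [Category.assoc, hxx, ← Category.assoc, hk, Category.assoc, ← hxx, ← Category.assoc]
    have hj : ∀ j : WW ⟶ W, ((k₀ ≫ π) ≫ j.left) ≫ W.hom = (k₀ ≫ xx) ≫ g := fun j => by
      simp only [Category.assoc]
      rw [Over.w j, hxx]
    have hj' : ∀ j : WW ⟶ W, ((k₀ ≫ π) ≫ j.left) ≫ W.hom = (k₁ ≫ xx) ≫ g := fun j => (hj j).trans hx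
    have h₀ : pt f (k₀ ≫ xx) ((k₀ ≫ π) ≫ (prod.fst : WW ⟶ W).left) (hj _) =
        pt f (k₀ ≫ xx) ((k₀ ≫ π) ≫ (prod.snd : WW ⟶ W).left) (hj _) := by
      apply Subtype.ext
      rw [← hval k₀ prod.fst _ _ (hj _) rfl rfl, ← hval k₀ prod.snd _ _ (hj _) rfl rfl]
      exact (he k₀).1 hr
    have h₁ := congrArg (D.φ (k₀ ≫ xx) (k₁ ≫ xx) hx) h₀
    rw [pt_move f _ _ hx _ (hj _) (hj' _), pt_move f _ _ hx _ (hj _) (hj' _)] at h₁
    have h₂ : Set.range k₁ ⊆ Set.range e := by
      refine (he k₁).2 ?_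
      show k₁ ≫ (pt f xx _ (hA _)).1 = k₁ ≫ (pt f xx _ (hA _)).1
      rw [hval k₁ prod.fst _ _ (hj' _) rfl (by rw [hk]), hval k₁ prod.snd _ _ (hj' _) rfl (by rw [hk])]
      exact congrArg Subtype.val h₁
    obtain ⟨p⟩ : Nonempty (Spec ((pullback π π).residueField ω)) := inferInstance
    have hp : k₁ p = z₁ := by
      show pullback.snd π π (k p) = _
      rw [Scheme.fromSpecResidueField_apply, hω₁]
    exact hp ▸ h₂ ⟨p, rfl⟩
  have hqm := isQuotientMap_of_univSubmersive hπ
  have hopen : IsOpen (π '' Set.range e) :=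
    hqm.isOpen_preimage.1 (hsat.symm ▸ e.isOpenEmbedding.isOpen_range)
  have hcl : IsClosed (π '' Set.range e) :=
    hqm.isClosed_preimage.1 (hsat.symm ▸ e.isClosedEmbedding.isClosed_range)
  let R₀ : WW.left.Opens := ⟨π '' Set.range e, hopen⟩
  let R : Over S := Over.mk (R₀.ι ≫ WW.hom)
  let incl : R ⟶ WW := Over.homMk R₀.ι rfl
  let t : R ⟶ W := incl ≫ prod.fst
  let s : R ⟶ W := incl ≫ prod.snd
  have hlift : prod.lift t s = incl := by
    apply Limits.prod.hom_ext <;> simp [t, s, WW]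
  have hmono : ∀ {T : Over S} (r r' : T ⟶ R), r ≫ incl = r' ≫ incl → r = r' := fun r r' hr =>
    Over.OverMorphism.ext ((cancel_mono R₀.ι).1 (congrArg (fun k => Over.Hom.left k) hr))
  have hfac : ∀ {T : Over S} (c : T ⟶ WW),
      Set.range c.left ⊆ (R₀ : Set WW.left) ↔ ∃ r, r ≫ incl = c := by
    intro T c
    constructor
    · intro hc
      let l := IsOpenImmersion.lift R₀.ι c.left (hc.trans R₀.range_ι.ge)
      have hl : l ≫ R₀.ι = c.left := IsOpenImmersion.lift_fac _ _ _
      refine ⟨Over.homMk l ?_, Over.OverMorphism.ext hl⟩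
      show l ≫ R₀.ι ≫ WW.hom = T.hom
      rw [← Category.assoc, hl, Over.w]
    · rintro ⟨r, rfl⟩ _ ⟨z, rfl⟩
      exact (r.left z).2
  have hrel : ∀ {T : Over S} (a b : T ⟶ W),
      (∃ r, r ≫ t = a ∧ r ≫ s = b) ↔ Set.range (prod.lift a b : T ⟶ WW).left ⊆ (R₀ : Set WW.left) := by
    intro T a b
    rw [hfac]
    refine exists_congr fun r => ⟨fun ⟨h₁, h₂⟩ => ?_, fun h => ?_⟩
    · apply Limits.prod.hom_ext
      · rw [Category.assoc, prod.lift_fst]; exact h₁
      · rw [Category.assoc, prod.lift_snd]; exact h₂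
    · exact ⟨(Category.assoc _ _ _).symm.trans ((congrArg (· ≫ prod.fst) h).trans (prod.lift_fst _ _)),
        (Category.assoc _ _ _).symm.trans ((congrArg (· ≫ prod.snd) h).trans (prod.lift_snd _ _))⟩
  have hkey : ∀ {T : Scheme.{u}} (x : T ⟶ S') (a b : Over.mk (x ≫ g) ⟶ W),
      (pt f x a.left (Over.w a)).1 = (pt f x b.left (Over.w b)).1 ↔ ∃ r, r ≫ t = a ∧ r ≫ s = b := by
    intro T x a b
    let c : Over.mk (x ≫ g) ⟶ WW := prod.lift a b
    let l : T ⟶ pullback g WW.hom := pullback.lift x c.left (Over.w c).symm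
    have hl₁ : l ≫ xx = x := pullback.lift_fst _ _ _
    have hl₂ : l ≫ π = c.left := pullback.lift_snd _ _ _
    have e₁ : (l ≫ π) ≫ (prod.fst : WW ⟶ W).left = a.left := by
      rw [hl₂, ← Over.comp_left, prod.lift_fst]
    have e₂ : (l ≫ π) ≫ (prod.snd : WW ⟶ W).left = b.left := by
      rw [hl₂, ← Over.comp_left, prod.lift_snd]
    rw [hrel, ← hval l prod.fst x a.left (Over.w a) hl₁ e₁, ← hval l prod.snd x b.left (Over.w b) hl₁ e₂]
    refine (he l).symm.trans ?_
    show _ ↔ Set.range c.left ⊆ π '' Set.range e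
    constructor
    · rintro h _ ⟨z, rfl⟩
      exact ⟨l z, h ⟨z, rfl⟩, (Scheme.Hom.comp_apply _ _ _).symm.trans (congrArg (fun m => m z) hl₂)⟩
    · rintro h _ ⟨z, rfl⟩
      rw [← hsat, Set.mem_preimage, ← Scheme.Hom.comp_apply, hl₂]
      exact h ⟨z, rfl⟩
  have hcompare : ∀ {T : Over S} (a b : T ⟶ W),
      (∃ r, r ≫ t = a ∧ r ≫ s = b) ↔
        ∀ (ha : (pullback.snd g T.hom ≫ a.left) ≫ W.hom = pullback.fst g T.hom ≫ g)
          (hb : (pullback.snd g T.hom ≫ b.left) ≫ W.hom = pullback.fst g T.hom ≫ g),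
          (pt f (pullback.fst g T.hom) (pullback.snd g T.hom ≫ a.left) ha).1 =
            (pt f (pullback.fst g T.hom) (pullback.snd g T.hom ≫ b.left) hb).1 := by
    intro T a b
    let ε : Over.mk (pullback.fst g T.hom ≫ g) ⟶ T := Over.homMk (pullback.snd g T.hom) pullback.condition.symm
    have hw : ∀ j : T ⟶ W, (pullback.snd g T.hom ≫ j.left) ≫ W.hom = pullback.fst g T.hom ≫ g :=
      fun j => Over.w (ε ≫ j)
    have hk := hkey (pullback.fst g T.hom) (ε ≫ a) (ε ≫ b)
    refine ⟨fun ⟨r, h₁, h₂⟩ _ _ => hk.2 ⟨ε ≫ r, by rw [Category.assoc, h₁], by rw [Category.assoc, h₂]⟩,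
      fun h => ?_⟩
    have hr := hk.1 (h (hw a) (hw b))
    rw [hrel] at hr ⊢
    rintro _ ⟨z, rfl⟩
    obtain ⟨z', rfl⟩ := (pullback.snd g T.hom).surjective z
    refine hr ⟨z', ?_⟩
    rw [← prod.comp_lift, Over.comp_left, Scheme.Hom.comp_apply]
    rfl
  have hW : Etale (prod.fst : W ⨯ W ⟶ W).left ∧ Etale (prod.snd : W ⨯ W ⟶ W).left := by
    rw [← Over.prodLeftIsoPullback_hom_fst, ← Over.prodLeftIsoPullback_hom_snd]
    exact ⟨inferInstance, inferInstance⟩
  refine ⟨R, s, t, ?_, ?_, ?_, ⟨fun T r r' e₁ e₂ => hmono r r' ?_, fun T => ⟨fun a => ?_, ?_, ?_⟩⟩,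
    hkey⟩
  · have := hW.2
    exact inferInstanceAs (Etale (R₀.ι ≫ (prod.snd : W ⨯ W ⟶ W).left))
  · have := hW.1
    exact inferInstanceAs (Etale (R₀.ι ≫ (prod.fst : W ⨯ W ⟶ W).left))
  · rw [hlift]
    exact IsClosedImmersion.of_isPreimmersion R₀.ι (R₀.range_ι.symm ▸ hcl)
  · apply Limits.prod.hom_ext
    · simpa [t] using e₁
    · simpa [s] using e₂
  · exact (hcompare a a).2 fun _ _ => rfl
  · exact fun h => (hcompare _ _).2 fun ha hb => ((hcompare _ _).1 h hb ha).symm
  · intro a b c h h'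
    exact (hcompare _ _).2 fun ha hc =>
      ((hcompare _ _).1 h ha ((Category.assoc _ _ _).trans (by rw [Over.w b]; exact pullback.condition.symm))).trans
        ((hcompare _ _).1 h' _ hc)

/-- A separated étale descent datum covered by an étale scheme over the base is effective. -/
theorem exists_effective_of_cover (hg : SGA1.UnivSubmersive g) [Etale D.obj.hom] [IsSeparated D.obj.hom]
    {W : Over S} [Etale W.hom] (f : (Desc.toDD g).obj W ⟶ D) [Surjective f.hom.left] :
    ∃ U : Over S, IsSeparated U.hom ∧ Etale U.hom ∧ Nonempty ((Desc.toDD g).obj U ≅ D) := by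
  obtain ⟨R, s, t, hs, ht, hcl, heqv, hkey⟩ := exists_rel hg f
  obtain ⟨X, p, _, sq⟩ := exists_quotient_sheaf heqv
  obtain ⟨hX, hpe, hps⟩ := isAlgSpace_of_epi_etale sq
  let T₀ : Over S := Over.mk (𝟙 S)
  have hterm : IsTerminal ((yon S).obj T₀) := IsTerminal.isTerminalObj (yon S) _ Over.mkIdTerminal
  let π : X ⟶ (yon S).obj T₀ := hterm.from X
  have := lqf_of_etale W.hom
  have hqf : LocP (@LocallyQuasiFinite ⊓ @LocallyOfFiniteType) π := by
    refine locP_of_one_chart (etLocal_inf etLocal_lqf etLocal_lft) (b := 𝟙 _) (Over.mkIdTerminal.from W)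
      hpe hps ?_ (hterm.hom_ext _ _) ?_
    · exact repWith_id _ T₀
    · have e : (Over.mkIdTerminal.from W).left = W.hom :=
        (Category.comp_id _).symm.trans (Over.w (Over.mkIdTerminal.from W))
      rw [e]
      exact ⟨‹_›, inferInstance⟩
  have hdiag : RepWith @IsClosedImmersion (Limits.diag X) := by
    refine repWith_of_fppf_base (Qc := fppfMor) hX.diag ?_ (isPullback_diag_prodHom sq)
      ((repWith_yon_map_iff _ _).2 hcl)
    exact MorphismProperty.RespectsIso.precomp _ _ _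
      (repWith_fppf_of_etale (repWith_prodMap hpe hpe) (repWith_prodMap hps hps))
  have hsep : IsSeparatedMor π := by
    let c : X ⨯ X ⟶ pullback π π := pullback.lift prod.fst prod.snd (hterm.hom_ext _ _)
    have hc : pullback.diagonal π = Limits.diag X ≫ c := by
      apply pullback.hom_ext <;> simp [c]
    have : IsIso c := ⟨prod.lift (pullback.fst π π) (pullback.snd π π),
      by apply Limits.prod.hom_ext <;> simp [c], by apply pullback.hom_ext <;> simp [c]⟩
    show RepWith @IsClosedImmersion (pullback.diagonal π)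
    rw [hc]
    exact MorphismProperty.RespectsIso.postcomp _ _ _ hdiag
  obtain ⟨Q, γ, μ, hμ, hγ⟩ := exists_iso_of_lqf_separated hX hsep hqf
  haveI hQs : IsSeparated Q.hom := by
    have h1 : IsSeparatedMor ((yon S).map γ) := hγ ▸
      MorphismProperty.RespectsIso.precomp (P := (RepWith (S := S) @IsClosedImmersion).diagonal) μ π hsep
    have e : γ.left = Q.hom := (Category.comp_id _).symm.trans (Over.w γ)
    exact e ▸ (isSeparatedMor_yon_map_iff γ).1 h1
  obtain ⟨q, hq⟩ := (yon S).map_surjective (p ≫ inv μ)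
  have hqe : Etale q.left := (repWith_yon_map_iff _ q).1 (by
    rw [hq]; exact MorphismProperty.RespectsIso.postcomp _ _ _ hpe)
  have hqs : Surjective q.left := (repWith_yon_map_iff _ q).1 (by
    rw [hq]; exact MorphismProperty.RespectsIso.postcomp _ _ _ hps)
  haveI : Etale (q.left ≫ Q.hom) := by rw [Over.w q]; infer_instance
  have hQ : Etale Q.hom := EtaleSource.etale' q.left Q.hom
  have hpq : (yon S).map q ≫ μ = p := by simp [hq]
  have hker : ∀ {T : Over S} (a b : T ⟶ W), a ≫ q = b ≫ q ↔ ∃ r, r ≫ t = a ∧ r ≫ s = b := by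
    intro T a b
    constructor
    · intro h
      obtain ⟨r, h₁, h₂⟩ := sq.exists_lift ((yon S).map a) ((yon S).map b) (by
        rw [← hpq, ← Functor.map_comp_assoc, h, Functor.map_comp_assoc])
      obtain ⟨r, rfl⟩ := (yon S).map_surjective r
      exact ⟨r, (yon S).map_injective (by rw [Functor.map_comp, h₁]),
        (yon S).map_injective (by rw [Functor.map_comp, h₂])⟩
    · rintro ⟨r, rfl, rfl⟩
      apply (yon S).map_injective
      rw [Functor.map_comp, ← cancel_mono μ, Category.assoc, hpq, Functor.map_comp _ r,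
        Category.assoc, sq.w]
      simp [hpq]
  let fq : pullback g W.hom ⟶ pullback g Q.hom := ((Desc.toDD g).map q).hom.left
  have hfq₁ : fq ≫ pullback.fst g Q.hom = pullback.fst g W.hom := Over.w ((Desc.toDD g).map q).hom
  have hfq₂ : fq ≫ pullback.snd g Q.hom = pullback.snd g W.hom ≫ q.left := (H13Desc.Eff.isPullback_map g q).w
  haveI : Etale fq := MorphismProperty.of_isPullback (P := @Etale) (H13Desc.Eff.isPullback_map g q).flip hqe
  haveI : Surjective fq := MorphismProperty.of_isPullback (P := @Surjective) (H13Desc.Eff.isPullback_map g q).flip hqs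
  haveI : Etale (mmap f) := etale_mmap f
  haveI : Surjective (mmap f) := ‹Surjective f.hom.left›
  have hsame : ∀ {T : Scheme.{u}} (z₁ z₂ : T ⟶ pullback g W.hom),
      z₁ ≫ fq = z₂ ≫ fq ↔ z₁ ≫ mmap f = z₂ ≫ mmap f := by
    intro T z₁ z₂
    by_cases hx : z₁ ≫ pullback.fst g W.hom = z₂ ≫ pullback.fst g W.hom
    · let x := z₁ ≫ pullback.fst g W.hom
      let a : Over.mk (x ≫ g) ⟶ W := Over.homMk (z₁ ≫ pullback.snd g W.hom) (by
        simp [x, pullback.condition])
      let b : Over.mk (x ≫ g) ⟶ W := Over.homMk (z₂ ≫ pullback.snd g W.hom) (by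
        show (z₂ ≫ pullback.snd g W.hom) ≫ W.hom = (z₁ ≫ pullback.fst g W.hom) ≫ g
        rw [hx, Category.assoc, Category.assoc, pullback.condition])
      have e₁ : (pt f x a.left (Over.w a)).1 = z₁ ≫ mmap f :=
        congrArg (· ≫ mmap f) (pullback.hom_ext (pullback.lift_fst _ _ _) (pullback.lift_snd _ _ _))
      have e₂ : (pt f x b.left (Over.w b)).1 = z₂ ≫ mmap f :=
        congrArg (· ≫ mmap f)
          (pullback.hom_ext ((pullback.lift_fst _ _ _).trans hx) (pullback.lift_snd _ _ _))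
      rw [← e₁, ← e₂, hkey x a b, ← hker]
      constructor
      · intro h
        refine Over.OverMorphism.ext ?_
        have := congrArg (· ≫ pullback.snd g Q.hom) h
        simpa [a, b, hfq₂] using this
      · intro h
        refine pullback.hom_ext ?_ ?_
        · simp only [Category.assoc, hfq₁, hx]
        · have := congrArg (fun k => Over.Hom.left k) h
          simpa [a, b, hfq₂] using this
    · constructor <;> intro h <;> exfalso <;> apply hx
      · simpa [hfq₁] using congrArg (· ≫ pullback.fst g Q.hom) h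
      · rw [← mmap_w f, ← Category.assoc, h, Category.assoc]
  let k : pullback g Q.hom ⟶ D.obj.left :=
    EffectiveEpi.desc fq (mmap f) fun z₁ z₂ h => (hsame z₁ z₂).1 h
  have hk : fq ≫ k = mmap f := EffectiveEpi.fac _ _ _
  let k' : D.obj.left ⟶ pullback g Q.hom :=
    EffectiveEpi.desc (mmap f) fq fun z₁ z₂ h => (hsame z₁ z₂).2 h
  have hk' : mmap f ≫ k' = fq := EffectiveEpi.fac _ _ _
  haveI : IsIso k := ⟨k', (cancel_epi fq).1 (by rw [reassoc_of% hk, hk', Category.comp_id]),
    (cancel_epi (mmap f)).1 (by rw [reassoc_of% hk', hk, Category.comp_id])⟩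
  have hkw : k ≫ D.obj.hom = pullback.fst g Q.hom := by
    rw [← cancel_epi fq, reassoc_of% hk, mmap_w, hfq₁]
  let kk : (Desc.toDD g).obj Q ⟶ D := ⟨Over.homMk k hkw, fun T x₀ x₁ hx v w hw => by
    show (D.φ x₀ x₁ hx w).1 = pullback.lift x₁ (v.1 ≫ pullback.snd g Q.hom) _ ≫ k
    let v₁ : T ⟶ pullback g Q.hom := v.1
    let t' : pullback v₁ fq ⟶ T := pullback.fst v₁ fq
    let z : pullback v₁ fq ⟶ pullback g W.hom := pullback.snd v₁ fq
    have hz : z ≫ fq = t' ≫ v₁ := pullback.condition.symm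
    rw [← cancel_epi t']
    have hx' : (t' ≫ x₀) ≫ g = (t' ≫ x₁) ≫ g := by rw [Category.assoc, Category.assoc, hx]
    have hz₀ : z ≫ pullback.fst g W.hom = t' ≫ x₀ := by
      rw [← hfq₁, reassoc_of% hz]; exact congrArg (t' ≫ ·) v.2
    have ha : (z ≫ pullback.snd g W.hom) ≫ W.hom = (t' ≫ x₀) ≫ g := by
      rw [← hz₀, Category.assoc, Category.assoc, pullback.condition]
    have ew : (pt f (t' ≫ x₀) _ ha).1 = t' ≫ w.1 := by
      rw [pt_val, hw, show pullback.lift (t' ≫ x₀) (z ≫ pullback.snd g W.hom) ha.symm = z from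
        pullback.hom_ext (by rw [pullback.lift_fst, hz₀]) (pullback.lift_snd _ _ _), ← hk, ← Category.assoc,
        ← Category.assoc, hz]
      rfl
    rw [← D.φ_natural t' x₀ x₁ hx hx' w _ ew, pt_move f _ _ hx' _ ha (ha.trans hx'), pt_val, ← hk,
      ← Category.assoc, ← Category.assoc]
    refine congrArg (· ≫ k) (pullback.hom_ext ?_ ?_)
    · rw [Category.assoc, hfq₁, pullback.lift_fst, Category.assoc, pullback.lift_fst]
    · rw [Category.assoc, hfq₂, pullback.lift_snd_assoc, Category.assoc]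
      exact (congrArg (z ≫ ·) hfq₂.symm).trans (((reassoc_of% hz) (pullback.snd g Q.hom)).trans
        ((congrArg (t' ≫ ·) (pullback.lift_snd _ _ _).symm).trans (Category.assoc _ _ _).symm))⟩
  haveI : IsIso kk.hom := by
    haveI : IsIso ((Over.forget S').map kk.hom) := inferInstanceAs (IsIso k)
    exact isIso_of_reflects_iso kk.hom (Over.forget S')
  exact ⟨Q, hQs, hQ, ⟨H13Desc.Eff.ddIso kk⟩⟩

end Groth.Agent.H15Subtr
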