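import Groth.Agent.H15Subtr.EtExtend
import Groth.Agent.H15Subtr.EtQuot
import Groth.Agent.H15Subtr.EtDescended
import Groth.Agent.H13Desc.Eff.Saturate

/-!
# Transfer and gluing of charts of an étale descent datum
-/

set_option autoImplicit false
set_option linter.style.haveILetI false
set_option backward.isDefEq.respectTransparency false

universe u

open CategoryTheory CategoryTheory.Limits AlgebraicGeometry

namespace Groth.Agent.H15Subtr

open H13Desc.Eff

variable {S' S : Scheme.{u}} {g : S' ⟶ S}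

/-- Every point of a datum is hit by a morphism from the canonical datum of an étale scheme over the base. -/
def HasCharts (D : Desc.SchDD g) : Prop :=
  ∀ u : D.obj.left, ∃ (W : Over S) (f : (Desc.toDD g).obj W ⟶ D), Etale W.hom ∧ u ∈ Set.range (mmap f)

/-- A descent datum with étale charts is effective. -/
theorem exists_effective_of_charts (hg : SGA1.UnivSubmersive g) (D : Desc.SchDD g) [Etale D.obj.hom]
    [IsSeparated D.obj.hom] (hD : HasCharts D) :
    ∃ U : Over S, IsSeparated U.hom ∧ Etale U.hom ∧ Nonempty ((Desc.toDD g).obj U ≅ D) := by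
  choose W f hW hu using hD
  let Z : D.obj.left → Scheme.{u} := fun u => (W u).left
  let WW : Over S := Over.mk (Sigma.desc fun u => (W u).hom)
  haveI : Etale WW.hom :=
    (IsZariskiLocalAtSource.iff_of_openCover (P := @Etale) (sigmaOpenCover Z)).2 fun u => by
      change Etale (Sigma.ι Z u ≫ Sigma.desc fun u => (W u).hom)
      rw [Sigma.ι_desc]
      exact hW u
  let 𝒰 := Scheme.Pullback.openCoverOfRight (sigmaOpenCover Z) g WW.hom
  have hι : ∀ u, Sigma.ι Z u ≫ WW.hom = (W u).hom := fun u => Sigma.ι_desc _ _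
  let ν : ∀ u, pullback g (Sigma.ι Z u ≫ WW.hom) ⟶ pullback g (W u).hom := fun u =>
    pullback.lift (pullback.fst _ _) (pullback.snd _ _) (pullback.condition.trans (congrArg _ (hι u)))
  let κ : ∀ u, pullback g (W u).hom ⟶ pullback g WW.hom := fun u =>
    pullback.lift (pullback.fst _ _) (pullback.snd _ _ ≫ Sigma.ι Z u) (by
      rw [Category.assoc, hι, pullback.condition])
  let m : pullback g WW.hom ⟶ D.obj.left := 𝒰.glueMorphisms (fun u => ν u ≫ mmap (f u)) fun u v => by
    rcases eq_or_ne u v with rfl | huv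
    · haveI : Mono (𝒰.f u) := inferInstance
      have h : pullback.fst (𝒰.f u) (𝒰.f u) = pullback.snd (𝒰.f u) (𝒰.f u) :=
        (cancel_mono (𝒰.f u)).1 pullback.condition
      show pullback.fst (𝒰.f u) (𝒰.f u) ≫ _ = pullback.snd (𝒰.f u) (𝒰.f u) ≫ _
      rw [h]
    · haveI : IsEmpty ↥(pullback (𝒰.f u) (𝒰.f v)) :=
        isEmpty_of_commSq_sigmaι_of_ne (g := Z) (i := u) (j := v)
          (a := pullback.fst (𝒰.f u) (𝒰.f v) ≫ pullback.snd g _)
          (b := pullback.snd (𝒰.f u) (𝒰.f v) ≫ pullback.snd g _) ⟨by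
            have hs : ∀ x, 𝒰.f x ≫ pullback.snd g WW.hom = pullback.snd g _ ≫ Sigma.ι Z x :=
              fun x => pullback.lift_snd _ _ _
            rw [Category.assoc, Category.assoc, ← hs, ← hs, pullback.condition_assoc]⟩ huv
      exact isInitialOfIsEmpty.hom_ext _ _
  have hκ : ∀ u, κ u ≫ m = mmap (f u) := fun u => by
    let inv' : pullback g (W u).hom ⟶ pullback g (Sigma.ι Z u ≫ WW.hom) :=
      pullback.lift (pullback.fst _ _) (pullback.snd _ _) (pullback.condition.trans (congrArg _ (hι u).symm))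
    have h1 : κ u = inv' ≫ 𝒰.f u := by
      apply pullback.hom_ext
      · simp [κ, inv', 𝒰]; exact (pullback.lift_fst _ _ _).symm
      · simp [κ, inv', 𝒰]; exact ((pullback.lift_snd_assoc _ _ _ _)).symm
    have h2 : inv' ≫ ν u = 𝟙 _ := by apply pullback.hom_ext <;> simp [inv', ν]
    rw [h1, Category.assoc, Scheme.Cover.ι_glueMorphisms, reassoc_of% h2]
  have hm : m ≫ D.obj.hom = pullback.fst g WW.hom := 𝒰.hom_ext _ _ fun u => by
    rw [← Category.assoc, Scheme.Cover.ι_glueMorphisms, Category.assoc, mmap_w]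
    simp [ν, 𝒰]
    rfl
  let ff : (Desc.toDD g).obj WW ⟶ D := ⟨Over.homMk m hm, fun T x₀ x₁ h v w hw => by
    show (D.φ x₀ x₁ h w).1 = pullback.lift x₁ (v.1 ≫ pullback.snd g WW.hom) _ ≫ m
    let z : T ⟶ pullback g WW.hom := v.1
    have hz : z ≫ pullback.fst g WW.hom = x₀ := v.2
    let a : T ⟶ ∐ Z := z ≫ pullback.snd g WW.hom
    refine Scheme.Cover.hom_ext ((sigmaOpenCover Z).pullback₁ a) _ _ fun u => ?_
    let t := pullback.fst a (Sigma.ι Z u)
    let e := pullback.snd a (Sigma.ι Z u)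
    have hte : t ≫ a = e ≫ Sigma.ι Z u := pullback.condition
    show t ≫ (D.φ x₀ x₁ h w).1 = t ≫ _
    have hh : (t ≫ x₀) ≫ g = (t ≫ x₁) ≫ g := by rw [Category.assoc, Category.assoc, h]
    have he : e ≫ (W u).hom = (t ≫ x₀) ≫ g := by
      rw [← hι, ← reassoc_of% hte, Category.assoc, ← hz]
      simp only [a, Category.assoc, pullback.condition]
    have hval : ∀ (x : pullback a (Sigma.ι Z u) ⟶ S') (hx : e ≫ (W u).hom = x ≫ g)
        (z' : pullback a (Sigma.ι Z u) ⟶ pullback g WW.hom), z' ≫ pullback.fst g WW.hom = x →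
        z' ≫ pullback.snd g WW.hom = e ≫ Sigma.ι Z u → z' ≫ m = (pt (f u) x e hx).1 := fun x hx z' h₁ h₂ => by
      have : z' = pullback.lift x e hx.symm ≫ κ u := by
        apply pullback.hom_ext
        · rw [h₁, Category.assoc, pullback.lift_fst, pullback.lift_fst]
        · rw [h₂, Category.assoc, pullback.lift_snd, pullback.lift_snd_assoc]
      rw [this, Category.assoc, hκ, pt_val]
    rw [← D.φ_natural t x₀ x₁ h hh w (pt (f u) (t ≫ x₀) e he) (by
        rw [hw]
        show _ = t ≫ z ≫ m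
        rw [← hval _ he (t ≫ z) (by rw [Category.assoc, hz]) (by rw [Category.assoc]; exact hte), Category.assoc]),
      pt_move (f u) _ _ hh e he (he.trans hh), ← Category.assoc]
    refine (hval _ _ _ (by rw [Category.assoc, pullback.lift_fst]) ?_).symm
    rw [Category.assoc, pullback.lift_snd]
    exact hte⟩
  haveI : Surjective ff.hom.left := ⟨fun u => by
    obtain ⟨z, hz⟩ := hu u
    exact ⟨κ u z, (Scheme.Hom.comp_apply _ _ _).symm.trans ((congrArg (fun k => k z) (hκ u)).trans hz)⟩⟩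
  exact exists_effective_of_cover hg ff

/-- The descended scheme of a quasi-compact datum is quasi-compact. -/
theorem quasiCompact_of_iso [QuasiCompact g] [Surjective g] {D : Desc.SchDD g} [QuasiCompact D.obj.hom]
    {U : Over S} (e : (Desc.toDD g).obj U ≅ D) : QuasiCompact U.hom := by
  have he : e.hom.hom.left ≫ D.obj.hom = pullback.fst g U.hom := Over.w e.hom.hom
  haveI : QuasiCompact (pullback.fst g U.hom) := by rw [← he]; infer_instance
  haveI : QuasiCompact (pullback.snd g U.hom ≫ U.hom) := by rw [← pullback.condition]; infer_instance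
  refine ⟨fun V hV hVc => ?_⟩
  have h := (pullback.snd g U.hom ≫ U.hom).isCompact_preimage (U := ⟨V, hV⟩) hVc
  replace h : IsCompact ((pullback.snd g U.hom) ⁻¹' (U.hom ⁻¹' V)) := h
  exact Set.image_preimage_eq (U.hom ⁻¹' V) (pullback.snd g U.hom).surjective ▸
    h.image (pullback.snd g U.hom).continuous

/-- Charts of a datum pulled back to a refinement give charts. -/
theorem exists_chart_of_ref (D : Desc.SchDD g) [Etale D.obj.hom] [IsSeparated D.obj.hom] {X V : Scheme.{u}}
    (h : X ⟶ S') (p : X ⟶ V) (q : V ⟶ S) [IsOpenImmersion q] (w : h ≫ g = p ≫ q) (hp : SGA1.UnivSubmersive p)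
    {W' : Over V} [Etale W'.hom] (f' : (Desc.toDD p).obj W' ⟶ pullRef D h p q w)
    (u' : ↥(pullback D.obj.hom h)) (hu' : u' ∈ Set.range (mmap f')) :
    ∃ (W : Over S) (f : (Desc.toDD g).obj W ⟶ D), Etale W.hom ∧ pullback.fst D.obj.hom h u' ∈ Set.range (mmap f) := by
  let W : Over S := Over.mk (W'.hom ≫ q)
  haveI : Etale W.hom := inferInstanceAs (Etale (W'.hom ≫ q))
  let ν : pullback (h ≫ g) W.hom ⟶ pullback p W'.hom := pullback.lift (pullback.fst _ _) (pullback.snd _ _) (by
    refine (cancel_mono q).1 ?_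
    rw [Category.assoc, ← w, Category.assoc]
    exact pullback.condition)
  let ν' : pullback p W'.hom ⟶ pullback (h ≫ g) W.hom := pullback.lift (pullback.fst _ _) (pullback.snd _ _) (by
    show _ = pullback.snd p W'.hom ≫ W'.hom ≫ q
    rw [w, ← Category.assoc, pullback.condition, Category.assoc])
  haveI : IsIso ν := ⟨ν', by apply pullback.hom_ext <;> simp [ν, ν'], by apply pullback.hom_ext <;> simp [ν, ν']⟩
  have hq : SGA1.UnivSubmersive (pullback.snd (h ≫ g) W.hom) := by
    have e : pullback.snd (h ≫ g) W.hom = ν ≫ pullback.snd p W'.hom := (pullback.lift_snd _ _ _).symm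
    haveI : SGA1.UnivSubmersive.{u}.RespectsIso := MorphismProperty.IsStableUnderBaseChange.respectsIso
    rw [e, MorphismProperty.cancel_left_of_respectsIso SGA1.UnivSubmersive]
    exact univSubmersive_snd hp
  have hw' : mmap f' ≫ pullback.snd D.obj.hom h = pullback.fst p W'.hom := mmap_w f'
  let m : pullback (h ≫ g) W.hom ⟶ D.obj.left := ν ≫ mmap f' ≫ pullback.fst D.obj.hom h
  have hm : m ≫ D.obj.hom = pullback.fst (h ≫ g) W.hom ≫ h := by
    simp only [m, Category.assoc]
    rw [pullback.condition]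
    exact (congrArg (ν ≫ ·) ((reassoc_of% hw') h)).trans ((reassoc_of% (pullback.lift_fst _ _ _ :
      ν ≫ pullback.fst p W'.hom = pullback.fst (h ≫ g) W.hom)) h)
  obtain ⟨f, hf⟩ := exists_hom_of_refinement h W hq m hm fun T l₀ l₁ hx hl => by
    let z₀ := l₀ ≫ ν
    let z₁ := l₁ ≫ ν
    have hz : ∀ l : T ⟶ pullback (h ≫ g) W.hom, (l ≫ ν) ≫ pullback.fst p W'.hom = l ≫ pullback.fst (h ≫ g) W.hom :=
      fun l => by rw [Category.assoc, pullback.lift_fst]
    have hzs : z₀ ≫ pullback.snd p W'.hom = z₁ ≫ pullback.snd p W'.hom := by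
      simp only [z₀, z₁, ν, Category.assoc, pullback.lift_snd]; exact hl
    have e : (z₀ ≫ pullback.fst p W'.hom) ≫ p = (z₁ ≫ pullback.fst p W'.hom) ≫ p := by
      rw [Category.assoc, pullback.condition, ← Category.assoc, hzs, Category.assoc, ← pullback.condition,
        ← Category.assoc]
    have hc := f'.comm _ _ e (⟨z₀, rfl⟩ : Desc.Lifts ((Desc.toDD p).obj W').obj (z₀ ≫ pullback.fst p W'.hom))
      ⟨z₀ ≫ mmap f', by rw [Category.assoc]; exact congrArg (z₀ ≫ ·) hw'⟩ rfl
    have h2 : ((((Desc.toDD p).obj W').φ _ _ e) ⟨z₀, rfl⟩).1 = z₁ :=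
      pullback.hom_ext (pullback.lift_fst _ _ _) ((pullback.lift_snd _ _ _).trans hzs)
    rw [h2] at hc
    refine Eq.trans ?_ (((pullRef_fst D h p q w _ _ e ⟨z₀ ≫ mmap f', by
      rw [Category.assoc]; exact congrArg (z₀ ≫ ·) hw'⟩).symm.trans
      (congrArg (· ≫ pullback.fst D.obj.hom h) hc)).trans ?_)
    · exact phi_congr'' D (by rw [hz, Category.assoc]) (by rw [hz, Category.assoc]) _ _ _ _ (by
        show l₀ ≫ m = (z₀ ≫ mmap f') ≫ _
        simp only [m, z₀, Category.assoc])
    · show (z₁ ≫ mmap f') ≫ _ = l₁ ≫ m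
      simp only [m, z₁, Category.assoc]
  obtain ⟨z, hz⟩ := hu'
  let l : pullback (h ≫ g) W.hom ⟶ pullback g W.hom :=
    pullback.lift (pullback.fst _ _ ≫ h) (pullback.snd _ _) (by rw [Category.assoc, pullback.condition])
  have hl : l ≫ mmap f = m := hf l (pullback.lift_fst _ _ _) (pullback.lift_snd _ _ _)
  refine ⟨W, f, inferInstance, l (ν' z), ?_⟩
  have hνν : ν' ≫ ν = 𝟙 _ := by apply pullback.hom_ext <;> simp [ν, ν']
  have hcomp : ν' ≫ l ≫ mmap f = mmap f' ≫ pullback.fst D.obj.hom h := by rw [hl, reassoc_of% hνν]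
  rw [← hz]
  exact ((Scheme.Hom.comp_apply _ _ _).symm.trans (Scheme.Hom.comp_apply _ _ _).symm).trans
    ((congrArg (fun k => k z) hcomp).trans (Scheme.Hom.comp_apply _ _ _))

/-- A morphism into the restriction to an invariant open gives one into the datum. -/
theorem exists_chart_of_restrict {D : Desc.SchDD g} {O : D.obj.left.Opens} (hO : Saturated D O) {W : Over S}
    [Etale W.hom] (f : (Desc.toDD g).obj W ⟶ restrict hO) (z : O.toScheme) (hz : z ∈ Set.range (mmap f)) :
    ∃ (W : Over S) (f : (Desc.toDD g).obj W ⟶ D), Etale W.hom ∧ O.ι z ∈ Set.range (mmap f) := by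
  obtain ⟨a, rfl⟩ := hz
  exact ⟨W, f ≫ restrictIncl hO, ‹_›, a, Scheme.Hom.comp_apply (mmap f) O.ι a⟩

section Sat

variable (D : Desc.SchDD g) [UniversallyOpen g]

theorem isOpenMap_src' : IsOpenMap (src D) := by
  unfold src
  haveI : UniversallyOpen (pullback.fst (D.obj.hom ≫ g) g) := MorphismProperty.pullback_fst _ _ ‹_›
  exact (pullback.fst (D.obj.hom ≫ g) g).isOpenMap

theorem isOpenMap_act' : IsOpenMap (act D) := by
  rw [← swap_src, Scheme.Hom.comp_base, TopCat.coe_comp]
  exact (isOpenMap_src' D).comp (swap D).homeomorph.isOpenMap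

/-- The saturation of an open, for a universally open morphism. -/
noncomputable def satOpen (U : D.obj.left.Opens) : D.obj.left.Opens :=
  ⟨act D '' (src D ⁻¹' (U : Set D.obj.left)), isOpenMap_act' D _ (U.2.preimage (src D).continuous)⟩

variable {D}

theorem le_satOpen (U : D.obj.left.Opens) : U ≤ satOpen D U := by
  intro v hv
  refine ⟨pullback.lift (𝟙 _) D.obj.hom (by rw [Category.id_comp]) v, ?_, ?_⟩
  · show (pullback.lift (𝟙 _) D.obj.hom _ ≫ pullback.fst (D.obj.hom ≫ g) g) v ∈ U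
    rw [pullback.lift_fst]
    exact hv
  · rw [← Scheme.Hom.comp_apply, ← phi_eq_act D D.obj.hom D.obj.hom rfl ⟨𝟙 _, Category.id_comp _⟩,
      D.φ_self]
    rfl

theorem saturated_satOpen (U : D.obj.left.Opens) : Saturated D (satOpen D U) := by
  rintro T x₀ x₁ h v hv _ ⟨z, rfl⟩
  obtain ⟨q, hq, hqz⟩ := hv ⟨z, rfl⟩
  obtain ⟨π, hπ₀, hπ₁⟩ := Scheme.Pullback.exists_preimage_pullback (f := v.1) (g := act D) z q hqz.symm
  let t : pullback v.1 (act D) ⟶ T := pullback.fst _ _
  let k : pullback v.1 (act D) ⟶ Rel₂ D := pullback.snd _ _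
  let y₀ := k ≫ src D ≫ D.obj.hom
  let u₀ : Desc.Lifts D.obj y₀ := ⟨k ≫ src D, Category.assoc _ _ _⟩
  have hgk : t ≫ v.1 = k ≫ act D := pullback.condition
  have e : k ≫ pullback.snd (D.obj.hom ≫ g) g = t ≫ x₀ := by
    rw [← act_hom, ← reassoc_of% hgk, v.2]
  have h₀ : y₀ ≫ g = (t ≫ x₀) ≫ g := by
    rw [← e]
    simp only [y₀, Category.assoc]
    congr 1
    simpa [Category.assoc] using act_compat D
  have h₁ : (t ≫ x₀) ≫ g = (t ≫ x₁) ≫ g := by rw [Category.assoc, Category.assoc, h]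
  have hu : (D.φ y₀ (t ≫ x₀) h₀ u₀).1 = t ≫ v.1 := by
    rw [phi_eq_act, hgk]
    congr 1
    exact pullback.hom_ext (pullback.lift_fst _ _ _) ((pullback.lift_snd _ _ _).trans e.symm)
  have key : t ≫ (D.φ x₀ x₁ h v).1 =
      pullback.lift (k ≫ src D) (t ≫ x₁) (pair_compat D (h₀.trans h₁) u₀) ≫ act D := by
    rw [← phi_eq_act D y₀ (t ≫ x₁) (h₀.trans h₁) u₀, ← D.φ_comp y₀ (t ≫ x₀) (t ≫ x₁) h₀ h₁]
    exact (D.φ_natural t x₀ x₁ h h₁ v _ hu).symm
  refine ⟨pullback.lift (k ≫ src D) (t ≫ x₁) (pair_compat D (h₀.trans h₁) u₀) π, ?_, ?_⟩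
  · show (_ ≫ pullback.fst (D.obj.hom ≫ g) g) π ∈ U
    rw [pullback.lift_fst, Scheme.Hom.comp_apply, hπ₁]
    exact hq
  · rw [← Scheme.Hom.comp_apply, ← key, Scheme.Hom.comp_apply, hπ₀]

theorem isCompact_satOpen [QuasiCompact g] {U : D.obj.left.Opens} (hU : IsCompact (U : Set D.obj.left)) :
    IsCompact (satOpen D U : Set D.obj.left) := by
  have : QuasiCompact (src D) := by unfold src; infer_instance
  exact (QuasiCompact.isCompact_preimage (f := src D) _ U.2 hU).image (act D).continuous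

end Sat

end Groth.Agent.H15Subtr
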