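import Groth.Prelude.Def_W4c2submetdescSubtr
import Mathlib.AlgebraicGeometry.Morphisms.UniversallyOpen
import Mathlib.AlgebraicGeometry.Morphisms.UniversallyClosed
import Mathlib.RingTheory.Spectrum.Prime.Topology

/-!
# Universally open or universally closed surjective morphisms are universally subtrusive
-/

set_option autoImplicit false
set_option linter.style.haveILetI false

universe u

open CategoryTheory CategoryTheory.Limits AlgebraicGeometry

namespace Groth.Agent.H15Subtr

/-- An open map between prime spectra has going down. -/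
theorem exists_le_comap_eq_of_isOpenMap {A B : Type*} [CommRing A] [CommRing B] (φ : A →+* B)
    (h : IsOpenMap (PrimeSpectrum.comap φ)) (P : PrimeSpectrum B) (p : PrimeSpectrum A)
    (hp : p.asIdeal ≤ P.asIdeal.comap φ) :
    ∃ Q : PrimeSpectrum B, Q.asIdeal ≤ P.asIdeal ∧ PrimeSpectrum.comap φ Q = p := by
  let M : Submonoid B := P.asIdeal.primeCompl ⊔ p.asIdeal.primeCompl.map (φ : A →* B)
  have hdis : Disjoint (p.asIdeal.map φ : Set B) M := by
    refine Set.disjoint_left.2 fun x hx hxM => ?_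
    obtain ⟨b, hb, _, ⟨s, hs, rfl⟩, rfl⟩ := Submonoid.mem_sup.1 hxM
    have hmem : p ∈ PrimeSpectrum.comap φ '' (PrimeSpectrum.basicOpen b : Set (PrimeSpectrum B)) :=
      ((PrimeSpectrum.le_iff_specializes p (PrimeSpectrum.comap φ P)).1 hp).mem_open
        (h _ (PrimeSpectrum.basicOpen b).2) ⟨P, hb, rfl⟩
    obtain ⟨Q, hQb, rfl⟩ := hmem
    rcases Q.isPrime.mem_or_mem (Ideal.map_comap_le hx) with h1 | h1
    · exact hQb h1
    · exact hs h1
  obtain ⟨Q, hQ, hle, hdQ⟩ := Ideal.exists_le_prime_disjoint _ M hdis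
  refine ⟨⟨Q, hQ⟩, fun b hb => ?_, ?_⟩
  · by_contra hbP
    exact Set.disjoint_left.1 hdQ hb (Submonoid.mem_sup_left hbP)
  · refine PrimeSpectrum.ext (le_antisymm (fun a ha => ?_) fun a ha => hle (Ideal.mem_map_of_mem φ ha))
    by_contra hap
    exact Set.disjoint_left.1 hdQ ha (Submonoid.mem_sup_right ⟨a, hap, rfl⟩)

variable {X Y : Scheme.{u}}

/-- An open morphism of schemes lifts generalizations. -/
theorem generalizingMap_of_isOpenMap (f : X ⟶ Y) (h : IsOpenMap f) : GeneralizingMap f := by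
  intro x y' (hy : y' ⤳ f x)
  obtain ⟨_, ⟨V, hV, rfl⟩, hxV, -⟩ := Y.isBasis_affineOpens.exists_subset_of_mem_open (Set.mem_univ (f x)) isOpen_univ
  obtain ⟨U, hU, hxU, hle⟩ := exists_isAffineOpen_mem_and_subset (U := f ⁻¹ᵁ V) (x := x) hxV
  have hV : IsAffineOpen V := hV
  haveI := hV.isOpenImmersion_fromSpec
  haveI := hU.isOpenImmersion_fromSpec
  let ψ := f.appLE V U hle
  have hψ : Spec.map ψ ≫ hV.fromSpec = hU.fromSpec ≫ f := hV.SpecMap_appLE_fromSpec f hU hle
  obtain ⟨P, rfl⟩ : x ∈ Set.range hU.fromSpec := by rw [hU.range_fromSpec]; exact hxU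
  obtain ⟨p, rfl⟩ : y' ∈ Set.range hV.fromSpec := by
    rw [hV.range_fromSpec]; exact hy.mem_open V.2 hxV
  have hv : ∀ Q, hV.fromSpec (Spec.map ψ Q) = f (hU.fromSpec Q) := fun Q =>
    (Scheme.Hom.comp_apply _ _ _).symm.trans ((congrArg (fun k => k Q) hψ).trans (Scheme.Hom.comp_apply _ _ _))
  have hopen : IsOpenMap (Spec.map ψ) := by
    intro W hW
    have : Spec.map ψ '' W = hV.fromSpec ⁻¹' (f '' (hU.fromSpec '' W)) := by
      ext q
      constructor
      · rintro ⟨Q, hQ, rfl⟩
        exact ⟨_, ⟨Q, hQ, rfl⟩, (hv Q).symm⟩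
      · rintro ⟨_, ⟨Q, hQ, rfl⟩, hq⟩
        exact ⟨Q, hQ, hV.fromSpec.isOpenEmbedding.injective ((hv Q).trans hq)⟩
    rw [this]
    exact (h _ (hU.fromSpec.isOpenEmbedding.isOpenMap _ hW)).preimage hV.fromSpec.continuous
  rw [← hv, hV.fromSpec.isOpenEmbedding.isInducing.specializes_iff] at hy
  obtain ⟨Q, hQ, hQp⟩ := exists_le_comap_eq_of_isOpenMap ψ.hom hopen P p
    ((PrimeSpectrum.le_iff_specializes p (Spec.map ψ P)).2 hy)
  exact ⟨hU.fromSpec Q, ((PrimeSpectrum.le_iff_specializes Q P).1 hQ).map hU.fromSpec.continuous,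
    (hv Q).symm.trans (congrArg hV.fromSpec hQp)⟩

/-- A universally open surjective morphism is universally subtrusive. -/
theorem univSS_of_universallyOpen (f : X ⟶ Y) [UniversallyOpen f] [Surjective f] :
    Subtr.UnivSSubtrusive f := by
  intro X' Y' i₁ i₂ f' hP y y' hy
  haveI : UniversallyOpen f' := MorphismProperty.of_isPullback (P := @UniversallyOpen) hP.flip ‹_›
  haveI : Surjective f' := MorphismProperty.of_isPullback (P := @Surjective) hP.flip ‹_›
  obtain ⟨x, rfl⟩ := f'.surjective y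
  obtain ⟨x', hx', rfl⟩ := generalizingMap_of_isOpenMap f' f'.isOpenMap hy
  exact ⟨x, x', hx', rfl, rfl⟩

/-- A universally closed surjective morphism is universally subtrusive. -/
theorem univSS_of_universallyClosed (f : X ⟶ Y) [UniversallyClosed f] [Surjective f] :
    Subtr.UnivSSubtrusive f := by
  intro X' Y' i₁ i₂ f' hP y y' hy
  haveI : UniversallyClosed f' := MorphismProperty.of_isPullback (P := @UniversallyClosed) hP.flip ‹_›
  haveI : Surjective f' := MorphismProperty.of_isPullback (P := @Surjective) hP.flip ‹_›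
  obtain ⟨x', rfl⟩ := f'.surjective y'
  obtain ⟨x, hx, rfl⟩ := f'.isClosedMap.specializingMap hy
  exact ⟨x, x', hx, rfl, rfl⟩

end Groth.Agent.H15Subtr
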