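import Groth.Agent.H15Subtr.EtApprox
import Groth.Agent.H7Lim.Approx.OverSystem

/-!
# Charts of quasi-compact étale data along quasi-compact universally subtrusive morphisms
-/

set_option autoImplicit false
set_option linter.style.haveILetI false
set_option backward.isDefEq.respectTransparency false

universe u

open CategoryTheory CategoryTheory.Limits AlgebraicGeometry

namespace Groth.Agent.H15Subtr

open H13Desc.Eff H7Lim

theorem univSS_comp {X Y Z : Scheme.{u}} {f : X ⟶ Y} {g : Y ⟶ Z} (hf : Subtr.UnivSSubtrusive f)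
    (hg : Subtr.UnivSSubtrusive g) : Subtr.UnivSSubtrusive (f ≫ g) := by
  haveI : MorphismProperty.IsStableUnderComposition
      (fun _ _ f => Subtr.IsSSubtrusive f : MorphismProperty Scheme.{u}) :=
    ⟨fun a b ha hb y y' hy => by
      obtain ⟨x, x', hx, rfl, rfl⟩ := hb hy
      obtain ⟨z, z', hz, h1, h2⟩ := ha hx
      exact ⟨z, z', hz, (Scheme.Hom.comp_apply _ _ _).trans (congrArg _ h1),
        (Scheme.Hom.comp_apply _ _ _).trans (congrArg _ h2)⟩⟩
  haveI : Subtr.UnivSSubtrusive.{u}.IsStableUnderComposition :=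
    inferInstanceAs (MorphismProperty.universally _).IsStableUnderComposition
  exact MorphismProperty.comp_mem _ _ _ hf hg

variable {S' S : Scheme.{u}} {g : S' ⟶ S}

/-- A quasi-compact separated étale datum along a quasi-compact universally subtrusive morphism has charts. -/
theorem hasCharts_qc [QuasiCompact g] (hg : Subtr.UnivSSubtrusive g) (D : Desc.SchDD g)
    [QuasiCompact D.obj.hom] [IsSeparated D.obj.hom] [Etale D.obj.hom] : HasCharts D := by
  classical
  intro u
  obtain ⟨V, hV, hsV, -⟩ := exists_isAffineOpen_mem_and_subset (U := (⊤ : S.Opens))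
    (x := (D.obj.hom ≫ g) u) trivial
  haveI : IsAffine (V : Scheme.{u}) := hV
  obtain ⟨t, ht, e⟩ := (isCompact_and_isOpen_iff_finite_and_eq_biUnion_affineOpens (X := S')
    (U := g ⁻¹' (V : Set S))).mp ⟨QuasiCompact.isCompact_preimage (f := g) _ V.2 hV.isCompact,
      V.2.preimage g.continuous⟩
  haveI : Finite t := ht
  let Z : t → Scheme.{u} := fun W => (W.1.1 : Scheme.{u})
  haveI : ∀ W, IsAffine (Z W) := fun W => W.1.2
  have hle : ∀ W : t, W.1.1 ≤ g ⁻¹ᵁ V := fun W x hx => by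
    show x ∈ g ⁻¹' (V : Set S)
    rw [e]
    exact Set.mem_biUnion W.2 hx
  let h' : (∐ Z) ⟶ (g ⁻¹ᵁ V : Scheme.{u}) := Sigma.desc fun W => S'.homOfLE (hle W)
  haveI : Flat h' := (IsZariskiLocalAtSource.iff_of_openCover (P := @Flat) (sigmaOpenCover _)).2 fun W => by
    change Flat (Sigma.ι Z W ≫ Sigma.desc fun W => S'.homOfLE (hle W))
    rw [Sigma.ι_desc]
    infer_instance
  haveI : LocallyOfFinitePresentation h' := lfp_sigmaDesc _ fun W => inferInstance
  haveI : Surjective h' := ⟨fun x => by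
    obtain ⟨W, hW, hxW⟩ := Set.mem_iUnion₂.1 (e.le x.2)
    refine ⟨Sigma.ι Z ⟨W, hW⟩ ⟨x.1, hxW⟩, ?_⟩
    rw [← Scheme.Hom.comp_apply, Sigma.ι_desc]
    exact Subtype.ext (Scheme.homOfLE_apply _ _)⟩
  let p : (∐ Z) ⟶ (V : Scheme.{u}) := h' ≫ (g ∣_ V)
  have hp : Subtr.UnivSSubtrusive p := univSS_comp (univSS_of_universallyOpen h')
    (MorphismProperty.of_isPullback (P := Subtr.UnivSSubtrusive) (isPullback_morphismRestrict g V).flip hg)
  obtain ⟨I, _, _, _, E, c, hc, hE, haff, ⟨iso⟩⟩ := Approx.exists_fp_system p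
  obtain ⟨hc'⟩ := Approx.nonempty_isLimit_forget hc
  haveI : ∀ (i j : Iᵒᵖ) (f : i ⟶ j), IsAffineHom ((E ⋙ Over.forget _).map f) := fun i j f => haff i j f
  haveI : ∀ i, CompactSpace ((E ⋙ Over.forget _).obj i) := fun i => (hE i).2.2.2.1
  haveI : ∀ i, QuasiSeparatedSpace ((E ⋙ Over.forget _).obj i) := fun i => (hE i).2.2.2.2
  haveI : ∀ i, LocallyOfFinitePresentation (E.obj i).hom := fun i => (hE i).1
  haveI : ∀ i, QuasiCompact (E.obj i).hom := fun i => (hE i).2.1
  haveI : ∀ i, QuasiSeparated (E.obj i).hom := fun i => (hE i).2.2.1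
  have hcp : c.pt.hom = iso.hom.left ≫ p := (Over.w iso.hom).symm
  have hcp' : Subtr.UnivSSubtrusive c.pt.hom := by
    haveI : IsIso iso.hom.left := inferInstanceAs (IsIso ((Over.forget _).map iso.hom))
    haveI : Subtr.UnivSSubtrusive.{u}.RespectsIso := MorphismProperty.IsStableUnderBaseChange.respectsIso
    rw [hcp, MorphismProperty.cancel_left_of_respectsIso Subtr.UnivSSubtrusive]
    exact hp
  let m : c.pt.left ⟶ S' := iso.hom.left ≫ h' ≫ (g ⁻¹ᵁ V).ι
  have w : m ≫ g = c.pt.hom ≫ V.ι := by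
    rw [hcp]
    simp only [m, p, Category.assoc, morphismRestrict_ι]
  haveI : IsAffine (∐ Z) := inferInstance
  haveI : QuasiCompact p := inferInstance
  haveI : QuasiCompact c.pt.hom := by
    haveI : IsIso iso.hom.left := inferInstanceAs (IsIso ((Over.forget _).map iso.hom))
    rw [hcp]
    infer_instance
  let D₀ := pullRef D m c.pt.hom V.ι w
  haveI : Etale D₀.obj.hom := inferInstanceAs (Etale (pullback.snd D.obj.hom m))
  haveI : IsSeparated D₀.obj.hom := inferInstanceAs (IsSeparated (pullback.snd D.obj.hom m))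
  haveI : QuasiCompact D₀.obj.hom := inferInstanceAs (QuasiCompact (pullback.snd D.obj.hom m))
  have hu : D.obj.hom u ∈ g ⁻¹ᵁ V := by
    rw [Scheme.Hom.comp_apply] at hsV
    exact hsV
  obtain ⟨z, hz⟩ := h'.surjective ⟨_, hu⟩
  have hmz : m (iso.inv.left z) = D.obj.hom u := by
    have : iso.inv.left ≫ m = h' ≫ (g ⁻¹ᵁ V).ι := by
      show iso.inv.left ≫ iso.hom.left ≫ _ = _
      rw [← Category.assoc, ← Over.comp_left, iso.inv_hom_id, Over.id_left, Category.id_comp]
    refine (Scheme.Hom.comp_apply _ _ _).symm.trans ((congrArg (fun k => k z) this).trans ?_)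
    exact (Scheme.Hom.comp_apply _ _ _).trans (congrArg _ hz)
  obtain ⟨u₀, hu₀, -⟩ := Scheme.Pullback.exists_preimage_pullback (f := D.obj.hom) (g := m) u _ hmz.symm
  obtain ⟨W', f', hW', hf'⟩ := hasCharts_of_limit hc' hcp' D₀ u₀
  obtain ⟨W, f, hW, hf⟩ := exists_chart_of_ref D m c.pt.hom V.ι w (univSubmersive_of_univSS _ hcp') f' u₀ hf'
  exact ⟨W, f, hW, hu₀ ▸ hf⟩

end Groth.Agent.H15Subtr
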