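import Groth.Agent.H15Subtr.Points
import Groth.Agent.H8Props.FiniteFactor
import Groth.Agent.H9Gal.QfhBasics

/-!
# Morphisms with the valuative lifting property are refined by proper (or finite) surjections followed by
Zariski coverings
-/

set_option autoImplicit false
set_option linter.style.haveILetI false
set_option backward.isDefEq.respectTransparency false

universe u

open CategoryTheory CategoryTheory.Limits AlgebraicGeometry TopologicalSpace
open IsLocalRing (closedPoint)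
open Groth.Agent.H18HTop

namespace Groth.Agent.H15Subtr

/-- Classes of proper, finitely presented morphisms in which one can build the covers. -/
structure GoodClass (Q : MorphismProperty Scheme.{u}) : Prop where
  id_mem : ∀ Y : Scheme.{u}, Q (𝟙 Y)
  comp_mem : ∀ {X Y Z : Scheme.{u}} (f : X ⟶ Y) (g : Y ⟶ Z), Q f → Q g → Q (f ≫ g)
  fst_mem : ∀ {X Y Z : Scheme.{u}} (f : X ⟶ Z) (g : Y ⟶ Z), Q g → Q (pullback.fst f g)
  proper : ∀ {X Y : Scheme.{u}} {f : X ⟶ Y}, Q f → IsProper f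
  lfp : ∀ {X Y : Scheme.{u}} {f : X ⟶ Y}, Q f → LocallyOfFinitePresentation f
  closed_mem : ∀ {X Y : Scheme.{u}} (f : X ⟶ Y), IsClosedImmersion f → LocallyOfFinitePresentation f → Q f
  desc_mem : ∀ {I : Type u} [Finite I] {X : I → Scheme.{u}} {Y : Scheme.{u}} (f : ∀ i, X i ⟶ Y),
    (∀ i, Q (f i)) → Q (Sigma.desc f)

variable {Q : MorphismProperty Scheme.{u}}
variable {Y : Scheme.{u}} {κ : Type} [Finite κ] {V : κ → Scheme.{u}} (q : ∀ k, V k ⟶ Y)
  {L : Type u} [Field L] {σ : Spec (CommRingCat.of L) ⟶ Y}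

/-- An open of `P` mapping to a member which contains the centre of every valuation ring lifted by `a`. -/
def Good {P : Scheme.{u}} (p : P ⟶ Y) (s : Spec (CommRingCat.of L) ⟶ P)
    (a : Σ k, {g : Spec (CommRingCat.of L) ⟶ V k // g ≫ q k = σ}) : Prop :=
  ∃ (O : P.Opens) (h : O.toScheme ⟶ V a.1), h ≫ q a.1 = O.ι ≫ p ∧
    ∀ (W : ValuationSubring L) (l : Spec (CommRingCat.of W) ⟶ P) (m : Spec (CommRingCat.of W) ⟶ V a.1),
      gen W ≫ l = s → gen W ≫ m = a.2.1 → m ≫ q a.1 = l ≫ p → l (closedPoint W) ∈ O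

variable (hQ : GoodClass Q)
  (hC : ∀ k, ∃ (P : Scheme.{u}) (p : P ⟶ Y) (j : V k ⟶ P), Q p ∧ IsOpenImmersion j ∧ j ≫ p = q k)

include hQ hC in
omit [Finite κ] in
theorem exists_good (S : List (Σ k, {g : Spec (CommRingCat.of L) ⟶ V k // g ≫ q k = σ})) :
    ∃ (P : Scheme.{u}) (p : P ⟶ Y) (s : Spec (CommRingCat.of L) ⟶ P), Q p ∧ s ≫ p = σ ∧
      ∀ a ∈ S, Good q p s a := by
  induction S with
  | nil => exact ⟨Y, 𝟙 _, σ, hQ.id_mem _, Category.comp_id _, fun a ha => absurd ha List.not_mem_nil⟩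
  | cons a S ih =>
    obtain ⟨P, p, s, hp, hsp, hgood⟩ := ih
    obtain ⟨P₁, p₁, j, hp₁, hj, hjp⟩ := hC a.1
    haveI := hQ.proper hp₁
    haveI := hj
    let s' := pullback.lift (f := p) (g := p₁) s (a.2.1 ≫ j) (by rw [hsp, Category.assoc, hjp, a.2.2])
    refine ⟨pullback p p₁, pullback.fst p p₁ ≫ p, s', hQ.comp_mem _ _ (hQ.fst_mem _ _ hp₁) hp,
      by rw [← Category.assoc, pullback.lift_fst, hsp], fun b hb => ?_⟩
    rcases List.mem_cons.1 hb with rfl | hb
    · let O : (pullback p p₁).Opens := pullback.snd p p₁ ⁻¹ᵁ j.opensRange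
      refine ⟨O, IsOpenImmersion.lift j (O.ι ≫ pullback.snd p p₁) (by
        rintro _ ⟨z, rfl⟩
        rw [Scheme.Hom.comp_apply]
        exact z.2), ?_, fun W l m hl hm hml => ?_⟩
      · rw [← hjp, IsOpenImmersion.lift_fac_assoc, Category.assoc, pullback.condition]
      · haveI := PhOfV.isDominant_generic W
        have key : l ≫ pullback.snd p p₁ = m ≫ j := by
          refine ext_of_isDominant_of_isSeparated p₁ ?_ (gen W) ?_
          · rw [Category.assoc, ← pullback.condition, Category.assoc m, hjp, hml]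
          · rw [← Category.assoc, hl, pullback.lift_snd, ← hm, Category.assoc]
        change pullback.snd p p₁ (l (closedPoint W)) ∈ j.opensRange
        rw [← Scheme.Hom.comp_apply, key]
        exact ⟨_, rfl⟩
    · obtain ⟨O, h, hh, hO⟩ := hgood b hb
      refine ⟨pullback.fst p p₁ ⁻¹ᵁ O, (pullback.fst p p₁ ∣_ O) ≫ h, ?_, fun W l m hl hm hml => ?_⟩
      · rw [Category.assoc, hh, ← Category.assoc, morphismRestrict_ι, Category.assoc]
      · exact hO W (l ≫ pullback.fst p p₁) m (by rw [← Category.assoc, hl, pullback.lift_fst]) hm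
          (by rw [hml, Category.assoc])

variable [CompactSpace Y] [QuasiSeparatedSpace Y] [∀ k, QuasiCompact (q k)] [∀ k, LocallyOfFiniteType (q k)]
  (hlift : Lifts q)

include hQ hC hlift in
theorem exists_piece (x : Y) :
    ∃ (T : Scheme.{u}) (f : T ⟶ Y), Q f ∧ Topology.IsConstructible (Set.range f) ∧
      x ∈ Set.range f ∧ ∀ y : T, ∃ (O : T.Opens) (k : κ) (h : O.toScheme ⟶ V k),
        y ∈ O ∧ h ≫ q k = O.ι ≫ f := by
  classical
  let L := AlgebraicClosure (Y.residueField x)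
  let σ : Spec (CommRingCat.of L) ⟶ Y :=
    Spec.map (CommRingCat.ofHom (algebraMap (Y.residueField x) L)) ≫ Y.fromSpecResidueField x
  obtain ⟨S, hS⟩ := exists_finset_lifts q hlift σ
  obtain ⟨P, p, s, hp, hsp, hgood⟩ := exists_good q hQ hC (σ := σ) S.toList
  haveI := hQ.proper hp
  haveI := hQ.lfp hp
  choose O h hh hO using fun a : S => hgood a.1 (Finset.mem_toList.2 a.2)
  let U : P.Opens := ⨆ a : S, O a
  let s₀ : P := s (closedPoint L)
  have hclU : ∀ y, s₀ ⤳ y → y ∈ U := by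
    intro y hy
    obtain ⟨W, l, hl, rfl⟩ := PhOfV.exists_valuation_centre s y hy
    obtain ⟨a, ha, m, hm, hml⟩ := hS W (l ≫ p) (by rw [← Category.assoc, hl, hsp])
    exact Opens.mem_iSup.2 ⟨⟨a, ha⟩, hO ⟨a, ha⟩ W l m hl hm hml⟩
  haveI : CompactSpace P := QuasiCompact.compactSpace_of_compactSpace p
  haveI : QuasiSeparatedSpace P := quasiSeparatedSpace_of_quasiSeparated p
  have hK : IsCompact ((U : Set P)ᶜ) := U.2.isClosed_compl.isCompact
  have hV : ∀ y : ((U : Set P)ᶜ : Set P), ∃ W : P.Opens, IsAffineOpen W ∧ y.1 ∈ W ∧ s₀ ∉ W := by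
    intro y
    have hns : ¬ s₀ ⤳ y.1 := fun h => y.2 (hclU _ h)
    rw [specializes_iff_forall_open] at hns
    push Not at hns
    obtain ⟨V₀, hV₀, hyV, hsV⟩ := hns
    obtain ⟨W, hW, hyW, hWV⟩ := exists_isAffineOpen_mem_and_subset (U := ⟨V₀, hV₀⟩) hyV
    exact ⟨W, hW, hyW, fun h => hsV (hWV h)⟩
  choose Wf hWf hyW hsW using hV
  obtain ⟨t, ht⟩ := hK.elim_finite_subcover (fun y => (Wf y : Set P)) (fun y => (Wf y).2)
    fun y hy => Set.mem_iUnion.2 ⟨⟨y, hy⟩, hyW _⟩
  let Wb : P.Opens := ⨆ y ∈ t, Wf y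
  have hWb : (Wb : Set P) = ⋃ y ∈ t, (Wf y : Set P) := by simp [Wb]
  have hWbc : IsCompact (Wb : Set P) := by
    rw [hWb]; exact t.isCompact_biUnion fun y _ => (hWf y).isCompact
  obtain ⟨K, hKfg, hKsupp⟩ := PhOfV.exists_ftIdeal_support_eq_compl t Wf hWf
  haveI : LocallyOfFinitePresentation K.subschemeι :=
    (lfp_iff_ker_fg K.subschemeι).2 fun A => by
      rw [Scheme.IdealSheafData.ker_subschemeι]; exact hKfg A
  have hrange : Set.range (K.subschemeι ≫ p) = p '' (Wb : Set P)ᶜ := by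
    rw [Scheme.Hom.comp_base, TopCat.coe_comp, Set.range_comp, Scheme.IdealSheafData.range_subschemeι,
      hKsupp, hWb]
  refine ⟨K.subscheme, K.subschemeι ≫ p, hQ.comp_mem _ _ (hQ.closed_mem _ inferInstance inferInstance) hp,
    ?_, ?_, fun y => ?_⟩
  · rw [hrange]
    exact p.isConstructible_image (hWbc.isConstructible Wb.2).compl
  · rw [hrange]
    refine ⟨s₀, ?_, ?_⟩
    · rw [Set.mem_compl_iff, hWb]
      simp only [Set.mem_iUnion, not_exists]
      exact fun y _ => hsW y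
    · change p (s (closedPoint L)) = x
      rw [← Scheme.Hom.comp_apply, hsp, Scheme.Hom.comp_apply]
      exact Scheme.fromSpecResidueField_apply _ _
  · have hyU : K.subschemeι y ∈ U := by
      have hy : K.subschemeι y ∈ Set.range K.subschemeι := ⟨y, rfl⟩
      rw [Scheme.IdealSheafData.range_subschemeι, hKsupp] at hy
      by_contra hy'
      exact hy (ht hy')
    obtain ⟨a, hay⟩ := Opens.mem_iSup.1 hyU
    refine ⟨K.subschemeι ⁻¹ᵁ O a, a.1.1, (K.subschemeι ∣_ O a) ≫ h a, hay, ?_⟩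
    rw [Category.assoc, hh a, ← Category.assoc, morphismRestrict_ι, Category.assoc]

include hQ hC hlift in
theorem exists_cover :
    ∃ (T : Scheme.{u}) (g : T ⟶ Y), Q g ∧ Surjective g ∧
      ∀ y : T, ∃ (O : T.Opens) (k : κ) (h : O.toScheme ⟶ V k), y ∈ O ∧ h ≫ q k = O.ι ≫ g := by
  classical
  choose T f hf hcons hx hcov using exists_piece q hQ hC hlift
  haveI := fun x => hQ.proper (hf x)
  have hopen : ∀ x, IsOpen (WithTopology.ofTopology ⁻¹'
      Set.range (f x) : Set (WithConstructibleTopology Y)) := fun x => by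
    rw [WithConstructibleTopology.isOpen_iff]
    convert IsCompact.isOpen_constructibleTopology_of_isClosed
      (H24Algz.isCompact_of_isConstructible (hcons x).compl)
      ((f x).isClosedMap.isClosed_range) using 1
    rfl
  obtain ⟨t, ht⟩ := isCompact_univ.elim_finite_subcover _ hopen
    (fun z _ => Set.mem_iUnion.2 ⟨WithTopology.ofTopology z, hx _⟩)
  let g : (∐ fun x : t => T x.1) ⟶ Y := Sigma.desc fun x : t => f x.1
  refine ⟨_, g, hQ.desc_mem _ fun x => hf x.1, ⟨fun x => ?_⟩, fun z => ?_⟩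
  · obtain ⟨z, hz⟩ := WithTopology.ofTopology_surjective (t := constructibleTopology Y) x
    obtain ⟨y, hyt, w, hw⟩ := Set.mem_iUnion₂.1 (ht (Set.mem_univ z))
    refine ⟨Sigma.ι (fun x : t => T x.1) ⟨y, hyt⟩ w, ?_⟩
    rw [← Scheme.Hom.comp_apply, Sigma.ι_desc]
    exact hw.trans hz
  · obtain ⟨x, y, hy⟩ := (sigmaOpenCover (fun x : t => T x.1)).exists_eq z
    obtain ⟨O, k, h, hyO, hh⟩ := hcov x.1 y
    let j : O.toScheme ⟶ ∐ fun x : t => T x.1 := O.ι ≫ Sigma.ι (fun x : t => T x.1) x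
    refine ⟨j.opensRange, k, j.isoOpensRange.inv ≫ h, ⟨⟨y, hyO⟩, ?_⟩, ?_⟩
    · change j ⟨y, hyO⟩ = z
      rw [Scheme.Hom.comp_apply]
      exact hy
    · rw [Category.assoc, hh, Iso.inv_comp_eq]
      show O.ι ≫ f x.1 = j.isoOpensRange.hom ≫ j.opensRange.ι ≫ g
      rw [Scheme.Hom.isoOpensRange_hom_ι_assoc, Category.assoc, Sigma.ι_desc]

end Groth.Agent.H15Subtr
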