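import Groth.Agent.H15Subtr.Stable
import Groth.Agent.H18HTop.UltraPoint
import Mathlib.AlgebraicGeometry.AffineTransitionLimit

/-!
# Universal subtrusiveness descends to a stage of a cofiltered limit
-/

set_option autoImplicit false
set_option linter.style.haveILetI false
set_option backward.isDefEq.respectTransparency false

universe u

open CategoryTheory CategoryTheory.Limits AlgebraicGeometry Opposite
open IsLocalRing (closedPoint)
open Groth.Agent.H18HTop

namespace Groth.Agent.H15Subtr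

/-- A point in an extension of a valuation ring with algebraically closed fraction field gives a point in it. -/
theorem exists_hom_of_extension {A B : CommRingCat.{u}} (φ : A ⟶ B) (hft : φ.hom.FiniteType) {L : Type u}
    [Field L] [IsAlgClosed L] (W : ValuationSubring L) {W' : CommRingCat.{u}} [IsDomain W'] [IsLocalRing W']
    (ψ : CommRingCat.of W ⟶ W') (hinj : Function.Injective ψ.hom) (hloc : IsLocalHom ψ.hom)
    (ρ : A →+* W) (θ : B ⟶ W') (hθ : θ.hom.comp φ.hom = ψ.hom.comp ρ) :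
    ∃ f : B →+* W, f.comp φ.hom = ρ := by
  letI : Algebra A B := φ.hom.toAlgebra
  letI : Algebra A W := ρ.toAlgebra
  letI : Algebra W W' := ψ.hom.toAlgebra
  letI : Algebra A W' := (ψ.hom.comp ρ).toAlgebra
  haveI : IsScalarTower A W W' := IsScalarTower.of_algebraMap_eq' rfl
  haveI : Algebra.FiniteType A B := hft
  haveI : IsLocalHom (algebraMap W W') := hloc
  let θa : B →ₐ[A] W' := { θ.hom with commutes' := fun a => RingHom.congr_fun hθ a }
  let F : TensorProduct A W B →ₐ[W] W' :=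
    Algebra.TensorProduct.lift (Algebra.ofId W W') θa (fun _ _ => Commute.all _ _)
  obtain ⟨e⟩ := ValPoint.exists_algHom W (C := TensorProduct A W B) (W := W') hinj F
  refine ⟨((e.restrictScalars A).comp Algebra.TensorProduct.includeRight).toRingHom, ?_⟩
  exact ((e.restrictScalars A).comp (Algebra.TensorProduct.includeRight (R := A) (A := W) (B := B))).comp_algebraMap

theorem descendsAffine_univSS :
    H7Lim.DescendsAffine.{u} Subtr.UnivSSubtrusive @LocallyOfFinitePresentation := by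
  intro I _ _ D c hc _ _ i T a _ _ ha h
  haveI : LocallyOfFinitePresentation a := ha
  classical
  by_contra hcon
  push Not at hcon
  have hbad : ∀ (j : I) (φ : j ⟶ i), ∃ (L : Type u) (_ : Field L) (_ : IsAlgClosed L) (W : ValuationSubring L)
      (l : Spec (CommRingCat.of W) ⟶ D.obj j), ∀ m : Spec (CommRingCat.of W) ⟶ T, m ≫ a ≠ l ≫ D.map φ := by
    intro j φ
    by_contra hno
    refine hcon j φ (univSS_of_algClosed _ fun L _ _ W l => ?_)
    push Not at hno
    obtain ⟨m, hm⟩ := hno L inferInstance inferInstance W l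
    exact ⟨pullback.lift m l hm, pullback.lift_snd _ _ _⟩
  choose Lf hfield halg Wf lf hl using hbad
  let E : Iᵒᵖ ⥤ CommRingCat.{u} := D.op ⋙ Scheme.Γ
  obtain ⟨hcc⟩ := nonempty_isColimit_Γ_mapCocone D c hc
  letI := fun s : Σ j : Iᵒᵖ, op i ⟶ j => hfield s.1.unop s.2.unop
  haveI := fun s : Σ j : Iᵒᵖ, op i ⟶ j => halg s.1.unop s.2.unop
  let g : ∀ s : Σ j : Iᵒᵖ, op i ⟶ j, E.obj s.1 →+* Wf s.1.unop s.2.unop := fun s =>
    (Spec.preimage (lf s.1.unop s.2.unop ≫ (D.obj s.1.unop).isoSpec.hom)).hom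
  obtain ⟨ι, F, k, hh, hhι⟩ := UltraPoint.exists_ultra_point E (Scheme.Γ.mapCocone c.op) hcc (op i)
    (fun s => Lf s.1.unop s.2.unop) (fun s => Wf s.1.unop s.2.unop) g
  let Wu := Ultra.valSubring F (fun b => Lf (k b).1.unop (k b).2.unop) (fun b => Wf (k b).1.unop (k b).2.unop)
  let ρs : ∀ b, Γ(D.obj i, ⊤) →+* Wf (k b).1.unop (k b).2.unop := fun b => (g (k b)).comp (E.map (k b).2).hom
  let ρ : Γ(D.obj i, ⊤) →+* Wu := Ultra.diag F _ _ ρs
  haveI : IsAffine (((Functor.const I).obj c.pt).obj i) := by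
    haveI := isAffineHom_π_app D c hc i
    exact isAffine_of_isAffineHom (c.π.app i)
  haveI : IsAffine c.pt := ‹IsAffine (((Functor.const I).obj c.pt).obj i)›
  let lw : Spec (CommRingCat.of Wu) ⟶ c.pt := Spec.map (CommRingCat.ofHom hh) ≫ c.pt.isoSpec.inv
  have hlw : lw ≫ c.π.app i = Spec.map (CommRingCat.ofHom ρ) ≫ (D.obj i).isoSpec.inv := by
    rw [Category.assoc]
    erw [← Scheme.isoSpec_inv_naturality (c.π.app i)]
    rw [← Category.assoc, ← Spec.map_comp]
    exact congrArg (fun t => Spec.map t ≫ (D.obj i).isoSpec.inv) (CommRingCat.hom_ext hhι)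
  obtain ⟨W', i1, i2, ψ, hψ, _j, v, hv⟩ := (H18Subtr.univSSubtrusive_iff_hasValLift.{0} _).1 h
    (CommRingCat.of Wu) lw
  haveI := i1
  haveI := i2
  let m : Spec W' ⟶ T := (show Spec W' ⟶ pullback a (c.π.app i) from v) ≫ pullback.fst _ _
  have hm : m ≫ a = Spec.map ψ ≫ Spec.map (CommRingCat.ofHom ρ) ≫ (D.obj i).isoSpec.inv := by
    rw [← hlw]
    show (_ ≫ pullback.fst a _) ≫ a = _
    rw [Category.assoc, pullback.condition, ← Category.assoc, show _ ≫ pullback.snd a (c.π.app i) = _ from hv,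
      Category.assoc]
  obtain ⟨U, hU, hmU, -⟩ := exists_isAffineOpen_mem_and_subset (U := (⊤ : T.Opens)) (x := m (closedPoint W'))
    trivial
  let m' : Spec W' ⟶ Spec Γ(T, U) := IsOpenImmersion.lift hU.fromSpec m (by
    rw [hU.range_fromSpec]; exact range_subset_of_closedPoint_mem m U hmU)
  have hm' : m' ≫ hU.fromSpec = m := IsOpenImmersion.lift_fac _ _ _
  let φB : Γ(D.obj i, ⊤) ⟶ Γ(T, U) := Spec.preimage (hU.fromSpec ≫ a ≫ (D.obj i).isoSpec.hom)
  have hφB : Spec.map φB = hU.fromSpec ≫ a ≫ (D.obj i).isoSpec.hom := Spec.map_preimage _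
  have hfp : φB.hom.FinitePresentation := by
    rw [← LocallyOfFinitePresentation.SpecMap_iff, hφB]
    infer_instance
  have hθ : (Spec.preimage m').hom.comp φB.hom = ψ.hom.comp ρ := by
    refine congrArg CommRingCat.Hom.hom (?_ : φB ≫ Spec.preimage m' = CommRingCat.ofHom ρ ≫ ψ)
    apply Spec.map_injective
    rw [Spec.map_comp, Spec.map_comp, Spec.map_preimage, hφB, ← Category.assoc m', hm', ← Category.assoc m,
      hm, Category.assoc, Category.assoc, Iso.inv_hom_id, Category.comp_id]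
  obtain ⟨f, hf⟩ := exists_hom_of_extension φB (RingHom.FiniteType.of_finitePresentation hfp) Wu ψ hψ.1 hψ.2
    ρ (Spec.preimage m') hθ
  obtain ⟨b, gb, hgb⟩ := (Ultra.eventually_exists_hom F _ _ φB.hom hfp ρs f hf).exists
  refine hl (k b).1.unop (k b).2.unop (Spec.map (CommRingCat.ofHom gb) ≫ hU.fromSpec) ?_
  have e1 : (Spec.map (CommRingCat.ofHom gb) ≫ hU.fromSpec) ≫ a =
      Spec.map (CommRingCat.ofHom (ρs b)) ≫ (D.obj i).isoSpec.inv := by
    rw [Iso.eq_comp_inv, Category.assoc, Category.assoc, ← hφB, ← Spec.map_comp]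
    exact congrArg Spec.map (CommRingCat.hom_ext hgb)
  rw [e1]
  show Spec.map (E.map (k b).2 ≫ CommRingCat.ofHom (g (k b))) ≫ _ = _
  rw [Spec.map_comp, show CommRingCat.ofHom (g (k b)) = Spec.preimage _ from rfl, Spec.map_preimage,
    Category.assoc, Category.assoc]
  congr 1
  rw [← Iso.eq_inv_comp]
  exact Scheme.isoSpec_inv_naturality (D.map (k b).2.unop)

end Groth.Agent.H15Subtr
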