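import Groth.Agent.H15Subtr.EtSpread
import Groth.Agent.H15Subtr.EtQuot

/-!
# Étale charts of a datum near every point

For a morphism of finite type with a refinement by a flat cover of a proper surjective morphism, every
point of a separated étale datum lies in the image of a morphism from the canonical datum of an étale
scheme over the base.
-/

set_option autoImplicit false
set_option linter.style.haveILetI false
set_option backward.isDefEq.respectTransparency false

universe u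

open CategoryTheory CategoryTheory.Limits AlgebraicGeometry Opposite

namespace Groth.Agent.H15Subtr

open H9Hens H13Desc.Eff

/-- Transport of a value along a morphism of descent data with canonical source. -/
theorem comm_val {S' S : Scheme.{u}} {g : S' ⟶ S} {D : Desc.SchDD g} {W : Over S}
    (f : (Desc.toDD g).obj W ⟶ D) {T : Scheme.{u}} (z₀ z₁ : T ⟶ pullback g W.hom)
    (e : (z₀ ≫ pullback.fst g W.hom) ≫ g = (z₁ ≫ pullback.fst g W.hom) ≫ g)
    (hz : z₀ ≫ pullback.snd g W.hom = z₁ ≫ pullback.snd g W.hom) :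
    (D.φ _ _ e ⟨z₀ ≫ mmap f, by rw [Category.assoc, mmap_w]⟩).1 = z₁ ≫ mmap f := by
  refine (f.comm _ _ e (⟨z₀, rfl⟩ : Desc.Lifts ((Desc.toDD g).obj W).obj (z₀ ≫ pullback.fst g W.hom))
    ⟨z₀ ≫ mmap f, by rw [Category.assoc, mmap_w]⟩ rfl).trans ?_
  exact congrArg (· ≫ mmap f)
    (pullback.hom_ext (pullback.lift_fst _ _ _) ((pullback.lift_snd _ _ _).trans hz))

variable {S' S X Y : Scheme.{u}} {g : S' ⟶ S} [LocallyOfFiniteType g] (D : Desc.SchDD g) (h : X ⟶ S')
  (p : X ⟶ Y) (q : Y ⟶ S) (w : h ≫ g = p ≫ q) [Etale D.obj.hom] [IsSeparated D.obj.hom] [Flat p] [Surjective p]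
  [LocallyOfFinitePresentation p] [QuasiCompact p] [IsSeparated p] [IsProper q] [Surjective q]

set_option maxHeartbeats 800000 in
include h p q w in
/-- Every point of an étale separated datum lies in the image of an étale chart. -/
theorem exists_chart_at (u : D.obj.left) :
    ∃ (W : Over S) (f : (Desc.toDD g).obj W ⟶ D), Etale W.hom ∧ u ∈ Set.range (mmap f) := by
  let s : S := (D.obj.hom ≫ g) u
  obtain ⟨_, ⟨S₀, hS₀, rfl⟩, hs₀, -⟩ := S.isBasis_affineOpens.exists_subset_of_mem_open (Set.mem_univ s) isOpen_univ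
  let A : Type u := Γ(S, S₀)
  let ι₀ : Spec (CommRingCat.of A) ⟶ S := hS₀.fromSpec
  haveI : IsOpenImmersion ι₀ := inferInstanceAs (IsOpenImmersion hS₀.fromSpec)
  obtain ⟨pp, hpp⟩ : ∃ pp : PrimeSpectrum A, ι₀ pp = s := hS₀.range_fromSpec.ge hs₀
  let κ := pp.asIdeal.ResidueField
  let Ω := AlgebraicClosure κ
  let ω : Spec (CommRingCat.of Ω) ⟶ Spec (CommRingCat.of A) := Spec.map (CommRingCat.ofHom (algebraMap A Ω))
  have hω : ∀ z, ω z = pp := fun z => by
    refine PrimeSpectrum.ext ?_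
    show Ideal.comap (algebraMap A Ω) z.asIdeal = pp.asIdeal
    rw [show z.asIdeal = ⊥ from (Ideal.eq_bot_or_top _).resolve_right z.isPrime.ne_top,
      IsScalarTower.algebraMap_eq A κ Ω, ← Ideal.comap_comap,
      Ideal.comap_bot_of_injective _ (algebraMap κ Ω).injective, ← RingHom.ker_eq_comap_bot,
      Ideal.ker_algebraMap_residueField]
  obtain ⟨pt⟩ : Nonempty (Spec (CommRingCat.of Ω)) := inferInstance
  haveI : LocallyOfFiniteType (h ≫ g) := by rw [w]; infer_instance
  haveI : Surjective (h ≫ g) := by rw [w]; infer_instance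
  -- a geometric point of the refinement
  let FX := pullback (h ≫ g) (ω ≫ ι₀)
  haveI : JacobsonSpace ↥FX := LocallyOfFiniteType.jacobsonSpace (pullback.snd (h ≫ g) (ω ≫ ι₀))
  obtain ⟨x', -⟩ := (pullback.snd (h ≫ g) (ω ≫ ι₀)).surjective pt
  obtain ⟨zx, -, hzx⟩ := nonempty_inter_closedPoints (X := ↥FX) (Z := Set.univ) ⟨x', Set.mem_univ _⟩
    isClosed_univ.isLocallyClosed
  let xX := pointOfClosedPoint (pullback.snd (h ≫ g) (ω ≫ ι₀)) zx hzx ≫ pullback.fst (h ≫ g) (ω ≫ ι₀)
  have hxX : xX ≫ h ≫ g = ω ≫ ι₀ := by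
    rw [Category.assoc, pullback.condition, pointOfClosedPoint_comp_assoc]
  -- a closed specialization in the geometric fibre
  let F := pullback (D.obj.hom ≫ g) (ω ≫ ι₀)
  haveI : JacobsonSpace ↥F := LocallyOfFiniteType.jacobsonSpace (pullback.snd (D.obj.hom ≫ g) (ω ≫ ι₀))
  obtain ⟨u', hu', -⟩ := Scheme.Pullback.exists_preimage_pullback (f := D.obj.hom ≫ g) (g := ω ≫ ι₀) u pt
    (by rw [Scheme.Hom.comp_apply ω, hω, hpp])
  obtain ⟨z, hz, hzc⟩ := nonempty_inter_closedPoints (X := ↥F) (Z := closure {u'})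
    ⟨u', subset_closure rfl⟩ isClosed_closure.isLocallyClosed
  let v₀ := pointOfClosedPoint (pullback.snd (D.obj.hom ≫ g) (ω ≫ ι₀)) z hzc ≫ pullback.fst (D.obj.hom ≫ g) (ω ≫ ι₀)
  let x := v₀ ≫ D.obj.hom
  let v : Desc.Lifts D.obj x := ⟨v₀, rfl⟩
  have hx : x ≫ g = ω ≫ ι₀ := by
    show (v₀ ≫ D.obj.hom) ≫ g = _
    rw [Category.assoc, Category.assoc, pullback.condition, pointOfClosedPoint_comp_assoc]
  have hspec : u ⤳ v₀ pt := by
    have h1 : u' ⤳ z := specializes_iff_mem_closure.2 hz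
    have h2 := h1.map (pullback.fst (D.obj.hom ≫ g) (ω ≫ ι₀)).continuous
    rw [hu'] at h2
    have e : v₀ pt = pullback.fst (D.obj.hom ≫ g) (ω ≫ ι₀) z :=
      (Scheme.Hom.comp_apply _ _ _).trans (congrArg _ (pointOfClosedPoint_apply _ _ _ _))
    rw [e]; exact h2
  -- the strict henselization
  let kk := separableClosure κ Ω
  obtain ⟨H, _, _, π, hH⟩ := exists_isPtColim A kk
  haveI := hH.isLocalRing
  haveI := hH.henselianLocalRing
  have hsurj : Function.Surjective π := H18Et.UHomeoLift.surjective_of_separableClosure pp.asIdeal hH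
  have hker : ∀ a ∈ IsLocalRing.maximalIdeal H, π a = 0 := fun a ha => by
    rw [hH.maximalIdeal_eq] at ha; exact ha
  let ρ : IsLocalRing.ResidueField H →+* kk := Ideal.Quotient.lift _ π.toRingHom hker
  have hρ : Function.Bijective ρ :=
    ⟨RingHom.injective _, fun y => (hsurj y).elim fun a ha => ⟨IsLocalRing.residue H a, ha⟩⟩
  haveI : IsIso (CommRingCat.ofHom ρ) := (ConcreteCategory.isIso_iff_bijective _).2 hρ
  let ι : Spec (CommRingCat.of Ω) ⟶ Spec (CommRingCat.of (IsLocalRing.ResidueField H)) :=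
    Spec.map (CommRingCat.ofHom (algebraMap kk Ω)) ≫ Spec.map (CommRingCat.ofHom ρ)
  haveI : IsPurelyInseparable kk Ω := separableClosure.isPurelyInseparable κ Ω
  haveI : UniversallyInjective (Spec.map (CommRingCat.ofHom (algebraMap kk Ω))) :=
    H7Lim.GeomConnFinite.universallyInjective_SpecMap kk Ω
  haveI : IsIntegralHom (Spec.map (CommRingCat.ofHom (algebraMap kk Ω))) := by
    rw [IsIntegralHom.SpecMap_iff]
    haveI : Algebra.IsAlgebraic kk Ω := Algebra.IsAlgebraic.tower_top (K := κ) kk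
    exact Algebra.IsIntegral.isIntegral (R := kk) (A := Ω)
  haveI : UniversallyInjective (Spec.map (CommRingCat.ofHom ρ)) := inferInstance
  haveI : IsIntegralHom (Spec.map (CommRingCat.ofHom ρ)) := inferInstance
  haveI : IsIntegralHom ι := inferInstance
  haveI : UniversallyInjective ι := MorphismProperty.comp_mem _ _ _ ‹UniversallyInjective (Spec.map (CommRingCat.ofHom (algebraMap kk Ω)))› ‹UniversallyInjective (Spec.map (CommRingCat.ofHom ρ))›
  haveI : Surjective ι := ⟨fun z => ⟨pt, Subsingleton.elim (α := PrimeSpectrum (IsLocalRing.ResidueField H)) _ _⟩⟩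
  let rA := Spec.map (CommRingCat.ofHom (algebraMap A H))
  have hι : ι ≫ closedPt H ≫ rA = ω := by
    show (Spec.map _ ≫ Spec.map _) ≫ Spec.map _ ≫ Spec.map _ = Spec.map _
    rw [← Spec.map_comp, ← Spec.map_comp, ← Spec.map_comp]
    congr 1
    ext a
    show algebraMap kk Ω (π (algebraMap A H a)) = algebraMap A Ω a
    rw [π.commutes]; rfl
  have hxr : x ≫ g = (ι ≫ closedPt H) ≫ rA ≫ ι₀ := by
    rw [hx, ← hι]; simp only [Category.assoc]
  obtain ⟨σ, hσ, hc, hclosed⟩ := exists_local_section (rA ≫ ι₀) h p q w ι x v hxr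
  obtain ⟨j, σj, hσj, hcj, hmap⟩ := compat_stage_of_limit D h p q w ι₀ hH σ hσ hc
  let W : Over S := Over.mk (stageHom j.unop ≫ ι₀)
  haveI := etale_stageHom (A := A) (k := kk) j.unop
  haveI : Etale W.hom := inferInstanceAs (Etale (stageHom j.unop ≫ ι₀))
  have hq : SGA1.UnivSubmersive (pullback.snd (h ≫ g) W.hom) := by
    refine univSubmersive_snd ?_
    rw [w]
    exact univSubmersive_comp (univSubmersive_of_universallyOpen p) (univSubmersive_of_universallyClosed q)
  obtain ⟨f, hf⟩ := exists_hom_of_refinement h W hq σj hσj hcj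
  let lmap : pullback (h ≫ g) W.hom ⟶ pullback g W.hom :=
    pullback.lift (pullback.fst _ _ ≫ h) (pullback.snd _ _) (by rw [Category.assoc, pullback.condition])
  have hl : lmap ≫ mmap f = σj := hf lmap (pullback.lift_fst _ _ _) (pullback.lift_snd _ _ _)
  let a : Spec (CommRingCat.of Ω) ⟶ pullback (h ≫ g) (rA ≫ ι₀) := pullback.lift xX (ι ≫ closedPt H)
    (by rw [hxX, ← hι]; simp only [Category.assoc])
  have ha₁ : a ≫ pullback.fst (h ≫ g) (rA ≫ ι₀) = xX := pullback.lift_fst _ _ _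
  have e₁ : (𝟙 _ ≫ x) ≫ g = (a ≫ pullback.fst (h ≫ g) (rA ≫ ι₀) ≫ h) ≫ g := by
    rw [Category.id_comp, ← Category.assoc a, ha₁, hx]; exact ((Category.assoc _ _ _).trans hxX).symm
  have hcl := hclosed a (𝟙 _) e₁ ((pullback.lift_snd _ _ _).trans (Category.id_comp _).symm)
  let b := a ≫ pullback.map (h ≫ g) (rA ≫ ι₀) (h ≫ g) (stageHom j.unop ≫ ι₀) (𝟙 X) ((specCone hH).π.app j) (𝟙 S)
    (by simp) (by rw [Category.comp_id]; exact ((congrArg (· ≫ ι₀) (specCone_stageHom hH j)).symm).trans (Category.assoc _ _ _))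
  have hb : b ≫ σj = a ≫ σ := by rw [Category.assoc, hmap]
  have hb₁ : b ≫ pullback.fst (h ≫ g) W.hom = xX := by
    show (a ≫ pullback.map _ _ _ _ _ _ _ _ _) ≫ pullback.fst _ _ = xX
    rw [Category.assoc, pullback.lift_fst, Category.comp_id, ha₁]
  let z₀ := b ≫ lmap
  have hz₀ : z₀ ≫ pullback.fst g W.hom = xX ≫ h := by
    rw [Category.assoc, pullback.lift_fst, ← Category.assoc, hb₁]
  let z₁ : Spec (CommRingCat.of Ω) ⟶ pullback g W.hom := pullback.lift x (z₀ ≫ pullback.snd g W.hom) (by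
    refine hx.trans ?_
    rw [Category.assoc, ← pullback.condition, ← Category.assoc, hz₀]; exact ((Category.assoc _ _ _).trans hxX).symm)
  have hz₁ : z₁ ≫ pullback.fst g W.hom = x := pullback.lift_fst _ _ _
  have e₀ : (z₀ ≫ pullback.fst g W.hom) ≫ g = (z₁ ≫ pullback.fst g W.hom) ≫ g := by
    rw [hz₀, hz₁, hx]; exact (Category.assoc _ _ _).trans hxX
  have key : z₁ ≫ mmap f = v₀ := by
    rw [← comm_val f z₀ z₁ e₀ (pullback.lift_snd _ _ _).symm]
    have ev : (D.φ x (z₀ ≫ pullback.fst g W.hom) (by rw [hz₀, hx]; exact ((Category.assoc _ _ _).trans hxX).symm) v).1 = z₀ ≫ mmap f := by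
      refine Eq.trans ?_ (hcl.trans ?_)
      · exact phi_congr'' D (Category.id_comp x).symm (by rw [hz₀, ← Category.assoc a, ha₁]) _ _ _ _ (Category.id_comp v₀).symm
      · exact hb.symm.trans ((congrArg (b ≫ ·) hl.symm).trans (Category.assoc _ _ _).symm)
    rw [phi_trans_val D x _ _ _ e₀ v ⟨z₀ ≫ mmap f, by rw [Category.assoc, mmap_w]⟩ ev]
    exact phi_self'' D hz₁.symm _ v
  haveI : Etale (mmap f) := etale_mmap f
  refine ⟨W, f, inferInstance, hspec.mem_open (mmap f).isOpenMap.isOpen_range ?_⟩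
  exact ⟨z₁ pt, by rw [← Scheme.Hom.comp_apply, key]⟩

end Groth.Agent.H15Subtr
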