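import Groth.Agent.H15Subtr.Cover
import Mathlib.AlgebraicGeometry.Morphisms.Flat

/-!
# Structure theorems for universally subtrusive morphisms of finite presentation
-/

set_option autoImplicit false
set_option linter.style.haveILetI false
set_option backward.isDefEq.respectTransparency false

universe u

open CategoryTheory CategoryTheory.Limits AlgebraicGeometry TopologicalSpace
open Groth.Agent.H18HTop

namespace Groth.Agent.H15Subtr

/-- Proper morphisms of finite presentation. -/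
def properFp : MorphismProperty Scheme.{u} := fun _ _ f => IsProper f ∧ LocallyOfFinitePresentation f

/-- Finite morphisms of finite presentation. -/
def finiteFp : MorphismProperty Scheme.{u} := fun _ _ f => IsFinite f ∧ LocallyOfFinitePresentation f

theorem lfp_sigmaDesc {I : Type u} {X : I → Scheme.{u}} {Y : Scheme.{u}} (f : ∀ i, X i ⟶ Y)
    (h : ∀ i, LocallyOfFinitePresentation (f i)) : LocallyOfFinitePresentation (Sigma.desc f) :=
  (IsZariskiLocalAtSource.iff_of_openCover (P := @LocallyOfFinitePresentation) (sigmaOpenCover _)).2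
    fun i => by
      change LocallyOfFinitePresentation (Sigma.ι _ i ≫ Sigma.desc f)
      rw [Sigma.ι_desc]
      exact h i

theorem goodClass_properFp : GoodClass properFp.{u} where
  id_mem _ := ⟨inferInstance, inferInstance⟩
  comp_mem f g hf hg := by
    obtain ⟨_, _⟩ := hf
    obtain ⟨_, _⟩ := hg
    exact ⟨inferInstance, inferInstance⟩
  fst_mem f g hg := by
    obtain ⟨_, _⟩ := hg
    exact ⟨MorphismProperty.pullback_fst _ _ inferInstance, MorphismProperty.pullback_fst _ _ inferInstance⟩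
  proper h := h.1
  lfp h := h.2
  closed_mem f hf hf' := by
    exact ⟨inferInstance, hf'⟩
  desc_mem {I} _ {X Y} f hf := by
    haveI := fun i => (hf i).1
    haveI := fun i => (hf i).2
    haveI : UniversallyClosed (Sigma.desc f) := universallyClosed_sigmaDesc _
    haveI : IsSeparated (Sigma.desc f) :=
      Groth.Agent.H12AlgSp.isSeparated_sigmaDesc f fun i => inferInstance
    haveI : LocallyOfFinitePresentation (Sigma.desc f) := lfp_sigmaDesc f fun i => inferInstance
    exact ⟨⟨⟩, inferInstance⟩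

theorem goodClass_finiteFp : GoodClass finiteFp.{u} where
  id_mem _ := ⟨inferInstance, inferInstance⟩
  comp_mem f g hf hg := by
    obtain ⟨_, _⟩ := hf
    obtain ⟨_, _⟩ := hg
    exact ⟨inferInstance, inferInstance⟩
  fst_mem f g hg := by
    obtain ⟨_, _⟩ := hg
    exact ⟨MorphismProperty.pullback_fst _ _ inferInstance, MorphismProperty.pullback_fst _ _ inferInstance⟩
  proper h := by
    obtain ⟨_, _⟩ := h
    infer_instance
  lfp h := h.2
  closed_mem f hf hf' := ⟨inferInstance, hf'⟩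
  desc_mem {I} _ {X Y} f hf :=
    ⟨Groth.Agent.H9Gal.QfhBasics.isFinite_sigmaDesc I X f fun i => (hf i).1,
      lfp_sigmaDesc f fun i => (hf i).2⟩

variable {Y : Scheme.{u}} [CompactSpace Y] [QuasiSeparatedSpace Y]

/-- An affine scheme of finite presentation over an affine open of `Y` is open in a proper one over `Y`. -/
theorem exists_open_in_properFp {C : Scheme.{u}} [IsAffine C] (q : C ⟶ Y) [LocallyOfFinitePresentation q]
    [QuasiCompact q] (W : Y.affineOpens) (hW : Set.range q ⊆ (W.1 : Set Y)) :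
    ∃ (P : Scheme.{u}) (p : P ⟶ Y) (j : C ⟶ P), properFp p ∧ IsOpenImmersion j ∧ j ≫ p = q := by
  haveI : IsAffine (W.1 : Scheme.{u}) := W.2
  let qW : C ⟶ (W.1 : Scheme.{u}) := IsOpenImmersion.lift W.1.ι q (by rw [Scheme.Opens.range_ι]; exact hW)
  have hqW : qW ≫ W.1.ι = q := IsOpenImmersion.lift_fac _ _ _
  haveI : LocallyOfFiniteType (qW ≫ W.1.ι) := by rw [hqW]; infer_instance
  haveI : LocallyOfFiniteType qW := locallyOfFiniteType_of_comp qW W.1.ι
  obtain ⟨n, i, hi, hiq⟩ := Groth.Agent.H11Ample.exists_immersion_projSpaceOver qW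
    (Groth.Agent.H11Ample.isQuasiAffine_iff_isAmple.1 inferInstance : CohB1.IsAmple (Coh.structureModule C))
  haveI := hi
  haveI : QuasiCompact W.1.ι := inferInstance
  let P₀ := CohB1.ProjSpaceOver n Y
  let p₀ : P₀ ⟶ Y := CohB1.ProjSpaceOver.toBase n Y
  let PW := CohB1.ProjSpaceOver n (W.1 : Scheme.{u})
  let pW : PW ⟶ (W.1 : Scheme.{u}) := CohB1.ProjSpaceOver.toBase n (W.1 : Scheme.{u})
  let w : PW ⟶ P₀ := pullback.lift (pullback.fst _ _) (pW ≫ W.1.ι) (by
    rw [Category.assoc, pullback.condition]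
    exact congrArg (pW ≫ ·) (specULiftZIsTerminal.hom_ext _ _))
  have hw : IsPullback w pW p₀ W.1.ι := by
    refine IsPullback.of_right (h₁₂ := pullback.fst _ _) ?_ ?_ (IsPullback.of_hasPullback
      (CohB1.ProjSpace.toSpec n (ULift.{u} ℤ)) (specULiftZIsTerminal.from Y))
    · rw [show w ≫ pullback.fst _ _ = pullback.fst _ _ from pullback.lift_fst _ _ _,
        specULiftZIsTerminal.hom_ext (W.1.ι ≫ specULiftZIsTerminal.from Y) (specULiftZIsTerminal.from _)]
      exact IsPullback.of_hasPullback _ _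
    · exact pullback.lift_snd _ _ _
  haveI : IsOpenImmersion w := MorphismProperty.of_isPullback (P := @IsOpenImmersion) hw.flip inferInstance
  haveI : IsProper p₀ := H27Weil.isProper_toBase n Y
  haveI : LocallyOfFinitePresentation p₀ := by
    haveI := H27Weil.isProper_toSpec n (ULift.{u} ℤ)
    haveI : IsNoetherianRing (ULift.{u} ℤ) := isNoetherianRing_of_ringEquiv ℤ ULift.ringEquiv.symm
    haveI : LocallyOfFinitePresentation (CohB1.ProjSpace.toSpec n (ULift.{u} ℤ)) :=
      locallyOfFinitePresentation_of_noetherian _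
    exact MorphismProperty.pullback_snd _ _ inferInstance
  haveI : CompactSpace P₀ := QuasiCompact.compactSpace_of_compactSpace p₀
  haveI : QuasiSeparatedSpace P₀ := quasiSeparatedSpace_of_quasiSeparated p₀
  have hiwp : (i ≫ w) ≫ p₀ = q := by
    rw [Category.assoc, hw.w, ← Category.assoc, show i ≫ pW = qW from hiq, hqW]
  haveI : QuasiCompact (i ≫ w) := by
    haveI : QuasiCompact ((i ≫ w) ≫ p₀) := by rw [hiwp]; infer_instance
    exact QuasiCompact.of_comp (i ≫ w) p₀
  haveI : LocallyOfFinitePresentation (i ≫ w) := by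
    haveI : LocallyOfFinitePresentation ((i ≫ w) ≫ p₀) := by rw [hiwp]; infer_instance
    exact Groth.Agent.H7Lim.locallyOfFinitePresentation_of_comp (i ≫ w) p₀
  obtain ⟨Z, z, j, hz, hz', hj, -, hjz⟩ := H8Props.FiniteFactor.exists_openImmersion_fp_closed (i ≫ w)
  exact ⟨Z, z ≫ p₀, j, ⟨inferInstance, inferInstance⟩, hj, by rw [← Category.assoc, hjz, hiwp]⟩

omit [CompactSpace Y] [QuasiSeparatedSpace Y] in
theorem isSeparated_of_affine_source {C : Scheme.{u}} [IsAffine C] (q : C ⟶ Y) : IsSeparated q := by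
  haveI : IsSeparated (q ≫ terminal.from Y) := by
    rw [terminal.comp_from]; infer_instance
  exact IsSeparated.of_comp q (terminal.from Y)

/-- An affine scheme quasi-finite of finite presentation over `Y` is open in a finite one. -/
theorem exists_open_in_finiteFp {C : Scheme.{u}} [IsAffine C] (q : C ⟶ Y) [LocallyOfFinitePresentation q]
    [QuasiCompact q] [LocallyQuasiFinite q] :
    ∃ (P : Scheme.{u}) (p : P ⟶ Y) (j : C ⟶ P), finiteFp p ∧ IsOpenImmersion j ∧ j ≫ p = q := by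
  haveI := isSeparated_of_affine_source q
  obtain ⟨T, j, π, hj, -, hπ, hπ', hjπ⟩ := H8Props.FiniteFactor.exists_openImmersion_finite_fp q
  exact ⟨T, π, j, ⟨hπ, hπ'⟩, hj, hjπ⟩

variable {X : Scheme.{u}} (f : X ⟶ Y)

/-- Finitely many affine opens of `X` lying over affine opens of `Y`, covering `X`. -/
theorem exists_affine_cover [QuasiCompact f] : ∃ (κ : Type) (_ : Finite κ) (U : κ → X.affineOpens)
    (W : κ → Y.affineOpens), (∀ k, (U k).1 ≤ f ⁻¹ᵁ (W k).1) ∧ ∀ x, ∃ k, x ∈ (U k).1 := by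
  classical
  haveI : CompactSpace X := QuasiCompact.compactSpace_of_compactSpace f
  have h : ∀ x : X, ∃ (U : X.affineOpens) (W : Y.affineOpens), x ∈ U.1 ∧ U.1 ≤ f ⁻¹ᵁ W.1 := fun x => by
    obtain ⟨W, hW, hxW, -⟩ := exists_isAffineOpen_mem_and_subset (U := (⊤ : Y.Opens)) (x := f x) trivial
    obtain ⟨U, hU, hxU, hUW⟩ := exists_isAffineOpen_mem_and_subset (U := f ⁻¹ᵁ W) (x := x) hxW
    exact ⟨⟨U, hU⟩, ⟨W, hW⟩, hxU, hUW⟩
  choose U W hxU hUW using h
  obtain ⟨t, ht⟩ := isCompact_univ.elim_finite_subcover (fun x => ((U x).1 : Set X)) (fun x => (U x).1.2)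
    fun x _ => Set.mem_iUnion.2 ⟨x, hxU x⟩
  refine ⟨Fin t.card, inferInstance, fun k => U (t.equivFin.symm k).1, fun k => W (t.equivFin.symm k).1,
    fun k => hUW _, fun x => ?_⟩
  obtain ⟨y, hy, hxy⟩ := Set.mem_iUnion₂.1 (ht (Set.mem_univ x))
  exact ⟨t.equivFin ⟨y, hy⟩, by simpa using hxy⟩

theorem lifts_of_cover (hf : Subtr.UnivSSubtrusive f) {κ : Type} (U : κ → X.affineOpens)
    (hU : ∀ x, ∃ k, x ∈ (U k).1) : Lifts (fun k => (U k).1.ι ≫ f) := by
  intro V _ _ g
  obtain ⟨W, i1, i2, φ, hφ, _j, v, hv⟩ := (H18Subtr.univSSubtrusive_iff_hasValLift.{0} f).1 hf V g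
  haveI := i1
  haveI := i2
  let v' : Spec W ⟶ X := v
  obtain ⟨k, hk⟩ := hU (v' (IsLocalRing.closedPoint W))
  refine ⟨W, i1, i2, φ, hφ, k, IsOpenImmersion.lift (U k).1.ι v' ?_, ?_⟩
  · rw [Scheme.Opens.range_ι]; exact range_subset_of_closedPoint_mem v' _ hk
  · show IsOpenImmersion.lift (U k).1.ι v' _ ≫ (U k).1.ι ≫ f = _
    rw [IsOpenImmersion.lift_fac_assoc]
    exact hv

/-- The refinement of a universally subtrusive morphism of finite presentation. -/
theorem exists_refinement [LocallyOfFinitePresentation f] [QuasiCompact f]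
    (hf : Subtr.UnivSSubtrusive f) {Q : MorphismProperty Scheme.{u}} (hQ : GoodClass Q)
    (hC : ∀ (U : X.affineOpens) (W : Y.affineOpens), U.1 ≤ f ⁻¹ᵁ W.1 → QuasiCompact (U.1.ι ≫ f) →
      ∃ (P : Scheme.{u}) (p : P ⟶ Y) (j : (U.1 : Scheme.{u}) ⟶ P), Q p ∧ IsOpenImmersion j ∧ j ≫ p = U.1.ι ≫ f) :
    ∃ (X' Y' : Scheme.{u}) (h : X' ⟶ X) (p : X' ⟶ Y') (q : Y' ⟶ Y), h ≫ f = p ≫ q ∧
      Surjective p ∧ QuasiCompact p ∧ IsSeparated p ∧ Flat p ∧ LocallyOfFinitePresentation p ∧
      (∀ x : X', ∃ U : X'.Opens, x ∈ U ∧ IsOpenImmersion (U.ι ≫ p)) ∧ Q q ∧ Surjective q := by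
  classical
  obtain ⟨κ, _, U, W, hUW, hU⟩ := exists_affine_cover f
  haveI : ∀ k, IsAffine ((U k).1 : Scheme.{u}) := fun k => (U k).2
  haveI : ∀ k, QuasiCompact ((U k).1.ι ≫ f) := fun k => inferInstance
  obtain ⟨T, g, hg, hgs, hcov⟩ := exists_cover (fun k => (U k).1.ι ≫ f) hQ
    (fun k => hC (U k) (W k) (hUW k) inferInstance) (lifts_of_cover f hf U hU)
  haveI := hQ.proper hg
  haveI : CompactSpace T := QuasiCompact.compactSpace_of_compactSpace g
  haveI : QuasiSeparatedSpace T := quasiSeparatedSpace_of_quasiSeparated g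
  choose O k h hyO hh using hcov
  have hA : ∀ y : T, ∃ A : T.affineOpens, y ∈ A.1 ∧ A.1 ≤ O y := fun y => by
    obtain ⟨A, hA, hyA, hAO⟩ := exists_isAffineOpen_mem_and_subset (U := O y) (hyO y)
    exact ⟨⟨A, hA⟩, hyA, hAO⟩
  choose A hyA hAO using hA
  obtain ⟨t, ht⟩ := isCompact_univ.elim_finite_subcover (fun y => ((A y).1 : Set T)) (fun y => (A y).1.2)
    fun y _ => Set.mem_iUnion.2 ⟨y, hyA y⟩
  let Z : t → Scheme.{u} := fun y => (A y.1).1
  haveI : ∀ y, IsAffine (Z y) := fun y => (A y.1).2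
  let hX : (∐ Z) ⟶ X := Sigma.desc fun y => T.homOfLE (hAO y.1) ≫ h y.1 ≫ (U (k y.1)).1.ι
  let p : (∐ Z) ⟶ T := Sigma.desc fun y => (A y.1).1.ι
  have hcomm : hX ≫ f = p ≫ g := by
    refine Sigma.hom_ext _ _ fun y => ?_
    rw [Sigma.ι_desc_assoc, Sigma.ι_desc_assoc, Category.assoc, Category.assoc, hh, ← Category.assoc,
      Scheme.homOfLE_ι]
  have hloc : ∀ y : t, Sigma.ι Z y ≫ p = (A y.1).1.ι := fun y => Sigma.ι_desc _ _
  refine ⟨_, T, hX, p, g, hcomm, ⟨fun y => ?_⟩, quasiCompact_sigmaDesc _,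
    Groth.Agent.H12AlgSp.isSeparated_sigmaDesc _ fun y => inferInstance, ?_,
    lfp_sigmaDesc _ fun y => inferInstance, fun x => ?_, hg, hgs⟩
  · obtain ⟨z, hz, hyz⟩ := Set.mem_iUnion₂.1 (ht (Set.mem_univ y))
    refine ⟨Sigma.ι Z ⟨z, hz⟩ ⟨y, hyz⟩, ?_⟩
    rw [← Scheme.Hom.comp_apply, hloc]
    rfl
  · refine (IsZariskiLocalAtSource.iff_of_openCover (P := @Flat) (sigmaOpenCover _)).2 fun y => ?_
    change Flat (Sigma.ι Z y ≫ p)
    rw [hloc]
    infer_instance
  · obtain ⟨y, z, hz⟩ := (sigmaOpenCover Z).exists_eq x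
    haveI : IsOpenImmersion (Sigma.ι Z y) := inferInstance
    refine ⟨(Sigma.ι Z y).opensRange, ⟨z, hz⟩, ?_⟩
    have e : (Sigma.ι Z y).opensRange.ι ≫ p = (Sigma.ι Z y).isoOpensRange.inv ≫ (A y.1).1.ι := by
      rw [← hloc, Iso.eq_inv_comp, Scheme.Hom.isoOpensRange_hom_ι_assoc]
    rw [e]
    infer_instance

theorem exists_refinement_proper [LocallyOfFinitePresentation f] [QuasiCompact f]
    (hf : Subtr.UnivSSubtrusive f) :
    ∃ (X' Y' : Scheme.{u}) (h : X' ⟶ X) (p : X' ⟶ Y') (q : Y' ⟶ Y), h ≫ f = p ≫ q ∧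
      Surjective p ∧ QuasiCompact p ∧ IsSeparated p ∧ Flat p ∧ LocallyOfFinitePresentation p ∧
      (∀ x : X', ∃ U : X'.Opens, x ∈ U ∧ IsOpenImmersion (U.ι ≫ p)) ∧ properFp q ∧ Surjective q :=
  exists_refinement f hf goodClass_properFp fun U W hUW _ => by
    haveI : IsAffine (U.1 : Scheme.{u}) := U.2
    refine exists_open_in_properFp (U.1.ι ≫ f) W ?_
    rintro _ ⟨z, rfl⟩
    exact hUW z.2

theorem exists_refinement_finite [LocallyOfFinitePresentation f] [QuasiCompact f] [LocallyQuasiFinite f]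
    (hf : Subtr.UnivSSubtrusive f) :
    ∃ (X' Y' : Scheme.{u}) (h : X' ⟶ X) (p : X' ⟶ Y') (q : Y' ⟶ Y), h ≫ f = p ≫ q ∧
      Surjective p ∧ QuasiCompact p ∧ IsSeparated p ∧ Flat p ∧ LocallyOfFinitePresentation p ∧
      (∀ x : X', ∃ U : X'.Opens, x ∈ U ∧ IsOpenImmersion (U.ι ≫ p)) ∧ finiteFp q ∧ Surjective q :=
  exists_refinement f hf goodClass_finiteFp fun U W _ _ => by
    haveI : IsAffine (U.1 : Scheme.{u}) := U.2
    exact exists_open_in_finiteFp (U.1.ι ≫ f)

theorem quasiSeparatedSpace_of_affine_or_noetherian {Y : Scheme.{u}} (hY : IsAffine Y ∨ IsNoetherian Y) :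
    CompactSpace Y ∧ QuasiSeparatedSpace Y := by
  rcases hY with h | h <;> exact ⟨inferInstance, inferInstance⟩

end Groth.Agent.H15Subtr
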