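import Groth.Agent.H18Subtr.Basic
import Groth.Agent.H7Lim.Descend

/-!
# Universally subtrusive morphisms: formal properties
-/

set_option autoImplicit false
set_option linter.style.haveILetI false
set_option backward.isDefEq.respectTransparency false

universe u

open CategoryTheory CategoryTheory.Limits AlgebraicGeometry

namespace Groth.Agent.H15Subtr

instance isStableUnderBaseChange_univSS : Subtr.UnivSSubtrusive.{u}.IsStableUnderBaseChange :=
  MorphismProperty.universally_isStableUnderBaseChange _

instance isZariskiLocalAtTarget_univSS : IsZariskiLocalAtTarget Subtr.UnivSSubtrusive.{u} := by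
  refine universally_isZariskiLocalAtTarget _ fun {X Y} f {ι} U hU H y y' hy => ?_
  obtain ⟨i, hi⟩ := hU.exists_mem y
  have hi' : y' ∈ U i := hy.mem_open (U i).2 hi
  obtain ⟨x, x', hx, h1, h2⟩ := H i (y := ⟨y, hi⟩) (y' := ⟨y', hi'⟩) ((subtype_specializes_iff _ _).2 hy)
  refine ⟨(f ⁻¹ᵁ U i).ι x, (f ⁻¹ᵁ U i).ι x', hx.map (Scheme.Hom.continuous _), ?_, ?_⟩
  · rw [← Scheme.Hom.comp_apply, ← morphismRestrict_ι, Scheme.Hom.comp_apply, h1]; rfl
  · rw [← Scheme.Hom.comp_apply, ← morphismRestrict_ι, Scheme.Hom.comp_apply, h2]; rfl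

/-- Lifting of valuation subrings of algebraically closed fields suffices. -/
theorem univSS_of_algClosed {X Y : Scheme.{u}} (f : X ⟶ Y)
    (h : ∀ (L : Type u) [Field L] [IsAlgClosed L] (W : ValuationSubring L)
      (l : Spec (CommRingCat.of W) ⟶ Y), ∃ m : Spec (CommRingCat.of W) ⟶ X, m ≫ f = l) :
    Subtr.UnivSSubtrusive f := by
  refine (H18Subtr.univSSubtrusive_iff_hasValLift.{0} f).2 fun V _ _ gV => ?_
  let L := AlgebraicClosure (FractionRing V)
  let e : V →+* L := (algebraMap (FractionRing V) L).comp (algebraMap V (FractionRing V))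
  have he : Function.Injective e :=
    (algebraMap (FractionRing V) L).injective.comp (IsFractionRing.injective V (FractionRing V))
  obtain ⟨W, hW⟩ := (LocalSubring.range e).exists_le_valuationSubring
  obtain ⟨hsub, hloc⟩ := LocalSubring.le_def.1 hW
  let θ : V →+* W := (Subring.inclusion hsub).comp e.rangeRestrict
  have hθinj : Function.Injective θ := fun x y hxy => he (congrArg Subtype.val hxy)
  haveI : IsLocalHom θ := by
    haveI : IsLocalHom e.rangeRestrict :=
      IsLocalHom.of_surjective e.rangeRestrict e.rangeRestrict_surjective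
    exact RingHom.isLocalHom_comp _ _
  obtain ⟨m, hm⟩ := h L W (Spec.map (CommRingCat.ofHom θ) ≫ gV)
  exact ⟨CommRingCat.of W, inferInstanceAs (IsDomain W), inferInstanceAs (ValuationRing W),
    CommRingCat.ofHom θ, ⟨hθinj, inferInstanceAs (IsLocalHom θ)⟩, PUnit.unit, m, hm⟩

end Groth.Agent.H15Subtr
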