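import Groth.Agent.H15Subtr.EtTransfer
import Groth.Agent.H15Subtr.EtChart
import Groth.Agent.H15Subtr.Refine
import Groth.Agent.H15Subtr.Stable
import Groth.Agent.H15Subtr.UnivSSCriteria

/-!
# Étale data along subtrusive morphisms of finite presentation have charts
-/

set_option autoImplicit false
set_option linter.style.haveILetI false
set_option backward.isDefEq.respectTransparency false

universe u

open CategoryTheory CategoryTheory.Limits AlgebraicGeometry

namespace Groth.Agent.H15Subtr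

open H13Desc.Eff

variable {S' S : Scheme.{u}} {g : S' ⟶ S}

/-- A separated étale datum along a universally subtrusive morphism of finite presentation has charts. -/
theorem hasCharts_fp [LocallyOfFinitePresentation g] [QuasiCompact g] (hg : Subtr.UnivSSubtrusive g)
    (D : Desc.SchDD g) [Etale D.obj.hom] [IsSeparated D.obj.hom] : HasCharts D := by
  intro u
  obtain ⟨V, hV, hsV, -⟩ := exists_isAffineOpen_mem_and_subset (U := (⊤ : S.Opens))
    (x := (D.obj.hom ≫ g) u) trivial
  haveI : IsAffine (V : Scheme.{u}) := hV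
  let p₀ := g ∣_ V
  let h : (g ⁻¹ᵁ V : Scheme.{u}) ⟶ S' := (g ⁻¹ᵁ V).ι
  have w : h ≫ g = p₀ ≫ V.ι := (morphismRestrict_ι g V).symm
  have hp₀ : Subtr.UnivSSubtrusive p₀ :=
    MorphismProperty.of_isPullback (P := Subtr.UnivSSubtrusive) (isPullback_morphismRestrict g V).flip hg
  let D₀ := pullRef D h p₀ V.ι w
  haveI : Etale D₀.obj.hom := inferInstanceAs (Etale (pullback.snd D.obj.hom h))
  haveI : IsSeparated D₀.obj.hom := inferInstanceAs (IsSeparated (pullback.snd D.obj.hom h))
  have hu : D.obj.hom u ∈ g ⁻¹ᵁ V := by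
    rw [Scheme.Hom.comp_apply] at hsV
    exact hsV
  obtain ⟨u₀, hu₀, -⟩ := Scheme.Pullback.exists_preimage_pullback (f := D.obj.hom) (g := h) u ⟨_, hu⟩ rfl
  obtain ⟨X', Y', m, p, q, e, hp, hpc, hps, hpf, hpl, -, ⟨hq, -⟩, hqs⟩ := exists_refinement_proper p₀ hp₀
  obtain ⟨W', f', hW', hf'⟩ := exists_chart_at D₀ m p q e u₀
  obtain ⟨W, f, hW, hf⟩ := exists_chart_of_ref D h p₀ V.ι w (univSubmersive_of_univSS p₀ hp₀) f' u₀ hf'
  exact ⟨W, f, hW, hu₀ ▸ hf⟩

end Groth.Agent.H15Subtr
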