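import Groth.Agent.H15Subtr.EtProdDiag
import Mathlib.AlgebraicGeometry.AffineTransitionLimit

/-!
# Descent of an action of a relation to a stage of an inverse system
-/

set_option autoImplicit false
set_option linter.style.haveILetI false
set_option backward.isDefEq.respectTransparency false

universe u

open CategoryTheory CategoryTheory.Limits AlgebraicGeometry

namespace Groth.Agent.H15Subtr

variable {J : Type u} [Category.{u} J] [IsCofiltered J] {F G : J ⥤ Scheme.{u}} {S : Scheme.{u}}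

/-- The composite with the structure maps. -/
noncomputable def sNat (pr : F ⟶ G) (t : G ⟶ (Functor.const J).obj S) : F ⟶ (Functor.const J).obj S :=
  pr ≫ t

/-- The structure maps of the relation, by the second projection. -/
noncomputable def sRel (pr : F ⟶ G) (t : G ⟶ (Functor.const J).obj S) :
    prodDiag (sNat pr t) t ⟶ (Functor.const J).obj S where
  app k := pSnd k ≫ t.app k
  naturality j k f := by
    have := t.naturality f
    simp only [Functor.const_obj_obj, Functor.const_obj_map, Category.comp_id] at this ⊢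
    rw [map_pSnd_assoc, this]

variable (pr : F ⟶ G) (t : G ⟶ (Functor.const J).obj S)
  (hpb : ∀ {j k : J} (f : j ⟶ k), IsPullback (F.map f) (pr.app j) (pr.app k) (G.map f))
  [∀ (i j : J) (f : i ⟶ j), IsAffineHom (G.map f)]
  [∀ k, CompactSpace (F.obj k)] [∀ k, QuasiSeparatedSpace (F.obj k)]
  [∀ k, QuasiCompact (t.app k)] [∀ k, QuasiSeparated (t.app k)]
  [∀ k, LocallyOfFinitePresentation (pr.app k)]
  {cF : Cone F} (hF : IsLimit cF) {cG : Cone G} (hG : IsLimit cG)
  (h : cF.pt ⟶ cG.pt) (hh : ∀ k, cF.π.app k ≫ pr.app k = h ≫ cG.π.app k)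
  (g : cG.pt ⟶ S) (hg : ∀ k, cG.π.app k ≫ t.app k = g)

omit [IsCofiltered J] [∀ (i j : J) (f : i ⟶ j), IsAffineHom (G.map f)] [∀ k, CompactSpace (F.obj k)]
  [∀ k, QuasiSeparatedSpace (F.obj k)] [∀ k, QuasiCompact (t.app k)] [∀ k, QuasiSeparated (t.app k)]
  [∀ k, LocallyOfFinitePresentation (pr.app k)] in
include hh hg in
theorem hsLim (k : J) : cF.π.app k ≫ (sNat pr t).app k = h ≫ g := by
  show cF.π.app k ≫ pr.app k ≫ t.app k = _
  rw [← Category.assoc, hh, Category.assoc, hg]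

set_option maxHeartbeats 800000 in
include hpb hF hG in
/-- An action of the relation of the limit, with unit and associativity, comes from a stage. -/
theorem exists_stage_act (a : pullback (h ≫ g) g ⟶ cF.pt) (ha : a ≫ h = pullback.snd (h ≫ g) g)
    (hone : pullback.lift (𝟙 _) h (by rw [Category.id_comp]) ≫ a = 𝟙 _)
    (hassoc : pullback.lift (pullback.fst (pullback.snd (h ≫ g) g ≫ g) g ≫ a) (pullback.snd _ _)
        (by rw [Category.assoc, reassoc_of% ha, pullback.condition]) ≫ a =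
      pullback.lift (pullback.fst (pullback.snd (h ≫ g) g ≫ g) g ≫ pullback.fst (h ≫ g) g)
        (pullback.snd _ _) (by rw [Category.assoc, pullback.condition, pullback.condition]) ≫ a) :
    ∃ (m : J) (A : pullback (pr.app m ≫ t.app m) (t.app m) ⟶ F.obj m)
      (hA : A ≫ pr.app m = pullback.snd (pr.app m ≫ t.app m) (t.app m)),
      pullback.lift (𝟙 _) (pr.app m) (by rw [Category.id_comp]) ≫ A = 𝟙 _ ∧
      pullback.lift (pullback.fst (pullback.snd (pr.app m ≫ t.app m) (t.app m) ≫ t.app m) (t.app m) ≫ A)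
          (pullback.snd _ _) (by rw [Category.assoc, reassoc_of% hA, pullback.condition]) ≫ A =
        pullback.lift (pullback.fst (pullback.snd (pr.app m ≫ t.app m) (t.app m) ≫ t.app m) (t.app m) ≫
            pullback.fst (pr.app m ≫ t.app m) (t.app m))
          (pullback.snd _ _) (by rw [Category.assoc, pullback.condition, pullback.condition]) ≫ A ∧
      prodπ cF cG (hsLim pr t h hh g hg) hg m ≫ A = a ≫ cF.π.app m := by
  haveI hFaff : ∀ (i j : J) (f : i ⟶ j), IsAffineHom (F.map f) := fun i j f =>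
    MorphismProperty.of_isPullback (P := @IsAffineHom) (hpb f).flip inferInstance
  haveI : Nonempty J := IsCofiltered.nonempty
  let k₀ : J := Classical.arbitrary J
  let s := sNat pr t
  let ha' := hsLim pr t h hh g hg
  let π₂ := prodπ cF cG ha' hg
  let hR := isLimitProdCone cF cG ha' hg hF hG
  -- move to the slice over a stage, where there are structure maps to that stage
  let u₀ := a ≫ cF.π.app k₀
  let Jo := Over k₀
  let ι : Jo ⥤ J := Over.forget k₀
  haveI : ∀ (i j : Jo) (f : i ⟶ j), IsAffineHom ((ι ⋙ prodDiag s t).map f) := fun i j f =>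
    isAffineHom_prodDiag_map s t _ _ (ι.map f)
  haveI : ∀ (i j : Jo) (f : i ⟶ j), IsAffineHom ((ι ⋙ F).map f) := fun i j f => hFaff _ _ (ι.map f)
  haveI : ∀ j : Jo, CompactSpace ((ι ⋙ prodDiag s t).obj j) := fun j =>
    inferInstanceAs (CompactSpace ((prodDiag s t).obj j.left))
  haveI : ∀ j : Jo, QuasiSeparatedSpace ((ι ⋙ prodDiag s t).obj j) := fun j =>
    inferInstanceAs (QuasiSeparatedSpace ((prodDiag s t).obj j.left))
  haveI : ∀ j : Jo, CompactSpace ((ι ⋙ F).obj j) := fun j => inferInstanceAs (CompactSpace (F.obj j.left))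
  let t₁ : ι ⋙ prodDiag s t ⟶ (Functor.const Jo).obj (G.obj k₀) :=
    { app := fun j => pSnd j.left ≫ G.map j.hom
      naturality := fun i j f => by
        show (prodDiag s t).map f.left ≫ pSnd j.left ≫ G.map j.hom = (pSnd i.left ≫ G.map i.hom) ≫ 𝟙 _
        rw [map_pSnd_assoc, ← Functor.map_comp, Over.w f, Category.comp_id] }
  obtain ⟨k, act₀, hact₀, hact₀p⟩ := Scheme.exists_π_app_comp_eq_of_locallyOfFinitePresentation
    (ι ⋙ prodDiag s t) t₁ (pr.app k₀) _
    ((Functor.Initial.isLimitWhiskerEquiv ι (prodCone cF cG ha' hg)).symm hR) u₀ (by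
      ext j
      show π₂ j.left ≫ pSnd j.left ≫ G.map j.hom = (a ≫ cF.π.app k₀) ≫ pr.app k₀
      rw [prodπ_pSnd_assoc, Category.assoc, hh, reassoc_of% ha, cG.w])
  replace hact₀ : π₂ k.left ≫ act₀ = a ≫ cF.π.app k₀ := hact₀
  replace hact₀p : act₀ ≫ pr.app k₀ = pSnd k.left ≫ G.map k.hom := hact₀p
  -- the action at every later stage
  let A₀ : ∀ (l : J) (_ : l ⟶ k.left), (prodDiag s t).obj l ⟶ F.obj k₀ := fun l ψ =>
    (prodDiag s t).map ψ ≫ act₀
  let A : ∀ (l : J) (_ : l ⟶ k.left), (prodDiag s t).obj l ⟶ F.obj l := fun l ψ =>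
    (hpb (ψ ≫ k.hom)).lift (A₀ l ψ) (pSnd l) (by
      simp only [A₀, Category.assoc, hact₀p]
      rw [map_pSnd_assoc, ← Functor.map_comp])
  have hA₁ : ∀ l ψ, A l ψ ≫ F.map (ψ ≫ k.hom) = A₀ l ψ := fun l ψ => IsPullback.lift_fst _ _ _ _
  have hA₂ : ∀ l ψ, A l ψ ≫ pr.app l = pSnd l := fun l ψ => IsPullback.lift_snd _ _ _ _
  have hAπ : ∀ l ψ, π₂ l ≫ A l ψ = a ≫ cF.π.app l := fun l ψ => by
    refine (hpb (ψ ≫ k.hom)).hom_ext ?_ ?_
    · rw [Category.assoc, hA₁, Category.assoc, cF.w]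
      show π₂ l ≫ (prodDiag s t).map ψ ≫ act₀ = _
      rw [prodπ_map_assoc, hact₀]
    · rw [Category.assoc, hA₂, prodπ_pSnd, Category.assoc, hh, reassoc_of% ha]
  have hAnat : ∀ {l l' : J} (f : l' ⟶ l) (ψ : l ⟶ k.left),
      A l' (f ≫ ψ) ≫ F.map f = (prodDiag s t).map f ≫ A l ψ := fun {l l'} f ψ => by
    refine (hpb (ψ ≫ k.hom)).hom_ext ?_ ?_
    · rw [Category.assoc, Category.assoc, ← Functor.map_comp, hA₁]
      have e : A l' (f ≫ ψ) ≫ F.map (f ≫ ψ ≫ k.hom) = A₀ l' (f ≫ ψ) := by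
        rw [← hA₁, Category.assoc]
      rw [e]
      simp only [A₀, Functor.map_comp, Category.assoc]
    · rw [Category.assoc, Category.assoc, hA₂, (pr.naturality f), reassoc_of% (hA₂ l' (f ≫ ψ)), map_pSnd]
  -- unit
  let one : ∀ l : J, F.obj l ⟶ (prodDiag s t).obj l := fun l =>
    pLift (𝟙 _) (pr.app l) (by rw [Category.id_comp]; rfl)
  let t₂ : ι ⋙ F ⟶ (Functor.const Jo).obj (G.obj k₀) :=
    { app := fun j => pr.app j.left ≫ G.map j.hom
      naturality := fun i j f => by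
        show F.map f.left ≫ pr.app j.left ≫ G.map j.hom = (pr.app i.left ≫ G.map i.hom) ≫ 𝟙 _
        rw [NatTrans.naturality_assoc, ← Functor.map_comp, Over.w f, Category.comp_id] }
  have hone₁ : ∀ l, cF.π.app l ≫ one l =
      pullback.lift (f := h ≫ g) (g := g) (𝟙 _) h (by rw [Category.id_comp]) ≫ π₂ l := fun l => by
    apply pHom_ext
    · rw [Category.assoc, pLift_fst, Category.comp_id, Category.assoc, prodπ_pFst,
        pullback.lift_fst_assoc]
      exact (Category.id_comp _).symm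
    · rw [Category.assoc, pLift_snd, hh, Category.assoc, prodπ_pSnd, pullback.lift_snd_assoc]
  obtain ⟨k₁, ψ₁, hk₁⟩ := Scheme.exists_hom_comp_eq_comp_of_locallyOfFiniteType
    (ι ⋙ F) t₂ (pr.app k₀) _ ((Functor.Initial.isLimitWhiskerEquiv ι cF).symm hF)
    (i := k) (one k.left ≫ act₀) (F.map k.hom)
    (by
      show pr.app k.left ≫ G.map k.hom = (one k.left ≫ act₀) ≫ pr.app k₀
      rw [Category.assoc, hact₀p, pLift_snd_assoc])
    (by
      show pr.app k.left ≫ G.map k.hom = F.map k.hom ≫ pr.app k₀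
      rw [NatTrans.naturality])
    (by
      show cF.π.app k.left ≫ one k.left ≫ act₀ = cF.π.app k.left ≫ F.map k.hom
      rw [reassoc_of% (hone₁ k.left), hact₀, reassoc_of% hone, cF.w])
  replace hk₁ : F.map ψ₁.left ≫ one k.left ≫ act₀ = F.map ψ₁.left ≫ F.map k.hom := hk₁
  -- associativity
  let sR := sRel pr t
  have haR : ∀ l, (prodCone cF cG ha' hg).π.app l ≫ sR.app l = pullback.snd (h ≫ g) g ≫ g := fun l => by
    show π₂ l ≫ pSnd l ≫ t.app l = _
    rw [prodπ_pSnd_assoc, hg]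
  let π₃ := prodπ (prodCone cF cG ha' hg) cG haR hg
  let hR3 := isLimitProdCone (prodCone cF cG ha' hg) cG haR hg hR hG
  haveI : ∀ (i j : Jo) (f : i ⟶ j), IsAffineHom ((ι ⋙ prodDiag sR t).map f) := fun i j f =>
    isAffineHom_prodDiag_map sR t _ _ (ι.map f)
  haveI : ∀ j : Jo, CompactSpace ((ι ⋙ prodDiag sR t).obj j) := fun j =>
    inferInstanceAs (CompactSpace ((prodDiag sR t).obj j.left))
  let t₃ : ι ⋙ prodDiag sR t ⟶ (Functor.const Jo).obj (G.obj k₀) :=
    { app := fun j => pSnd j.left ≫ G.map j.hom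
      naturality := fun i j f => by
        show (prodDiag sR t).map f.left ≫ pSnd j.left ≫ G.map j.hom = (pSnd i.left ≫ G.map i.hom) ≫ 𝟙 _
        rw [map_pSnd_assoc, ← Functor.map_comp, Over.w f, Category.comp_id] }
  let L : ∀ (l : J) (_ : l ⟶ k.left), (prodDiag sR t).obj l ⟶ (prodDiag s t).obj l := fun l ψ =>
    pLift (pFst l ≫ A l ψ) (pSnd l) (by
      show (pFst l ≫ A l ψ) ≫ pr.app l ≫ t.app l = _
      rw [Category.assoc, reassoc_of% (hA₂ l ψ)]
      exact pCondition (s := sR) (t := t) l)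
  let L' : ∀ l : J, (prodDiag sR t).obj l ⟶ (prodDiag s t).obj l := fun l =>
    pLift (pFst l ≫ pFst l) (pSnd l) (by
      rw [Category.assoc, pCondition]
      exact pCondition (s := sR) (t := t) l)
  let r₀ := pullback.fst (pullback.snd (h ≫ g) g ≫ g) g
  let r₁ := pullback.snd (pullback.snd (h ≫ g) g ≫ g) g
  have hL₁ : ∀ l ψ, π₃ l ≫ L l ψ = pullback.lift (r₀ ≫ a) r₁ (by
      rw [Category.assoc, reassoc_of% ha]; exact pullback.condition) ≫ π₂ l := fun l ψ => by
    apply pHom_ext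
    · rw [Category.assoc, pLift_fst, prodπ_pFst_assoc]
      show r₀ ≫ π₂ l ≫ A l ψ = _
      rw [hAπ, Category.assoc, prodπ_pFst, pullback.lift_fst_assoc, Category.assoc]
    · rw [Category.assoc, pLift_snd, prodπ_pSnd, Category.assoc, prodπ_pSnd, pullback.lift_snd_assoc]
  have hL₂ : ∀ l, π₃ l ≫ L' l = pullback.lift (r₀ ≫ pullback.fst (h ≫ g) g) r₁ (by
      rw [Category.assoc, pullback.condition]; exact pullback.condition) ≫ π₂ l := fun l => by
    apply pHom_ext
    · rw [Category.assoc, pLift_fst, prodπ_pFst_assoc]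
      show r₀ ≫ π₂ l ≫ pFst l = _
      rw [prodπ_pFst, Category.assoc, prodπ_pFst, pullback.lift_fst_assoc, Category.assoc]
    · rw [Category.assoc, pLift_snd, prodπ_pSnd, Category.assoc, prodπ_pSnd, pullback.lift_snd_assoc]
  obtain ⟨k₂, ψ₂, hk₂⟩ := Scheme.exists_hom_comp_eq_comp_of_locallyOfFiniteType
    (ι ⋙ prodDiag sR t) t₃ (pr.app k₀) _
    ((Functor.Initial.isLimitWhiskerEquiv ι (prodCone (prodCone cF cG ha' hg) cG haR hg)).symm hR3)
    (i := k₁) (L k₁.left ψ₁.left ≫ A₀ k₁.left ψ₁.left) (L' k₁.left ≫ A₀ k₁.left ψ₁.left)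
    (by
      show pSnd k₁.left ≫ G.map k₁.hom = (L k₁.left ψ₁.left ≫ A₀ k₁.left ψ₁.left) ≫ pr.app k₀
      simp only [A₀, Category.assoc, hact₀p]
      rw [map_pSnd_assoc, ← Functor.map_comp, Over.w ψ₁, pLift_snd_assoc])
    (by
      show pSnd k₁.left ≫ G.map k₁.hom = (L' k₁.left ≫ A₀ k₁.left ψ₁.left) ≫ pr.app k₀
      simp only [A₀, Category.assoc, hact₀p]
      rw [map_pSnd_assoc, ← Functor.map_comp, Over.w ψ₁, pLift_snd_assoc])
    (by
      show π₃ k₁.left ≫ L k₁.left ψ₁.left ≫ A₀ k₁.left ψ₁.left =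
        π₃ k₁.left ≫ L' k₁.left ≫ A₀ k₁.left ψ₁.left
      rw [← hA₁, reassoc_of% (hL₁ k₁.left ψ₁.left), reassoc_of% (hL₂ k₁.left),
        reassoc_of% (hAπ k₁.left ψ₁.left), reassoc_of% hassoc])
  replace hk₂ : (prodDiag sR t).map ψ₂.left ≫ L k₁.left ψ₁.left ≫ A₀ k₁.left ψ₁.left =
      (prodDiag sR t).map ψ₂.left ≫ L' k₁.left ≫ A₀ k₁.left ψ₁.left := hk₂
  let m := k₂.left
  let ψ : m ⟶ k.left := ψ₂.left ≫ ψ₁.left
  have hone' : one m ≫ A m ψ = 𝟙 _ := by
    refine (hpb (ψ ≫ k.hom)).hom_ext ?_ ?_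
    · rw [Category.assoc, hA₁, Category.id_comp]
      have e1 : one m ≫ (prodDiag s t).map ψ = F.map ψ ≫ one k.left := by
        apply pHom_ext
        · rw [Category.assoc, map_pFst, pLift_fst_assoc, Category.id_comp, Category.assoc, pLift_fst,
            Category.comp_id]
        · rw [Category.assoc, map_pSnd, pLift_snd_assoc, Category.assoc, pLift_snd, NatTrans.naturality]
      show one m ≫ (prodDiag s t).map ψ ≫ act₀ = _
      rw [reassoc_of% e1]
      have := congrArg (F.map ψ₂.left ≫ ·) hk₁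
      simp only [← Functor.map_comp_assoc, ← Functor.map_comp] at this
      simpa [ψ, Category.assoc] using this
    · rw [Category.assoc, hA₂, pLift_snd, Category.id_comp]
  have hL₃ : L m ψ ≫ (prodDiag s t).map ψ₂.left = (prodDiag sR t).map ψ₂.left ≫ L k₁.left ψ₁.left := by
    apply pHom_ext
    · rw [Category.assoc, Category.assoc, map_pFst, pLift_fst_assoc, pLift_fst, map_pFst_assoc]
      exact (Category.assoc _ _ _).trans (congrArg (pFst _ ≫ ·) (hAnat ψ₂.left ψ₁.left))
    · rw [Category.assoc, Category.assoc, map_pSnd, pLift_snd_assoc, pLift_snd, map_pSnd]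
  have hL₄ : L' m ≫ (prodDiag s t).map ψ₂.left = (prodDiag sR t).map ψ₂.left ≫ L' k₁.left := by
    apply pHom_ext
    · rw [Category.assoc, Category.assoc, map_pFst, pLift_fst_assoc, pLift_fst, map_pFst_assoc, map_pFst,
        Category.assoc]
    · rw [Category.assoc, Category.assoc, map_pSnd, pLift_snd_assoc, pLift_snd, map_pSnd]
  have hassoc' : L m ψ ≫ A m ψ = L' m ≫ A m ψ := by
    refine (hpb (ψ ≫ k.hom)).hom_ext ?_ ?_
    · rw [Category.assoc (L m ψ), Category.assoc (L' m), hA₁]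
      have h1 : A₀ m ψ = (prodDiag s t).map ψ₂.left ≫ A₀ k₁.left ψ₁.left := by simp [A₀, ψ]
      rw [h1, reassoc_of% hL₃, reassoc_of% hL₄]
      exact hk₂
    · rw [Category.assoc, Category.assoc, hA₂, pLift_snd, pLift_snd]
  exact ⟨m, A m ψ, hA₂ m ψ, hone', hassoc', hAπ m ψ⟩

end Groth.Agent.H15Subtr
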