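import Groth.Agent.H15Subtr.EtApproxDatum
import Groth.Agent.H15Subtr.EtCases
import Groth.Agent.H15Subtr.EtStageAct
import Groth.Agent.H7Lim.Approx.Eventually
import Groth.Agent.H7Lim.FPDescent.Exists
import Groth.Agent.H06EGA8.DescendSmooth
import Groth.Agent.H7Lim.DescendDiagonal

/-!
# Charts of étale data over a limit of schemes of finite presentation
-/

set_option autoImplicit false
set_option linter.style.haveILetI false
set_option backward.isDefEq.respectTransparency false
set_option backward.defeqAttrib.useBackward true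

universe u

open CategoryTheory CategoryTheory.Limits AlgebraicGeometry

namespace Groth.Agent.H15Subtr

open H13Desc.Eff H7Lim

/-- A second factor of a universally subtrusive composite is universally subtrusive. -/
theorem univSS_of_comp {X Y Z : Scheme.{u}} (a : X ⟶ Y) (b : Y ⟶ Z) (h : Subtr.UnivSSubtrusive (a ≫ b)) :
    Subtr.UnivSSubtrusive b := by
  intro Y' Z' i₁ i₂ b' hP y y' hy
  have hc := h _ _ (pullback.snd a i₁ ≫ b')
    ((IsPullback.of_hasPullback a i₁).flip.paste_horiz hP)
  obtain ⟨x, x', hx, h1, h2⟩ := hc hy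
  exact ⟨pullback.snd a i₁ x, pullback.snd a i₁ x', hx.map (Scheme.Hom.continuous _),
    (Scheme.Hom.comp_apply _ _ _).symm.trans h1, (Scheme.Hom.comp_apply _ _ _).symm.trans h2⟩

variable {I : Type u} [Category.{u} I] [IsCofiltered I] {S : Scheme.{u}} {D : I ⥤ Over S} {c : Cone D}

/-- An étale separated quasi-compact scheme over the limit has an étale separated model. -/
theorem exists_etale_model [∀ (i j : I) (f : i ⟶ j), IsAffineHom ((D ⋙ Over.forget S).map f)]
    [∀ i, CompactSpace ((D ⋙ Over.forget S).obj i)]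
    [∀ i, QuasiSeparatedSpace ((D ⋙ Over.forget S).obj i)]
    (hc : IsLimit ((Over.forget S).mapCone c)) {U : Scheme.{u}} (h : U ⟶ ((Over.forget S).mapCone c).pt)
    [Etale h] [IsSeparated h] [QuasiCompact h] :
    ∃ (i : I) (M : FPDescent.Model ((Over.forget S).mapCone c) h i), Etale M.p ∧ IsSeparated M.p := by
  haveI : QuasiSeparated h := inferInstance
  haveI : LocallyOfFinitePresentation h := inferInstance
  obtain ⟨i, ⟨M⟩⟩ := FPDescent.exists_model hc h
  haveI := M.compactSpace
  haveI := M.quasiSeparatedSpace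
  have key : ∀ (P : MorphismProperty Scheme.{u}) [P.RespectsIso], P h →
      P (pullback.snd M.p (((Over.forget S).mapCone c).π.app i)) := fun P _ hP =>
    (prop_iff_of_isPullback M.hpb).1 hP
  obtain ⟨j, φ, hj⟩ := exists_descend hc H06EGA8.descendsAffine_etale i M.p M.lfp (key @Etale ‹_›)
  obtain ⟨j', φ', hj'⟩ := descends_isSeparated I _ _ hc i M.p trivial (key @IsSeparated ‹_›)
  obtain ⟨k, a, b, hab⟩ : ∃ (k : I) (a : k ⟶ j) (b : k ⟶ j'), a ≫ φ = b ≫ φ' := by
    obtain ⟨k, a, b, -⟩ := IsCofilteredOrEmpty.cone_objs j j'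
    exact ⟨_, IsCofiltered.eqHom (a ≫ φ) (b ≫ φ') ≫ a, IsCofiltered.eqHom (a ≫ φ) (b ≫ φ') ≫ b,
      by rw [Category.assoc, Category.assoc, IsCofiltered.eq_condition]⟩
  exact ⟨k, M.shift (a ≫ φ),
    prop_snd_of_fac (P := @Etale) ((D ⋙ Over.forget S).map a) (((D ⋙ Over.forget S).map_comp _ _).symm) hj,
    prop_snd_of_fac (P := @IsSeparated) ((D ⋙ Over.forget S).map b)
      (by rw [← Functor.map_comp, hab]) hj'⟩


/-- The structure maps of the stages, as a natural transformation. -/
noncomputable def strNat (i : I) : Over.forget i ⋙ (D ⋙ Over.forget S) ⟶ (Functor.const (Over i)).obj S where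
  app k := (D.obj k.left).hom
  naturality _ _ f := (Over.w (D.map f.left)).trans (Category.comp_id _).symm

variable [∀ (i j : I) (f : i ⟶ j), IsAffineHom ((D ⋙ Over.forget S).map f)]
  [∀ i, CompactSpace ((D ⋙ Over.forget S).obj i)]
  [∀ i, QuasiSeparatedSpace ((D ⋙ Over.forget S).obj i)]
  [∀ i, LocallyOfFinitePresentation (D.obj i).hom] [∀ i, QuasiCompact (D.obj i).hom]
  [∀ i, QuasiSeparated (D.obj i).hom]

/-- A quasi-compact separated étale datum over a limit of schemes of finite presentation has charts. -/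
theorem hasCharts_of_limit (hc : IsLimit ((Over.forget S).mapCone c)) (hg : Subtr.UnivSSubtrusive c.pt.hom)
    (DD : Desc.SchDD c.pt.hom) [QuasiCompact DD.obj.hom] [IsSeparated DD.obj.hom] [Etale DD.obj.hom] :
    HasCharts DD := by
  obtain ⟨i, M, hMe, hMs⟩ := exists_etale_model hc (U := DD.obj.left) DD.obj.hom
  let E := D ⋙ Over.forget S
  let cE := (Over.forget S).mapCone c
  haveI := M.compactSpace
  haveI := M.quasiSeparatedSpace
  let e := M.hpb.isoPullback
  let cU : Cone (pbDiagram E i M.p) := ⟨DD.obj.left,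
    { app := fun k => e.hom ≫ (pbCone E cE i M.p).π.app k
      naturality := fun k l f => by
        have := (pbCone E cE i M.p).w f
        simp only [Functor.const_obj_obj, Functor.const_obj_map, Category.id_comp, Category.assoc]
        rw [this] }⟩
  let hU : IsLimit cU := IsLimit.ofIsoLimit (isLimitPbCone E i M.p hc)
    (Cone.ext e.symm fun k => (e.inv_hom_id_assoc _).symm)
  let cX : Cone (Over.forget i ⋙ E) := cE.whisker (Over.forget i)
  let hX : IsLimit cX := (Functor.Initial.isLimitWhiskerEquiv (Over.forget i) cE).symm hc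
  haveI : ∀ (j k : Over i) (f : j ⟶ k), IsAffineHom ((Over.forget i ⋙ E).map f) := fun j k f =>
    inferInstanceAs (IsAffineHom (E.map f.left))
  haveI : ∀ k : Over i, QuasiCompact ((strNat (D := D) i).app k) := fun k =>
    inferInstanceAs (QuasiCompact (D.obj k.left).hom)
  haveI : ∀ k : Over i, QuasiSeparated ((strNat (D := D) i).app k) := fun k =>
    inferInstanceAs (QuasiSeparated (D.obj k.left).hom)
  haveI : ∀ k : Over i, LocallyOfFinitePresentation ((pbSnd E i M.p).app k) := fun k =>
    inferInstanceAs (LocallyOfFinitePresentation (pullback.snd M.p (E.map k.hom)))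
  have hh : ∀ k : Over i, cU.π.app k ≫ (pbSnd E i M.p).app k = DD.obj.hom ≫ cX.π.app k := fun k => by
    show (e.hom ≫ _) ≫ pullback.snd M.p (E.map k.hom) = DD.obj.hom ≫ cE.π.app k.left
    simp only [Category.assoc, pbCone, pullback.lift_snd]
    rw [← Category.assoc, M.hpb.isoPullback_hom_snd]
  have hπ : ∀ k : Over i, cX.π.app k ≫ (strNat (D := D) i).app k = c.pt.hom := fun k =>
    Over.w (c.π.app k.left)
  have hone : pullback.lift (f := DD.obj.hom ≫ c.pt.hom) (g := c.pt.hom) (𝟙 DD.obj.left) DD.obj.hom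
      (by rw [Category.id_comp]) ≫ act DD = 𝟙 _ := by
    refine (phi_eq_act DD DD.obj.hom DD.obj.hom rfl ⟨𝟙 _, Category.id_comp _⟩).symm.trans ?_
    exact congrArg Subtype.val (DD.φ_self _ _)
  obtain ⟨m, A, hA, hA₁, hA₂, hAπ⟩ := exists_stage_act (pbSnd E i M.p) (strNat (D := D) i)
    (fun f => isPullback_pbDiagram_map E i M.p f) hU hX DD.obj.hom hh c.pt.hom hπ (act DD) (act_hom DD) hone (by
      let r0 := pullback.fst (pullback.snd (DD.obj.hom ≫ c.pt.hom) c.pt.hom ≫ c.pt.hom) c.pt.hom
      let r1 := pullback.snd (pullback.snd (DD.obj.hom ≫ c.pt.hom) c.pt.hom ≫ c.pt.hom) c.pt.hom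
      let y₀ := r0 ≫ pullback.fst (DD.obj.hom ≫ c.pt.hom) c.pt.hom ≫ DD.obj.hom
      let y₁ := r0 ≫ pullback.snd (DD.obj.hom ≫ c.pt.hom) c.pt.hom
      have e₁ : y₀ ≫ c.pt.hom = y₁ ≫ c.pt.hom := by
        simp only [y₀, y₁, Category.assoc, pullback.condition]
      have e₂ : y₁ ≫ c.pt.hom = r1 ≫ c.pt.hom := by
        simp only [y₁, Category.assoc]; exact pullback.condition
      let v : Desc.Lifts DD.obj y₀ := ⟨r0 ≫ pullback.fst _ _, Category.assoc _ _ _⟩
      have hv : (DD.φ y₀ y₁ e₁ v).1 = r0 ≫ act DD := by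
        refine (phi_eq_act DD y₀ y₁ e₁ v).trans (congrArg (· ≫ act DD) (pullback.hom_ext ?_ ?_))
        · rw [pullback.lift_fst]
        · rw [pullback.lift_snd]
      refine Eq.trans (congrArg (· ≫ act DD) (pullback.hom_ext ?_ ?_))
        ((phi_eq_act DD y₁ r1 e₂ (DD.φ y₀ y₁ e₁ v)).symm.trans
          ((congrArg Subtype.val (DD.φ_comp y₀ y₁ r1 e₁ e₂ v)).trans (phi_eq_act DD y₀ r1 _ v)))
      · rw [pullback.lift_fst, pullback.lift_fst, hv]
      · rw [pullback.lift_snd, pullback.lift_snd])
  let gm : E.obj m.left ⟶ S := (D.obj m.left).hom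
  let Um : Over (E.obj m.left) := Over.mk (pullback.snd M.p (E.map m.hom))
  let Dm : Desc.SchDD gm := ofAct Um A hA hA₁ hA₂
  haveI : Etale Dm.obj.hom := inferInstanceAs (Etale (pullback.snd M.p (E.map m.hom)))
  haveI : IsSeparated Dm.obj.hom := inferInstanceAs (IsSeparated (pullback.snd M.p (E.map m.hom)))
  haveI : LocallyOfFinitePresentation gm := inferInstanceAs (LocallyOfFinitePresentation (D.obj m.left).hom)
  haveI : QuasiCompact gm := inferInstanceAs (QuasiCompact (D.obj m.left).hom)
  have hgm : Subtr.UnivSSubtrusive gm :=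
    univSS_of_comp (cX.π.app m) gm ((hπ m).symm ▸ hg)
  have hm : cU.π.app m = (M.shift m.hom).g := by
    show e.hom ≫ _ = pullback.lift _ _ _
    apply pullback.hom_ext
    · simp only [Category.assoc, pbCone, pullback.lift_fst]
      exact (congrArg (e.hom ≫ ·) (Category.comp_id _)).trans M.hpb.isoPullback_hom_fst
    · simp only [Category.assoc, pbCone, pullback.lift_snd]
      rw [← Category.assoc, M.hpb.isoPullback_hom_snd]
  refine exists_chart_of_model DD Dm (cX.π.app m) (hπ m) (cU.π.app m)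
    (by rw [hm]; exact (M.shift m.hom).hpb) (fun {T} x₀ x₁ hx v => ?_) (hasCharts_fp hgm Dm)
  show (DD.φ x₀ x₁ hx v).1 ≫ cU.π.app m = pullback.lift _ _ _ ≫ A
  refine (congrArg (· ≫ cU.π.app m) (phi_eq_act DD x₀ x₁ hx v)).trans ((Category.assoc _ _ _).trans ?_)
  refine (congrArg (_ ≫ ·) hAπ.symm).trans ((Category.assoc _ _ _).symm.trans
    (congrArg (· ≫ A) (pullback.hom_ext ?_ ?_)))
  · refine ((Category.assoc _ _ _).trans (congrArg (_ ≫ ·) (prodπ_pFst _ _ _ _ m))).trans ?_
    rw [pullback.lift_fst_assoc]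
    exact (pullback.lift_fst _ _ _).symm
  · refine ((Category.assoc _ _ _).trans (congrArg (_ ≫ ·) (prodπ_pSnd _ _ _ _ m))).trans ?_
    rw [pullback.lift_snd_assoc]
    exact (pullback.lift_snd _ _ _).symm

end Groth.Agent.H15Subtr
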