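import Groth.Agent.H7Lim.Basic
import Mathlib.AlgebraicGeometry.Morphisms.QuasiSeparated

/-!
# Fibre products of inverse systems of schemes
-/

set_option autoImplicit false
set_option linter.style.haveILetI false
set_option backward.isDefEq.respectTransparency false

universe u

open CategoryTheory CategoryTheory.Limits AlgebraicGeometry

namespace Groth.Agent.H15Subtr

variable {J : Type u} [Category.{u} J] {F G : J ⥤ Scheme.{u}} {S : Scheme.{u}}
  (s : F ⟶ (Functor.const J).obj S) (t : G ⟶ (Functor.const J).obj S)

/-- The fibre product of two systems over a scheme. -/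
noncomputable def prodDiag : J ⥤ Scheme.{u} where
  obj k := pullback (s.app k) (t.app k)
  map {j k} f := pullback.map _ _ _ _ (F.map f) (G.map f) (𝟙 S)
    (by simpa using (s.naturality f).symm) (by simpa using (t.naturality f).symm)
  map_id j := by apply pullback.hom_ext <;> simp
  map_comp f g := by apply pullback.hom_ext <;> simp

instance isAffineHom_prodDiag_map [∀ (i j : J) (f : i ⟶ j), IsAffineHom (F.map f)]
    [∀ (i j : J) (f : i ⟶ j), IsAffineHom (G.map f)] (i j : J) (f : i ⟶ j) :
    IsAffineHom ((prodDiag s t).map f) := by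
  have hs : F.map f ≫ s.app j = s.app i := by simpa using s.naturality f
  have ht : G.map f ≫ t.app j = t.app i := by simpa using t.naturality f
  show IsAffineHom (pullback.map (s.app i) (t.app i) (s.app j) (t.app j) (F.map f) (G.map f) (𝟙 S)
    (by simp [hs]) (by simp [ht]))
  exact MorphismProperty.pullback_map (P := @IsAffineHom) inferInstance inferInstance hs.symm ht.symm

variable {s t} (cF : Cone F) (cG : Cone G) {a : cF.pt ⟶ S} {b : cG.pt ⟶ S}
  (ha : ∀ k, cF.π.app k ≫ s.app k = a) (hb : ∀ k, cG.π.app k ≫ t.app k = b)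

/-- The fibre product of two cones. -/
noncomputable def prodCone : Cone (prodDiag s t) where
  pt := pullback a b
  π :=
    { app := fun k => pullback.map _ _ _ _ (cF.π.app k) (cG.π.app k) (𝟙 S) (by simp [ha]) (by simp [hb])
      naturality := fun j k f => by
        apply pullback.hom_ext <;> simp [prodDiag] }

theorem prodCone_fst (k : J) :
    (prodCone cF cG ha hb).π.app k ≫ pullback.fst (s.app k) (t.app k) = pullback.fst a b ≫ cF.π.app k :=
  pullback.lift_fst _ _ _

theorem prodCone_snd (k : J) :
    (prodCone cF cG ha hb).π.app k ≫ pullback.snd (s.app k) (t.app k) = pullback.snd a b ≫ cG.π.app k :=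
  pullback.lift_snd _ _ _

/-- Fibre products commute with limits of inverse systems. -/
noncomputable def isLimitProdCone [Nonempty J] (hF : IsLimit cF) (hG : IsLimit cG) :
    IsLimit (prodCone cF cG ha hb) :=
  let z₁ (z : Cone (prodDiag s t)) : Cone F := ⟨z.pt,
    { app := fun k => z.π.app k ≫ pullback.fst _ _
      naturality := fun j k f => by
        have := z.w f
        simp only [prodDiag] at this
        simp [← this] }⟩
  let z₂ (z : Cone (prodDiag s t)) : Cone G := ⟨z.pt,
    { app := fun k => z.π.app k ≫ pullback.snd _ _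
      naturality := fun j k f => by
        have := z.w f
        simp only [prodDiag] at this
        simp [← this] }⟩
  { lift := fun z => pullback.lift (hF.lift (z₁ z)) (hG.lift (z₂ z)) (by
      let k : J := Classical.arbitrary J
      rw [← ha k, ← hb k, hF.fac_assoc, hG.fac_assoc]
      simp only [z₁, z₂, Category.assoc, pullback.condition])
    fac := fun z k => by
      apply pullback.hom_ext
      · rw [Category.assoc, prodCone_fst, pullback.lift_fst_assoc, hF.fac]
      · rw [Category.assoc, prodCone_snd, pullback.lift_snd_assoc, hG.fac]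
    uniq := fun z m hm => by
      apply pullback.hom_ext
      · rw [pullback.lift_fst]
        refine hF.uniq (z₁ z) _ fun k => ?_
        show _ = z.π.app k ≫ _
        rw [← hm k, Category.assoc, Category.assoc, prodCone_fst]
      · rw [pullback.lift_snd]
        refine hG.uniq (z₂ z) _ fun k => ?_
        show _ = z.π.app k ≫ _
        rw [← hm k, Category.assoc, Category.assoc, prodCone_snd] }

section api

/-- The first projection at a stage. -/
noncomputable def pFst (k : J) : (prodDiag s t).obj k ⟶ F.obj k := pullback.fst (s.app k) (t.app k)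

/-- The second projection at a stage. -/
noncomputable def pSnd (k : J) : (prodDiag s t).obj k ⟶ G.obj k := pullback.snd (s.app k) (t.app k)

theorem pCondition (k : J) : pFst (s := s) (t := t) k ≫ s.app k = pSnd k ≫ t.app k := pullback.condition

/-- A point of the fibre product at a stage. -/
noncomputable def pLift {T : Scheme.{u}} {k : J} (x : T ⟶ F.obj k) (y : T ⟶ G.obj k)
    (h : x ≫ s.app k = y ≫ t.app k) : T ⟶ (prodDiag s t).obj k :=
  pullback.lift x y h

@[reassoc]
theorem pLift_fst {T : Scheme.{u}} {k : J} (x : T ⟶ F.obj k) (y : T ⟶ G.obj k)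
    (h : x ≫ s.app k = y ≫ t.app k) : pLift x y h ≫ pFst k = x :=
  pullback.lift_fst _ _ _

@[reassoc]
theorem pLift_snd {T : Scheme.{u}} {k : J} (x : T ⟶ F.obj k) (y : T ⟶ G.obj k)
    (h : x ≫ s.app k = y ≫ t.app k) : pLift x y h ≫ pSnd k = y :=
  pullback.lift_snd _ _ _

@[reassoc]
theorem map_pFst {j k : J} (f : j ⟶ k) :
    (prodDiag s t).map f ≫ pFst k = pFst j ≫ F.map f :=
  pullback.lift_fst _ _ _

@[reassoc]
theorem map_pSnd {j k : J} (f : j ⟶ k) :
    (prodDiag s t).map f ≫ pSnd k = pSnd j ≫ G.map f :=
  pullback.lift_snd _ _ _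

theorem pHom_ext {T : Scheme.{u}} {k : J} {x y : T ⟶ (prodDiag s t).obj k}
    (h₁ : x ≫ pFst k = y ≫ pFst k) (h₂ : x ≫ pSnd k = y ≫ pSnd k) : x = y :=
  pullback.hom_ext h₁ h₂

/-- The projection from the fibre product of the limits. -/
noncomputable def prodπ (k : J) : pullback a b ⟶ (prodDiag s t).obj k :=
  (prodCone cF cG ha hb).π.app k

@[reassoc]
theorem prodπ_pFst (k : J) : prodπ cF cG ha hb k ≫ pFst k = pullback.fst a b ≫ cF.π.app k :=
  pullback.lift_fst _ _ _

@[reassoc]
theorem prodπ_pSnd (k : J) : prodπ cF cG ha hb k ≫ pSnd k = pullback.snd a b ≫ cG.π.app k :=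
  pullback.lift_snd _ _ _

@[reassoc]
theorem prodπ_map {j k : J} (f : j ⟶ k) :
    prodπ cF cG ha hb j ≫ (prodDiag s t).map f = prodπ cF cG ha hb k :=
  (prodCone cF cG ha hb).w f

theorem quasiCompact_pFst [∀ k, QuasiCompact (t.app k)] (k : J) : QuasiCompact (pFst (s := s) (t := t) k) :=
  MorphismProperty.pullback_fst (P := @QuasiCompact) _ _ inferInstance

theorem quasiSeparated_pFst [∀ k, QuasiSeparated (t.app k)] (k : J) :
    QuasiSeparated (pFst (s := s) (t := t) k) :=
  MorphismProperty.pullback_fst (P := @QuasiSeparated) _ _ inferInstance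

instance compactSpace_prodDiag [∀ k, QuasiCompact (t.app k)] [∀ k, CompactSpace (F.obj k)] (k : J) :
    CompactSpace ((prodDiag s t).obj k) :=
  haveI := quasiCompact_pFst (s := s) (t := t) k
  QuasiCompact.compactSpace_of_compactSpace (pFst (s := s) (t := t) k)

instance quasiSeparatedSpace_prodDiag [∀ k, QuasiSeparated (t.app k)] [∀ k, QuasiSeparatedSpace (F.obj k)]
    (k : J) : QuasiSeparatedSpace ((prodDiag s t).obj k) :=
  haveI := quasiSeparated_pFst (s := s) (t := t) k
  quasiSeparatedSpace_of_quasiSeparated (pFst (s := s) (t := t) k)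

end api

end Groth.Agent.H15Subtr
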