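import Groth.Agent.H15Subtr.EtTransfer
import Groth.Agent.H15Subtr.EtChart
import Groth.Agent.H15Subtr.EtProdDiag

/-!
# Data given by an action, and pulling charts back along a base change of data
-/

set_option autoImplicit false
set_option linter.style.haveILetI false
set_option backward.isDefEq.respectTransparency false

universe u

open CategoryTheory CategoryTheory.Limits AlgebraicGeometry

namespace Groth.Agent.H15Subtr

open H13Desc.Eff

section ofAct

variable {X S : Scheme.{u}} {g : X ⟶ S} (U : Over X) (A : pullback (U.hom ≫ g) g ⟶ U.left)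
  (hA : A ≫ U.hom = pullback.snd (U.hom ≫ g) g)
  (hself : pullback.lift (𝟙 U.left) U.hom (by rw [Category.id_comp]) ≫ A = 𝟙 U.left)
  (hcomp : pullback.lift (pullback.fst (pullback.snd (U.hom ≫ g) g ≫ g) g ≫ A) (pullback.snd _ _)
      (by rw [Category.assoc, reassoc_of% hA, pullback.condition]) ≫ A =
    pullback.lift (pullback.fst (pullback.snd (U.hom ≫ g) g ≫ g) g ≫ pullback.fst (U.hom ≫ g) g)
      (pullback.snd _ _) (by rw [Category.assoc, pullback.condition, pullback.condition]) ≫ A)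

omit hself hcomp in
/-- The action applied to a point. -/
noncomputable def actPt {T : Scheme.{u}} {x₀ : T ⟶ X} (x₁ : T ⟶ X) (h : x₀ ≫ g = x₁ ≫ g)
    (v : Desc.Lifts U x₀) : Desc.Lifts U x₁ :=
  ⟨pullback.lift v.1 x₁ (by rw [← Category.assoc, v.2, h]) ≫ A, by
    rw [Category.assoc, hA, pullback.lift_snd]⟩

include hself in
theorem actPt_self {T : Scheme.{u}} (x : T ⟶ X) (v : Desc.Lifts U x) : actPt U A hA x rfl v = v := by
  refine Subtype.ext ?_
  show pullback.lift v.1 x _ ≫ A = v.1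
  have e : pullback.lift v.1 x (by rw [← Category.assoc, v.2]) =
      v.1 ≫ pullback.lift (f := U.hom ≫ g) (g := g) (𝟙 U.left) U.hom (by rw [Category.id_comp]) := by
    apply pullback.hom_ext
    · simp
    · simp [v.2]
  rw [e, Category.assoc, hself, Category.comp_id]

include hcomp in
theorem actPt_comp {T : Scheme.{u}} (x₀ x₁ x₂ : T ⟶ X) (h₀₁ : x₀ ≫ g = x₁ ≫ g) (h₁₂ : x₁ ≫ g = x₂ ≫ g)
    (v : Desc.Lifts U x₀) :
    actPt U A hA x₂ h₁₂ (actPt U A hA x₁ h₀₁ v) = actPt U A hA x₂ (h₀₁.trans h₁₂) v := by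
  refine Subtype.ext ?_
  show pullback.lift (pullback.lift v.1 x₁ _ ≫ A) x₂ _ ≫ A = pullback.lift v.1 x₂ _ ≫ A
  let q : T ⟶ pullback (U.hom ≫ g) g := pullback.lift v.1 x₁ (by rw [← Category.assoc, v.2, h₀₁])
  let r : T ⟶ pullback (pullback.snd (U.hom ≫ g) g ≫ g) g :=
    pullback.lift q x₂ (by rw [← Category.assoc, pullback.lift_snd, h₁₂])
  have hr := congrArg (r ≫ ·) hcomp
  simp only [← Category.assoc] at hr
  refine Eq.trans (congrArg (· ≫ A) ?_) (hr.trans (congrArg (· ≫ A) ?_))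
  · apply pullback.hom_ext <;> simp [r, q]
  · apply pullback.hom_ext <;> simp [r, q]

/-- The datum with a given action. -/
noncomputable def ofAct : Desc.SchDD g where
  obj := U
  φ _T x₀ x₁ h :=
    { toFun := actPt U A hA x₁ h
      invFun := actPt U A hA x₀ h.symm
      left_inv := fun v => (actPt_comp U A hA hcomp x₀ x₁ x₀ h h.symm v).trans (actPt_self U A hA hself x₀ v)
      right_inv := fun v =>
        (actPt_comp U A hA hcomp x₁ x₀ x₁ h.symm h v).trans (actPt_self U A hA hself x₁ v) }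
  φ_natural T T' k x₀ x₁ h h' v v' hv := by
    show pullback.lift v'.1 (k ≫ x₁) _ ≫ A = k ≫ pullback.lift v.1 x₁ _ ≫ A
    rw [← Category.assoc k]
    congr 1
    apply pullback.hom_ext <;> simp [hv]
  φ_self _T x v := actPt_self U A hA hself x v
  φ_comp _T x₀ x₁ x₂ h₀₁ h₁₂ v := actPt_comp U A hA hcomp x₀ x₁ x₂ h₀₁ h₁₂ v

end ofAct

/-- Charts pull back along a base change of data. -/
theorem exists_chart_of_model {X Xm S : Scheme.{u}} {g : X ⟶ S} {gm : Xm ⟶ S} (D : Desc.SchDD g)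
    (Dm : Desc.SchDD gm) (π : X ⟶ Xm) (hπ : π ≫ gm = g) (pU : D.obj.left ⟶ Dm.obj.left)
    (hU : IsPullback pU D.obj.hom Dm.obj.hom π)
    (hφ : ∀ {T : Scheme.{u}} (x₀ x₁ : T ⟶ X) (h : x₀ ≫ g = x₁ ≫ g) (v : Desc.Lifts D.obj x₀),
      (D.φ x₀ x₁ h v).1 ≫ pU =
        (Dm.φ (x₀ ≫ π) (x₁ ≫ π) (by rw [Category.assoc, Category.assoc, hπ, h])
          ⟨v.1 ≫ pU, by rw [Category.assoc, hU.w, ← Category.assoc, v.2]⟩).1)
    (hDm : HasCharts Dm) : HasCharts D := by
  intro u
  obtain ⟨W, fm, hW, z, hz⟩ := hDm (pU u)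
  let a : pullback g W.hom ⟶ pullback gm W.hom :=
    pullback.lift (pullback.fst _ _ ≫ π) (pullback.snd _ _) (by rw [Category.assoc, hπ, pullback.condition])
  let l : pullback g W.hom ⟶ D.obj.left := hU.lift (a ≫ mmap fm) (pullback.fst _ _) (by
    rw [Category.assoc, mmap_w, pullback.lift_fst])
  let f : (Desc.toDD g).obj W ⟶ D := ⟨Over.homMk l (hU.lift_snd _ _ _), fun T x₀ x₁ h v w hw => by
    show (D.φ x₀ x₁ h w).1 = pullback.lift x₁ (v.1 ≫ pullback.snd g W.hom) _ ≫ l
    let z₀ : T ⟶ pullback g W.hom := v.1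
    have hz₀ : z₀ ≫ pullback.fst g W.hom = x₀ := v.2
    let z₁ : T ⟶ pullback g W.hom := pullback.lift x₁ (z₀ ≫ pullback.snd g W.hom) (by
      rw [← h, ← hz₀, Category.assoc, Category.assoc, pullback.condition])
    show _ = z₁ ≫ l
    refine hU.hom_ext ?_ ?_
    · refine (hφ x₀ x₁ h w).trans ?_
      show _ = (z₁ ≫ l) ≫ pU
      conv_rhs => rw [Category.assoc, hU.lift_fst, ← Category.assoc]
      have e : ((z₀ ≫ a) ≫ pullback.fst gm W.hom) ≫ gm = ((z₁ ≫ a) ≫ pullback.fst gm W.hom) ≫ gm := by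
        simp only [z₁, a, Category.assoc, pullback.lift_fst_assoc, hπ]
        rw [reassoc_of% hz₀, h]
      refine Eq.trans ?_ (comm_val fm (z₀ ≫ a) (z₁ ≫ a) e (by simp [a, z₁]))
      refine phi_congr'' Dm ?_ ?_ _ e _ _ ?_
      · simp [a, ← hz₀]
      · simp [a, z₁]
      · show w.1 ≫ pU = (z₀ ≫ a) ≫ mmap fm
        rw [hw]
        show (z₀ ≫ l) ≫ pU = _
        rw [Category.assoc, hU.lift_fst, Category.assoc]
    · rw [(D.φ x₀ x₁ h w).2, Category.assoc, hU.lift_snd, pullback.lift_fst]⟩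
  obtain ⟨q, hq₁, hq₂⟩ := Scheme.Pullback.exists_preimage_pullback (f := mmap fm) (g := pU) z u hz
  let k : pullback (mmap fm) pU ⟶ pullback g W.hom :=
    pullback.lift (pullback.snd _ _ ≫ D.obj.hom) (pullback.fst _ _ ≫ pullback.snd _ _) (by
      rw [Category.assoc, Category.assoc, ← pullback.condition, ← reassoc_of% (mmap_w fm),
        pullback.condition_assoc, reassoc_of% hU.w, hπ])
  have hk : k ≫ a = pullback.fst (mmap fm) pU := by
    apply pullback.hom_ext
    · simp only [k, a, Category.assoc, pullback.lift_fst, pullback.lift_fst_assoc]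
      rw [← hU.w, ← pullback.condition_assoc, mmap_w]
    · simp [k, a]
  have hkl : k ≫ l = pullback.snd (mmap fm) pU := by
    refine hU.hom_ext ?_ ?_
    · rw [Category.assoc, hU.lift_fst, reassoc_of% hk, pullback.condition]
    · rw [Category.assoc, hU.lift_snd, pullback.lift_fst]
  refine ⟨W, f, hW, k q, ?_⟩
  show l (k q) = u
  rw [← Scheme.Hom.comp_apply, hkl, hq₂]

end Groth.Agent.H15Subtr
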