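import Groth.Agent.H9Hens.PtConstruct
import Groth.Agent.H9Hens.PtField
import Mathlib.AlgebraicGeometry.AffineScheme
import Mathlib.AlgebraicGeometry.Morphisms.Etale
import Mathlib.CategoryTheory.Limits.Types.Filtered
import Mathlib.Algebra.Category.Ring.FilteredColimits

/-!
# The spectrum of a colimit of pointed étale algebras as a limit of affine schemes
-/

set_option autoImplicit false
set_option linter.style.haveILetI false
set_option backward.isDefEq.respectTransparency false

universe u

open CategoryTheory CategoryTheory.Limits AlgebraicGeometry Opposite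

namespace Groth.Agent.H15Subtr

open H9Hens

attribute [local instance] PtEtale.isFiltered

variable {A : Type u} [CommRing A] {k : Type u} [CommRing k] [Algebra A k]
variable {H : Type u} [CommRing H] [Algebra A H] {π : H →ₐ[A] k} (hH : IsPtColim π)

/-- The map of a pointed étale algebra to the colimit. -/
noncomputable def ptMap (j : PtEtale A k) : j.ring →ₐ[A] H := (hH.exists_map j.ring j.pt).choose

theorem ptMap_pt (j : PtEtale A k) : π.comp (ptMap hH j) = j.pt := (hH.exists_map j.ring j.pt).choose_spec

theorem ptMap_naturality {i j : PtEtale A k} (f : i ⟶ j) : (ptMap hH j).comp f.1 = ptMap hH i :=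
  hH.hom_ext (by rw [← AlgHom.comp_assoc, ptMap_pt, ptMap_pt, f.2])

/-- The cocone of pointed étale algebras with point the colimit. -/
noncomputable def ptCocone : Cocone (PtEtale.diagram A k) where
  pt := CommRingCat.of H
  ι :=
    { app := fun j => CommRingCat.ofHom (ptMap hH j).toRingHom
      naturality := fun i j f => by
        ext x
        exact DFunLike.congr_fun (ptMap_naturality hH f) x }

/-- The colimit of pointed étale algebras is the colimit of the diagram. -/
noncomputable def isColimitPtCocone : IsColimit (ptCocone hH) := by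
  haveI : HasColimit (PtEtale.diagram A k) := inferInstance
  haveI : ReflectsColimit (PtEtale.diagram A k) (forget CommRingCat.{u}) :=
    reflectsColimit_of_reflectsIsomorphisms _ _
  apply isColimitOfReflects (forget CommRingCat.{u})
  refine Types.FilteredColimit.isColimitOf' _ _ (fun x => ?_) (fun j y z h => ?_)
  · obtain ⟨S, _, _, _, φ, s, hs⟩ := hH.exists_rep x
    obtain ⟨j, e, hj⟩ := PtEtale.exists_equiv S (π.comp φ)
    refine ⟨j, e.symm s, ?_⟩
    have h1 : ptMap hH j = φ.comp e.toAlgHom := hH.hom_ext (by rw [ptMap_pt, hj, AlgHom.comp_assoc])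
    show x = ptMap hH j (e.symm s)
    rw [h1, AlgHom.comp_apply]
    exact (hs.symm.trans (congrArg φ (e.apply_symm_apply s).symm))
  · have h0 : ptMap hH j ((show j.ring from y) - (show j.ring from z)) = 0 := by
      rw [map_sub, sub_eq_zero]
      exact h
    obtain ⟨T, _, _, _, ψ, φT, hψ, hz⟩ := hH.exists_eq_zero j.ring (ptMap hH j) _ h0
    obtain ⟨l, e, hl⟩ := PtEtale.exists_equiv T (π.comp φT)
    refine ⟨l, ⟨e.symm.toAlgHom.comp ψ, AlgHom.ext fun a => ?_⟩, ?_⟩
    · have hp := DFunLike.congr_fun (ptMap_pt hH j) a
      rw [← hψ] at hp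
      simpa [hl] using hp
    · rw [map_sub, sub_eq_zero] at hz
      exact congrArg e.symm hz

/-- The diagram of affine schemes of the pointed étale algebras. -/
noncomputable abbrev specDiag (A : Type u) [CommRing A] (k : Type u) [CommRing k] [Algebra A k] :
    (PtEtale A k)ᵒᵖ ⥤ Scheme.{u} :=
  (PtEtale.diagram A k).op ⋙ Scheme.Spec

/-- The cone with point the spectrum of the colimit. -/
noncomputable def specCone : Cone (specDiag A k) := Scheme.Spec.mapCone (ptCocone hH).op

/-- The spectrum of the colimit is the limit of the spectra. -/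
noncomputable def isLimitSpecCone : IsLimit (specCone hH) :=
  isLimitOfPreserves Scheme.Spec (isColimitPtCocone hH).op

/-- The structure map of a stage. -/
noncomputable def stageHom (j : PtEtale A k) : Spec (CommRingCat.of j.ring) ⟶ Spec (CommRingCat.of A) :=
  Spec.map (CommRingCat.ofHom (algebraMap A j.ring))

theorem etale_stageHom (j : PtEtale A k) : Etale (stageHom j) :=
  (HasRingHomProperty.Spec_iff (P := @Etale)).2 (RingHom.etale_algebraMap.2 j.etale)

theorem stageHom_naturality {i j : (PtEtale A k)ᵒᵖ} (f : i ⟶ j) :
    (specDiag A k).map f ≫ stageHom j.unop = stageHom i.unop := by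
  show Spec.map _ ≫ Spec.map _ = Spec.map _
  rw [← Spec.map_comp]
  congr 1
  ext a
  exact f.unop.1.commutes a

theorem specCone_stageHom (j : (PtEtale A k)ᵒᵖ) :
    (specCone hH).π.app j ≫ stageHom j.unop = Spec.map (CommRingCat.ofHom (algebraMap A H)) := by
  show Spec.map _ ≫ Spec.map _ = Spec.map _
  rw [← Spec.map_comp]
  congr 1
  ext a
  exact (ptMap hH j.unop).commutes a

end Groth.Agent.H15Subtr
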