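import Groth.Prelude.Def_Desc
import Groth.Agent.H15Subtr.EtMor
import Groth.Agent.H13Desc.Eff.Refine

/-!
# Descending morphisms of descent data along refinements

A morphism from a canonical datum to a separated étale datum can be given on a refinement which is
universally submersive over the source.
-/

set_option autoImplicit false
set_option linter.style.haveILetI false
set_option backward.isDefEq.respectTransparency false

universe u

open CategoryTheory CategoryTheory.Limits AlgebraicGeometry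

namespace Groth.Agent.H15Subtr

open H13Desc.Eff

variable {S' S : Scheme.{u}} {g : S' ⟶ S} {D : Desc.SchDD g}

/-- A family of points of the datum given on a refinement, compatible with the gluing, extends to a
morphism of descent data. -/
theorem exists_hom_of_refinement [Etale D.obj.hom] [IsSeparated D.obj.hom] {X : Scheme.{u}} (h : X ⟶ S')
    (W : Over S) (hq : SGA1.UnivSubmersive (pullback.snd (h ≫ g) W.hom))
    (m : pullback (h ≫ g) W.hom ⟶ D.obj.left)
    (hm : m ≫ D.obj.hom = pullback.fst (h ≫ g) W.hom ≫ h)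
    (hcomp : ∀ ⦃T : Scheme.{u}⦄ (l₀ l₁ : T ⟶ pullback (h ≫ g) W.hom)
      (hx : (l₀ ≫ pullback.fst (h ≫ g) W.hom ≫ h) ≫ g = (l₁ ≫ pullback.fst (h ≫ g) W.hom ≫ h) ≫ g),
      l₀ ≫ pullback.snd (h ≫ g) W.hom = l₁ ≫ pullback.snd (h ≫ g) W.hom →
      (D.φ _ _ hx ⟨l₀ ≫ m, by rw [Category.assoc, hm]⟩).1 = l₁ ≫ m) :
    ∃ f : (Desc.toDD g).obj W ⟶ D, ∀ l : pullback (h ≫ g) W.hom ⟶ pullback g W.hom,
      l ≫ pullback.fst g W.hom = pullback.fst (h ≫ g) W.hom ≫ h →
      l ≫ pullback.snd g W.hom = pullback.snd (h ≫ g) W.hom → l ≫ f.hom.left = m := by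
  let X' := pullback (pullback.snd g W.hom) (pullback.snd (h ≫ g) W.hom)
  let c : X' ⟶ pullback g W.hom := pullback.fst _ _
  let k : X' ⟶ pullback (h ≫ g) W.hom := pullback.snd _ _
  have hck : c ≫ pullback.snd g W.hom = k ≫ pullback.snd (h ≫ g) W.hom := pullback.condition
  have hc : SGA1.UnivSubmersive c := univSubmersive_fst hq
  have hcond : ∀ {T : Scheme.{u}} (l : T ⟶ pullback (h ≫ g) W.hom) (z : T ⟶ pullback g W.hom),
      z ≫ pullback.snd g W.hom = l ≫ pullback.snd (h ≫ g) W.hom →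
      (l ≫ pullback.fst (h ≫ g) W.hom ≫ h) ≫ g = (z ≫ pullback.fst g W.hom) ≫ g := fun l z e => by
    simp only [Category.assoc]
    rw [pullback.condition, pullback.condition, reassoc_of% e]
  let s' : X' ⟶ D.obj.left :=
    (D.φ (k ≫ pullback.fst (h ≫ g) W.hom ≫ h) (c ≫ pullback.fst g W.hom) (hcond k c hck)
      ⟨k ≫ m, by rw [Category.assoc, hm]⟩).1
  have hs' : s' ≫ D.obj.hom = c ≫ pullback.fst g W.hom := (D.φ _ _ (hcond k c hck) _).2
  have hnat : ∀ {T : Scheme.{u}} (p : T ⟶ X')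
      (hh : ((p ≫ k) ≫ pullback.fst (h ≫ g) W.hom ≫ h) ≫ g = ((p ≫ c) ≫ pullback.fst g W.hom) ≫ g),
      p ≫ s' = (D.φ _ _ hh ⟨(p ≫ k) ≫ m, by rw [Category.assoc _ m, hm]⟩).1 := fun p hh => by
    have hh' : (p ≫ k ≫ pullback.fst (h ≫ g) W.hom ≫ h) ≫ g = (p ≫ c ≫ pullback.fst g W.hom) ≫ g := by
      simpa only [Category.assoc] using hh
    refine (D.φ_natural p _ _ (hcond k c hck) hh' ⟨k ≫ m, by rw [Category.assoc, hm]⟩
      ⟨p ≫ k ≫ m, by simp only [Category.assoc, hm]⟩ rfl).symm.trans ?_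
    exact phi_congr'' D (Category.assoc _ _ _).symm (Category.assoc _ _ _).symm hh' hh _ _ (Category.assoc _ _ _).symm
  have hker : pullback.fst c c ≫ s' = pullback.snd c c ≫ s' := by
    have h₁ := hcond (pullback.fst c c ≫ k) (pullback.fst c c ≫ c) (by rw [Category.assoc, Category.assoc, hck])
    have h₂ := hcond (pullback.snd c c ≫ k) (pullback.snd c c ≫ c) (by rw [Category.assoc, Category.assoc, hck])
    have e : pullback.fst c c ≫ c = pullback.snd c c ≫ c := pullback.condition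
    have h₁₂ : ((pullback.fst c c ≫ k) ≫ pullback.fst (h ≫ g) W.hom ≫ h) ≫ g =
        ((pullback.snd c c ≫ k) ≫ pullback.fst (h ≫ g) W.hom ≫ h) ≫ g := by rw [h₁, h₂, e]
    rw [hnat _ h₁, hnat _ h₂, ← D.φ_comp _ _ _ h₁₂ (h₂.trans (by rw [← e]))]
    refine phi_congr'' D rfl (by rw [e]) _ _ _ _ ?_
    exact hcomp _ _ h₁₂ (by rw [Category.assoc, Category.assoc, ← hck, reassoc_of% e])
  obtain ⟨s, hs, hcs⟩ := exists_desc_of_univSubmersive c hc D.obj.hom (pullback.fst g W.hom) s' hs' hker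
  -- values of `s` through the refinement
  have hval : ∀ {T : Scheme.{u}} (l : T ⟶ pullback (h ≫ g) W.hom) (z : T ⟶ pullback g W.hom)
      (e : z ≫ pullback.snd g W.hom = l ≫ pullback.snd (h ≫ g) W.hom),
      z ≫ s = (D.φ _ _ (hcond l z e) ⟨l ≫ m, by rw [Category.assoc, hm]⟩).1 := fun l z e => by
    let p := pullback.lift z l e
    have hp₁ : p ≫ c = z := pullback.lift_fst _ _ _
    have hp₂ : p ≫ k = l := pullback.lift_snd _ _ _
    have hh : ((p ≫ k) ≫ pullback.fst (h ≫ g) W.hom ≫ h) ≫ g = ((p ≫ c) ≫ pullback.fst g W.hom) ≫ g :=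
      hcond _ _ (by rw [hp₁, hp₂, e])
    refine ((congrArg (· ≫ s) hp₁.symm).trans ((Category.assoc _ _ _).trans
      ((congrArg (p ≫ ·) hcs).trans (hnat p hh)))).trans ?_
    exact phi_congr'' D (by rw [hp₂]) (by rw [hp₁]) _ _ _ _ (congrArg (· ≫ m) hp₂)
  refine ⟨⟨Over.homMk s hs, fun T x₀ x₁ hx v w hw => ?_⟩, fun l hl₁ hl₂ => ?_⟩
  · show (D.φ x₀ x₁ hx w).1 = pullback.lift x₁ (v.1 ≫ pullback.snd g W.hom) _ ≫ s
    let z₀ : T ⟶ pullback g W.hom := v.1
    let z₁ : T ⟶ pullback g W.hom := pullback.lift x₁ (v.1 ≫ pullback.snd g W.hom) (by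
      show x₁ ≫ g = (z₀ ≫ pullback.snd g W.hom) ≫ W.hom
      rw [← hx, ← (show z₀ ≫ pullback.fst g W.hom = x₀ from v.2), Category.assoc, Category.assoc, pullback.condition])
    have hz₁ : z₁ ≫ pullback.fst g W.hom = x₁ := pullback.lift_fst _ _ _
    let a : T ⟶ W.left := z₀ ≫ pullback.snd g W.hom
    let t : pullback a (pullback.snd (h ≫ g) W.hom) ⟶ T := pullback.fst _ _
    let l : pullback a (pullback.snd (h ≫ g) W.hom) ⟶ pullback (h ≫ g) W.hom := pullback.snd _ _
    have hl : t ≫ a = l ≫ pullback.snd (h ≫ g) W.hom := pullback.condition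
    haveI : Surjective t := surjective_of_univSubmersive (univSubmersive_fst hq)
    have hw' : w.1 = z₀ ≫ s := hw
    refine H06Unram.hom_ext_of_surjective D.obj.hom t _ _
      ((D.φ x₀ x₁ hx w).2.trans (by rw [Category.assoc, hs]; exact hz₁.symm)) ?_
    show t ≫ (D.φ x₀ x₁ hx w).1 = t ≫ z₁ ≫ s
    have e₀ : (t ≫ z₀) ≫ pullback.snd g W.hom = l ≫ pullback.snd (h ≫ g) W.hom :=
      (Category.assoc _ _ _).trans hl
    have e₁ : (t ≫ z₁) ≫ pullback.snd g W.hom = l ≫ pullback.snd (h ≫ g) W.hom := by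
      rw [Category.assoc, pullback.lift_snd]; exact hl
    have hx' : (t ≫ x₀) ≫ g = (t ≫ x₁) ≫ g := by rw [Category.assoc, Category.assoc, hx]
    have ew : (t ≫ z₀) ≫ s = t ≫ w.1 := by rw [Category.assoc, hw']
    rw [← D.φ_natural t x₀ x₁ hx hx' w ⟨t ≫ w.1, by rw [Category.assoc, w.2]⟩ rfl, ← Category.assoc t z₁ s,
      hval l _ e₁]
    have h₀₁ : ((t ≫ z₀) ≫ pullback.fst g W.hom) ≫ g = ((t ≫ z₁) ≫ pullback.fst g W.hom) ≫ g :=
      (hcond l _ e₀).symm.trans (hcond l _ e₁)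
    rw [← D.φ_comp _ _ _ (hcond l _ e₀) h₀₁]
    refine phi_congr'' D ?_ ?_ _ _ _ _ ?_
    · rw [Category.assoc]; exact congrArg (t ≫ ·) (v.2.symm)
    · rw [Category.assoc, hz₁]
    · exact ew.symm.trans (hval l _ e₀)
  · show l ≫ s = m
    rw [hval (𝟙 _) l (by rw [Category.id_comp, hl₂])]
    refine (phi_self'' D (by rw [Category.id_comp, hl₁]) _ _).trans ?_
    exact Category.id_comp m

end Groth.Agent.H15Subtr
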