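import Groth.Agent.H15Subtr.EtMor
import Groth.Agent.H9Hens.ProperPair
import Groth.Agent.H9Hens.SchemeSections
import Groth.Agent.H8Props.FiniteFactor
import Groth.Agent.H12AlgSp.Bootstrap

/-!
# Sections of separated étale schemes over proper schemes over henselian local rings

A section over the closed fibre lifts.
-/

set_option autoImplicit false
set_option linter.style.haveILetI false
set_option backward.isDefEq.respectTransparency false

universe u

open CategoryTheory CategoryTheory.Limits AlgebraicGeometry TopologicalSpace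

namespace Groth.Agent.H15Subtr

/-- The closed point of the spectrum of a local ring, as a morphism. -/
noncomputable abbrev closedPt (R : Type u) [CommRing R] [IsLocalRing R] :
    Spec (CommRingCat.of (IsLocalRing.ResidueField R)) ⟶ Spec (CommRingCat.of R) :=
  Spec.map (CommRingCat.ofHom (IsLocalRing.residue R))

variable {R : Type u} [CommRing R] [IsLocalRing R]

theorem closedPt_apply (z : Spec (CommRingCat.of (IsLocalRing.ResidueField R))) :
    closedPt R z = IsLocalRing.closedPoint R := by
  refine PrimeSpectrum.ext ?_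
  show Ideal.comap (IsLocalRing.residue R) z.asIdeal = IsLocalRing.maximalIdeal R
  rw [show z.asIdeal = ⊥ from (Ideal.eq_bot_or_top _).resolve_right z.isPrime.ne_top]
  exact IsLocalRing.ker_residue

theorem range_fst_closedPt {Y : Scheme.{u}} (f : Y ⟶ Spec (CommRingCat.of R)) :
    Set.range (pullback.fst f (closedPt R)) = f ⁻¹' {IsLocalRing.closedPoint R} := by
  rw [Scheme.Pullback.range_fst]
  congr 1
  refine Set.Subset.antisymm ?_ ?_
  · rintro _ ⟨z, rfl⟩
    exact closedPt_apply z
  · rintro _ rfl
    obtain ⟨z⟩ : Nonempty (Spec (CommRingCat.of (IsLocalRing.ResidueField R))) := inferInstance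
    exact ⟨z, closedPt_apply z⟩

instance : IsClosedImmersion (closedPt R) :=
  IsClosedImmersion.spec_of_surjective _ Ideal.Quotient.mk_surjective

/-- A morphism from the spectrum of a field to the closed point factors through the residue field. -/
theorem exists_factor_closedPt {K : Type u} [Field K] (x : Spec (CommRingCat.of K) ⟶ Spec (CommRingCat.of R))
    (hx : ∀ p, x p = IsLocalRing.closedPoint R) :
    ∃ a : Spec (CommRingCat.of K) ⟶ Spec (CommRingCat.of (IsLocalRing.ResidueField R)), a ≫ closedPt R = x := by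
  let φ := Spec.preimage x
  have hker : ∀ r ∈ IsLocalRing.maximalIdeal R, φ.hom r = 0 := fun r hr => by
    have h := congrArg PrimeSpectrum.asIdeal (hx (⊥ : PrimeSpectrum K))
    rw [← Spec.map_preimage x] at h
    have : r ∈ Ideal.comap φ.hom (⊥ : Ideal K) := h.ge hr
    simpa using this
  refine ⟨Spec.map (CommRingCat.ofHom (Ideal.Quotient.lift (IsLocalRing.maximalIdeal R) φ.hom hker)), ?_⟩
  rw [closedPt, ← Spec.map_comp, ← Spec.map_preimage x]
  congr 1

/-- A closed subset of a universally closed scheme over a local ring without points in the closed fibre is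
empty. -/
theorem eq_empty_of_closedFibre {Y : Scheme.{u}} (f : Y ⟶ Spec (CommRingCat.of R)) [UniversallyClosed f]
    {Z : Set Y} (hZ : IsClosed Z) (h : ∀ z ∈ Z, f z ≠ IsLocalRing.closedPoint R) : Z = ∅ := by
  by_contra hne
  obtain ⟨z, hz⟩ := Set.nonempty_iff_ne_empty.2 hne
  obtain ⟨w, hw, hwe⟩ := (IsLocalRing.specializes_closedPoint (f z)).mem_closed (f.isClosedMap _ hZ)
    ⟨z, hz, rfl⟩
  exact h w hw hwe

/-- A section of a separated étale scheme over the closed fibre of a proper scheme over a henselian local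
ring lifts to a section. -/
theorem exists_section_of_closedFibre {R : Type u} [CommRing R] [HenselianLocalRing R] {Y U : Scheme.{u}}
    (f : Y ⟶ Spec (CommRingCat.of R)) [IsProper f] (q : U ⟶ Y) [Etale q] [IsSeparated q]
    (σ₀ : pullback f (closedPt R) ⟶ U) (h : σ₀ ≫ q = pullback.fst f (closedPt R)) :
    ∃ σ : Y ⟶ U, σ ≫ q = 𝟙 Y ∧ pullback.fst f (closedPt R) ≫ σ = σ₀ := by
  let i := pullback.fst f (closedPt R)
  haveI : IsClosedImmersion i := inferInstance
  haveI : CompactSpace Y := QuasiCompact.compactSpace_of_compactSpace f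
  haveI : QuasiSeparatedSpace Y := quasiSeparatedSpace_of_quasiSeparated f
  haveI : CompactSpace ↥(pullback f (closedPt R)) := i.isClosedEmbedding.compactSpace
  -- a quasi-compact open containing the section
  obtain ⟨t, ht⟩ := (isCompact_range σ₀.continuous).elim_finite_subcover
    (fun A : U.affineOpens => ((A : U.Opens) : Set U)) (fun A => A.1.2) (fun x _ => by
      obtain ⟨A, hA, hx, -⟩ := exists_isAffineOpen_mem_and_subset (Set.mem_univ x) (U := (⊤ : U.Opens))
      exact Set.mem_iUnion.2 ⟨⟨A, hA⟩, hx⟩)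
  let O : U.Opens := ⟨⋃ A ∈ t, ((A : U.affineOpens).1 : Set U), isOpen_biUnion fun A _ => A.1.2⟩
  haveI : CompactSpace O.toScheme := isCompact_iff_compactSpace.mp
    (t.isCompact_biUnion fun A _ => A.2.isCompact)
  let q' := O.ι ≫ q
  haveI : QuasiCompact (q' ≫ f) := (quasiCompact_iff_compactSpace _).2 inferInstance
  haveI : QuasiCompact q' := QuasiCompact.of_comp q' f
  haveI : LocallyQuasiFinite q' := H12AlgSp.lqf_of_etale q'
  obtain ⟨T, j, π, hj, -, hπ, -, hjπ⟩ := H8Props.FiniteFactor.exists_openImmersion_finite_fp q'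
  haveI := hj
  haveI := hπ
  let τ : pullback f (closedPt R) ⟶ O.toScheme := IsOpenImmersion.lift O.ι σ₀ (ht.trans (Scheme.Opens.range_ι O).ge)
  have hτ : τ ≫ O.ι = σ₀ := IsOpenImmersion.lift_fac _ _ _
  let s := τ ≫ j
  have hs : s ≫ π = i := by rw [Category.assoc, hjπ, ← Category.assoc, hτ, h]
  haveI : IsClosedImmersion (s ≫ π) := by rw [hs]; infer_instance
  haveI : IsClosedImmersion s := IsClosedImmersion.of_comp s π
  let F : Set T := (π ≫ f) ⁻¹' PrimeSpectrum.zeroLocus (IsLocalRing.maximalIdeal R : Set R)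
  have hF : ∀ x, x ∈ F ↔ f (π x) = IsLocalRing.closedPoint R := fun x => by
    show (π ≫ f) x ∈ PrimeSpectrum.zeroLocus _ ↔ _
    rw [Scheme.Hom.comp_apply, PrimeSpectrum.mem_zeroLocus]
    refine ⟨fun hle => PrimeSpectrum.ext ((IsLocalRing.maximalIdeal.isMaximal R).eq_of_le
      (f (π x)).isPrime.ne_top hle).symm, fun he => ?_⟩
    rw [he]
    exact le_rfl
  have hsF : Set.range s ⊆ F := by
    rintro _ ⟨y, rfl⟩
    have hy : i y ∈ f ⁻¹' {IsLocalRing.closedPoint R} := range_fst_closedPt f ▸ ⟨y, rfl⟩
    rw [← hs, Scheme.Hom.comp_apply] at hy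
    exact (hF _).2 hy
  -- the section is open in the closed fibre
  obtain ⟨V, hV, hVeq⟩ : ∃ V : Set T, IsOpen V ∧ ∀ x ∈ F, x ∈ V ↔ x ∈ Set.range s := by
    let s' : pullback f (closedPt R) ⟶ pullback q' i := pullback.lift τ (𝟙 _) (by
      rw [Category.id_comp, ← Category.assoc, hτ, h])
    haveI : IsOpenImmersion s' := isOpenImmersion_section (pullback.snd q' i) s' (pullback.lift_snd _ _ _)
    obtain ⟨V, hV, hVs⟩ := (pullback.fst q' i).isEmbedding.isOpen_iff.1 s'.isOpenEmbedding.isOpen_range
    refine ⟨j '' V, j.isOpenEmbedding.isOpenMap _ hV, fun x hx => ⟨?_, ?_⟩⟩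
    · rintro ⟨o, ho, rfl⟩
      have hq : f (q' o) = IsLocalRing.closedPoint R := by
        rw [← hjπ, Scheme.Hom.comp_apply]; exact (hF _).1 hx
      have hr : o ∈ Set.range (pullback.fst q' i) := by
        rw [Scheme.Pullback.range_fst]
        show q' o ∈ Set.range i
        rw [range_fst_closedPt]
        exact hq
      obtain ⟨w, rfl⟩ := hr
      obtain ⟨y, rfl⟩ := hVs.le (show w ∈ pullback.fst q' i ⁻¹' V from ho)
      refine ⟨y, ?_⟩
      show (τ ≫ j) y = j (pullback.fst q' i (s' y))
      rw [← Scheme.Hom.comp_apply s', pullback.lift_fst, Scheme.Hom.comp_apply]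
    · rintro ⟨y, rfl⟩
      refine ⟨τ y, ?_, (Scheme.Hom.comp_apply τ j y).symm⟩
      have := hVs.ge (⟨y, rfl⟩ : s' y ∈ Set.range s')
      rwa [Set.mem_preimage, ← Scheme.Hom.comp_apply, pullback.lift_fst] at this
  have hclopen : IsClopen (Subtype.val ⁻¹' Set.range s : Set F) := by
    refine ⟨s.isClosedEmbedding.isClosed_range.preimage continuous_subtype_val, ?_⟩
    convert hV.preimage (continuous_subtype_val (p := fun x : T => x ∈ F)) using 1
    ext x
    exact (hVeq x.1 x.2).symm
  haveI := H9Hens.henselianRing_maximalIdeal R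
  obtain ⟨C₀, ⟨hC, hCF⟩, -⟩ := H9Hens.ProperPair.uniqueLift_proper (IsLocalRing.maximalIdeal R) (π ≫ f) _ hclopen
  have hCs : ∀ x ∈ F, x ∈ C₀ ↔ x ∈ Set.range s := fun x hx => Set.ext_iff.1 hCF ⟨x, hx⟩
  have hCj : C₀ ⊆ Set.range j := by
    have h0 : C₀ ∩ (Set.range j)ᶜ = ∅ :=
      eq_empty_of_closedFibre (π ≫ f) (hC.1.inter j.isOpenEmbedding.isOpen_range.isClosed_compl) fun z hz hz' => by
        obtain ⟨y, rfl⟩ := (hCs z ((hF z).2 ((Scheme.Hom.comp_apply π f z).symm.trans hz'))).1 hz.1
        exact hz.2 ⟨τ y, (Scheme.Hom.comp_apply τ j y).symm⟩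
    intro x hx
    by_contra hxj
    exact (Set.eq_empty_iff_forall_notMem.1 h0) x ⟨hx, hxj⟩
  let C : T.Opens := ⟨C₀, hC.2⟩
  haveI : IsClosedImmersion C.ι := IsClosedImmersion.of_isPreimmersion C.ι (C.range_ι.symm ▸ hC.1)
  let r : C.toScheme ⟶ O.toScheme := IsOpenImmersion.lift j C.ι (C.range_ι.le.trans hCj)
  have hr : r ≫ j = C.ι := IsOpenImmersion.lift_fac _ _ _
  haveI : IsOpenImmersion (r ≫ j) := by rw [hr]; infer_instance
  haveI : IsOpenImmersion r := IsOpenImmersion.of_comp r j
  let e := C.ι ≫ π
  have he : e = r ≫ q' := by rw [← hjπ, ← Category.assoc, hr]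
  haveI : Etale e := by rw [he]; infer_instance
  haveI : IsFinite e := inferInstance
  have hsC : Set.range s ⊆ Set.range C.ι := by
    rw [Scheme.Opens.range_ι]
    exact fun x hx => (hCs x (hsF hx)).2 hx
  let sC : pullback f (closedPt R) ⟶ C.toScheme := IsOpenImmersion.lift C.ι s hsC
  have hsC' : sC ≫ C.ι = s := IsOpenImmersion.lift_fac _ _ _
  have hsCe : sC ≫ e = i := by rw [← Category.assoc, hsC', hs]
  -- the closed fibre of `C` is the section
  haveI : IsIso (pullback.snd e i) := by
    let k : pullback f (closedPt R) ⟶ pullback e i := pullback.lift sC (𝟙 _) (by rw [hsCe, Category.id_comp])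
    have hk : k ≫ pullback.snd e i = 𝟙 _ := pullback.lift_snd _ _ _
    haveI : IsOpenImmersion k := isOpenImmersion_section _ k hk
    haveI : Surjective k := ⟨fun z => by
      let c := pullback.fst e i z
      have hce : e c = i (pullback.snd e i z) := by
        rw [← Scheme.Hom.comp_apply, pullback.condition, Scheme.Hom.comp_apply]
      have hcF : C.ι c ∈ F := by
        rw [hF, ← Scheme.Hom.comp_apply C.ι π]
        show f (e c) = _
        rw [hce]
        exact (range_fst_closedPt f).le ⟨_, rfl⟩
      obtain ⟨y, hy⟩ := (hCs _ hcF).1 (C.range_ι.le ⟨c, rfl⟩)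
      refine ⟨y, ?_⟩
      haveI : IsClosedImmersion (pullback.fst e i) := inferInstance
      apply (pullback.fst e i).isEmbedding.injective
      rw [← Scheme.Hom.comp_apply, pullback.lift_fst]
      apply C.ι.isEmbedding.injective
      rw [← Scheme.Hom.comp_apply, hsC', hy]⟩
    haveI : IsIso k := (isIso_iff_isOpenImmersion_and_surjective k).mpr ⟨inferInstance, inferInstance⟩
    haveI : IsIso (k ≫ pullback.snd e i) := by rw [hk]; infer_instance
    exact IsIso.of_isIso_comp_left k _
  haveI : Surjective e := by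
    refine ⟨fun y => ?_⟩
    have h0 : (Set.range e)ᶜ = ∅ :=
      eq_empty_of_closedFibre f e.isOpenMap.isOpen_range.isClosed_compl fun z hz hz' => by
        obtain ⟨w, rfl⟩ : z ∈ Set.range i := (range_fst_closedPt f).ge hz'
        exact hz ⟨sC w, by rw [← Scheme.Hom.comp_apply, hsCe]⟩
    exact Set.range_eq_univ.1 (Set.compl_empty_iff.1 h0) y
  haveI : Surjective (pullback.diagonal e) := by
    haveI : IsOpenImmersion (pullback.diagonal e) := inferInstance
    refine ⟨fun ω => ?_⟩
    have h0 : (Set.range (pullback.diagonal e))ᶜ = ∅ :=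
      eq_empty_of_closedFibre (pullback.fst e e ≫ e ≫ f)
        (pullback.diagonal e).isOpenEmbedding.isOpen_range.isClosed_compl fun z hz hz' => by
        let P := pullback e e
        let k := P.fromSpecResidueField z
        let y := k ≫ pullback.fst e e ≫ e
        obtain ⟨a, ha⟩ := exists_factor_closedPt (y ≫ f) fun p => by
          rw [show y ≫ f = k ≫ (pullback.fst e e ≫ e ≫ f) by simp [y]]
          exact ((Scheme.Hom.comp_apply _ _ _).trans
            (congrArg (pullback.fst e e ≫ e ≫ f) (Scheme.fromSpecResidueField_apply z p))).trans hz'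
        let y₀ := pullback.lift y a ha.symm
        have key : ∀ u : Spec (P.residueField z) ⟶ C.toScheme, ∀ hu : u ≫ e = y,
            pullback.lift u y₀ (by rw [hu, pullback.lift_fst]) = y₀ ≫ inv (pullback.snd e i) := fun u hu => by
          rw [IsIso.eq_comp_inv, pullback.lift_snd]
        have h₁ := key (k ≫ pullback.fst e e) (by simp [y])
        have h₂ := key (k ≫ pullback.snd e e) (by simp [y, pullback.condition])
        have huv : k ≫ pullback.fst e e = k ≫ pullback.snd e e := by
          simpa using congrArg (· ≫ pullback.fst e i) (h₁.trans h₂.symm)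
        have hd : (k ≫ pullback.fst e e) ≫ pullback.diagonal e = k := by
          apply pullback.hom_ext
          · simp
          · simp [huv]
        obtain ⟨p⟩ : Nonempty (Spec (P.residueField z)) := inferInstance
        exact hz ⟨(k ≫ pullback.fst e e) p, by
          rw [← Scheme.Hom.comp_apply, hd]; exact Scheme.fromSpecResidueField_apply z _⟩
    exact Set.range_eq_univ.1 (Set.compl_empty_iff.1 h0) ω
  haveI : UniversallyInjective e := (UniversallyInjective.iff_diagonal (f := e)).mpr ‹_›
  haveI : IsOpenImmersion e := H18Et.TopInv.isOpenImmersion_of_etale_of_universallyInjective _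
  haveI : IsIso e := (isIso_iff_isOpenImmersion_and_surjective e).mpr ⟨inferInstance, inferInstance⟩
  refine ⟨inv e ≫ r ≫ O.ι, ?_, ?_⟩
  · rw [Category.assoc, Category.assoc]
    show inv e ≫ r ≫ q' = _
    rw [← he, IsIso.inv_hom_id]
  · have h1 : i ≫ inv e = sC := by rw [IsIso.comp_inv_eq, hsCe]
    have h2 : sC ≫ r = τ := by rw [← cancel_mono j, Category.assoc, hr, hsC']
    show i ≫ _ = _
    rw [reassoc_of% h1, reassoc_of% h2, hτ]

end Groth.Agent.H15Subtr
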