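import Groth.Agent.H15Subtr.EtDescended
import Groth.Agent.H15Subtr.EtHensel
import Groth.Agent.H13Desc.Eff.Refine

/-!
# Sections of an étale datum over strictly henselian local rings

For a datum with a refinement by a flat cover of a proper surjective morphism, a geometric point over the
closed point of a strictly henselian local ring extends to a compatible family of points.
-/

set_option autoImplicit false
set_option linter.style.haveILetI false
set_option backward.isDefEq.respectTransparency false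

universe u

open CategoryTheory CategoryTheory.Limits AlgebraicGeometry TopologicalSpace

namespace Groth.Agent.H15Subtr

open H13Desc.Eff

variable {S' S X Y : Scheme.{u}} {g : S' ⟶ S} {D : Desc.SchDD g}

theorem phi_natural_val (D : Desc.SchDD g) {T T' : Scheme.{u}} (k : T' ⟶ T) (x₀ x₁ : T ⟶ S')
    (h : x₀ ≫ g = x₁ ≫ g) (v : Desc.Lifts D.obj x₀) :
    k ≫ (D.φ x₀ x₁ h v).1 =
      (D.φ (k ≫ x₀) (k ≫ x₁) (by rw [Category.assoc, Category.assoc, h])
        ⟨k ≫ v.1, by rw [Category.assoc, v.2]⟩).1 :=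
  (D.φ_natural k x₀ x₁ h _ v _ rfl).symm

theorem phi_trans_val (D : Desc.SchDD g) {T : Scheme.{u}} (x₀ x₁ x₂ : T ⟶ S') (h₀₁ : x₀ ≫ g = x₁ ≫ g)
    (h₁₂ : x₁ ≫ g = x₂ ≫ g) (v : Desc.Lifts D.obj x₀) (u : Desc.Lifts D.obj x₁)
    (e : (D.φ x₀ x₁ h₀₁ v).1 = u.1) :
    (D.φ x₁ x₂ h₁₂ u).1 = (D.φ x₀ x₂ (h₀₁.trans h₁₂) v).1 := by
  rw [← D.φ_comp x₀ x₁ x₂ h₀₁ h₁₂ v, Subtype.ext e]

variable {R : Type u} [CommRing R] [HenselianLocalRing R] (r : Spec (CommRingCat.of R) ⟶ S)

theorem exists_local_section (h : X ⟶ S') (p : X ⟶ Y) (q : Y ⟶ S) (w : h ≫ g = p ≫ q)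
    [Flat p] [Surjective p] [LocallyOfFinitePresentation p] [IsProper q] [Surjective q]
    [Etale D.obj.hom] [IsSeparated D.obj.hom] {Ω : Scheme.{u}}
    (ι : Ω ⟶ Spec (CommRingCat.of (IsLocalRing.ResidueField R)))
    [IsIntegralHom ι] [UniversallyInjective ι] [Surjective ι]
    (x : Ω ⟶ S') (v : Desc.Lifts D.obj x) (hx : x ≫ g = (ι ≫ closedPt R) ≫ r) :
    ∃ (σ : pullback (h ≫ g) r ⟶ D.obj.left) (hσ : σ ≫ D.obj.hom = pullback.fst (h ≫ g) r ≫ h),
      (∀ ⦃T : Scheme.{u}⦄ (a b : T ⟶ pullback (h ≫ g) r)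
        (e : (a ≫ pullback.fst (h ≫ g) r ≫ h) ≫ g = (b ≫ pullback.fst (h ≫ g) r ≫ h) ≫ g),
        a ≫ pullback.snd (h ≫ g) r = b ≫ pullback.snd (h ≫ g) r →
        (D.φ _ _ e ⟨a ≫ σ, by rw [Category.assoc, hσ]⟩).1 = b ≫ σ) ∧
      ∀ ⦃T : Scheme.{u}⦄ (a : T ⟶ pullback (h ≫ g) r) (o : T ⟶ Ω)
        (e : (o ≫ x) ≫ g = (a ≫ pullback.fst (h ≫ g) r ≫ h) ≫ g),
        a ≫ pullback.snd (h ≫ g) r = o ≫ ι ≫ closedPt R →
        (D.φ _ _ e ⟨o ≫ v.1, by rw [Category.assoc, v.2]⟩).1 = a ≫ σ := by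
  obtain ⟨UY, μ, hμ, hUe, hUs, hμc⟩ := exists_descended D h p q w
  haveI := hUe
  haveI := hUs
  let f := pullback.snd q r
  let yR := pullback.fst q r
  haveI : IsProper f := inferInstance
  -- the geometric closed fibre
  let j := pullback.fst f (ι ≫ closedPt R)
  let oY := pullback.snd f (ι ≫ closedPt R)
  let yΩ := j ≫ yR
  let cΩ := pullback.snd p yΩ
  let aΩ := pullback.fst p yΩ
  have hvx : ((cΩ ≫ oY) ≫ x) ≫ g = (aΩ ≫ h) ≫ g := by
    rw [Category.assoc _ h, w, ← Category.assoc aΩ, pullback.condition, Category.assoc _ x, hx]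
    simp only [cΩ, oY, yΩ, yR, Category.assoc, pullback.condition]
    rw [← reassoc_of% (pullback.condition (f := f) (g := ι ≫ closedPt R))]
  let vΩ := (D.φ ((cΩ ≫ oY) ≫ x) (aΩ ≫ h) hvx ⟨(cΩ ≫ oY) ≫ v.1, by rw [Category.assoc, v.2]⟩).1
  have hvΩ : vΩ ≫ D.obj.hom = aΩ ≫ h := (D.φ _ _ hvx _).2
  let lΩ := hμ.lift vΩ aΩ hvΩ
  have hl₁ : lΩ ≫ μ = vΩ := hμ.lift_fst _ _ _
  have hl₂ : lΩ ≫ pullback.fst p UY.hom = aΩ := hμ.lift_snd _ _ _
  let sΩ' := lΩ ≫ pullback.snd p UY.hom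
  have hsΩ' : sΩ' ≫ UY.hom = cΩ ≫ yΩ := by
    rw [Category.assoc, ← pullback.condition, ← Category.assoc, hl₂, pullback.condition]
  obtain ⟨sΩ, hsΩ, hsΩc⟩ := exists_desc_of_univSubmersive cΩ
    (univSubmersive_of_universallyOpen cΩ) UY.hom yΩ sΩ' hsΩ' (by
      let a₀ := pullback.fst cΩ cΩ
      let a₁ := pullback.snd cΩ cΩ
      have ha : a₀ ≫ cΩ = a₁ ≫ cΩ := pullback.condition
      -- the point with the second cover component and the first value
      let l₂ : pullback cΩ cΩ ⟶ pullback p UY.hom := pullback.lift (a₁ ≫ aΩ) (a₀ ≫ sΩ') (by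
        rw [Category.assoc, Category.assoc, hsΩ', pullback.condition, reassoc_of% ha])
      have e₀ : a₀ ≫ lΩ ≫ μ = a₀ ≫ vΩ := by rw [hl₁]
      have hx₀ : (((a₀ ≫ lΩ) ≫ pullback.fst p UY.hom) ≫ h) ≫ g = ((l₂ ≫ pullback.fst p UY.hom) ≫ h) ≫ g := by
        rw [pullback.lift_fst, Category.assoc a₀, hl₂, Category.assoc _ h, Category.assoc _ h, w]
        simp only [Category.assoc]
        rw [reassoc_of% (pullback.condition (f := p) (g := yΩ)), reassoc_of% ha]
      have hcomp := hμc (a₀ ≫ lΩ) l₂ hx₀ (by rw [Category.assoc, pullback.lift_snd])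
      have heq : l₂ = a₁ ≫ lΩ := by
        refine hμ.hom_ext ?_ (by rw [pullback.lift_fst, Category.assoc, hl₂])
        refine hcomp.symm.trans ?_
        rw [Category.assoc a₁, hl₁, phi_natural_val D a₁ _ _ hvx]
        have hc : ((a₀ ≫ cΩ ≫ oY) ≫ x) ≫ g = (a₀ ≫ aΩ ≫ h) ≫ g := by
          simp only [Category.assoc] at hvx ⊢; rw [hvx]
        rw [phi_trans_val D ((a₀ ≫ cΩ ≫ oY) ≫ x) (((a₀ ≫ lΩ) ≫ pullback.fst p UY.hom) ≫ h)
          ((l₂ ≫ pullback.fst p UY.hom) ≫ h)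
          (by rw [Category.assoc a₀ lΩ, hl₂, Category.assoc a₀ aΩ]; exact hc) hx₀
          ⟨(a₀ ≫ cΩ ≫ oY) ≫ v.1, by rw [Category.assoc, v.2]⟩ _ (by
            refine Eq.trans ?_ ((congrArg (a₀ ≫ ·) hl₁.symm).trans (Category.assoc _ _ _).symm)
            show _ = a₀ ≫ vΩ
            rw [phi_natural_val D a₀ _ _ hvx]
            exact phi_congr'' D (by simp only [Category.assoc]) (by simp only [Category.assoc, reassoc_of% hl₂])
              _ _ _ _ (by simp only [Category.assoc]))]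
        exact phi_congr'' D (by simp only [Category.assoc]; rw [reassoc_of% ha])
          (by rw [pullback.lift_fst, Category.assoc]) _ _ _ _ (by simp only [Category.assoc]; rw [reassoc_of% ha])
      have := congrArg (· ≫ pullback.snd p UY.hom) heq
      simpa only [l₂, sΩ', pullback.lift_snd, Category.assoc] using this)
  -- down to the closed fibre
  let j₀ := pullback.fst f (closedPt R)
  let c₀ : pullback f (ι ≫ closedPt R) ⟶ pullback f (closedPt R) :=
    pullback.lift j (oY ≫ ι) (pullback.condition.trans (Category.assoc _ _ _).symm)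
  have hc₀ : IsPullback oY c₀ ι (pullback.snd f (closedPt R)) := by
    refine (IsPullback.of_right ?_ (pullback.lift_snd _ _ _) (IsPullback.of_hasPullback f (closedPt R))).flip
    show IsPullback (c₀ ≫ j₀) oY f (ι ≫ closedPt R)
    rw [pullback.lift_fst]
    exact IsPullback.of_hasPullback f (ι ≫ closedPt R)
  haveI : IsIntegralHom c₀ := MorphismProperty.of_isPullback (P := @IsIntegralHom) hc₀ ‹_›
  haveI : UniversallyInjective c₀ := MorphismProperty.of_isPullback (P := @UniversallyInjective) hc₀ ‹_›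
  haveI : Surjective c₀ := MorphismProperty.of_isPullback (P := @Surjective) hc₀ ‹_›
  obtain ⟨s₀, ⟨hs₀, hs₀c⟩, -⟩ := H18Et.TopInv.existsUnique_lift UY.hom (j₀ ≫ yR) c₀ sΩ
    (by rw [hsΩ]; show j ≫ yR = c₀ ≫ j₀ ≫ yR; rw [← Category.assoc, pullback.lift_fst])
  obtain ⟨σY, hσY, hσY₀⟩ := exists_section_of_closedFibre f (pullback.snd UY.hom yR)
    (pullback.lift s₀ j₀ hs₀) (pullback.lift_snd _ _ _)
  let sY := σY ≫ pullback.fst UY.hom yR
  have hsY : sY ≫ UY.hom = yR := by rw [Category.assoc, pullback.condition, reassoc_of% hσY]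
  have hsY₀ : j₀ ≫ sY = s₀ := by
    show j₀ ≫ σY ≫ _ = s₀
    rw [reassoc_of% hσY₀, pullback.lift_fst]
  -- the section on the refinement
  let XR := pullback (h ≫ g) r
  let aR := pullback.fst (h ≫ g) r
  let tR := pullback.snd (h ≫ g) r
  let pR : XR ⟶ pullback q r := pullback.lift (aR ≫ p) tR
    (by rw [Category.assoc, ← w]; exact pullback.condition)
  have hpR : IsPullback aR pR p yR := by
    refine IsPullback.of_bot ?_ (pullback.lift_fst _ _ _).symm (IsPullback.of_hasPullback q r)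
    rw [show pR ≫ pullback.snd q r = tR from pullback.lift_snd _ _ _, ← w]
    exact IsPullback.of_hasPullback (h ≫ g) r
  haveI : Flat pR := MorphismProperty.of_isPullback (P := @Flat) hpR ‹_›
  haveI : Surjective pR := MorphismProperty.of_isPullback (P := @Surjective) hpR ‹_›
  haveI : LocallyOfFinitePresentation pR := MorphismProperty.of_isPullback (P := @LocallyOfFinitePresentation) hpR ‹_›
  have hpRf : pR ≫ f = tR := pullback.lift_snd _ _ _
  let lR : XR ⟶ pullback p UY.hom := pullback.lift aR (pR ≫ sY) (by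
    rw [Category.assoc, hsY]; exact hpR.w)
  let σ := lR ≫ μ
  have hσ : σ ≫ D.obj.hom = aR ≫ h := by
    rw [Category.assoc, hμ.w, ← Category.assoc, pullback.lift_fst]
  have hsame : ∀ {T : Scheme.{u}} (a b : T ⟶ XR) (e : (a ≫ aR ≫ h) ≫ g = (b ≫ aR ≫ h) ≫ g),
      a ≫ pR = b ≫ pR → (D.φ _ _ e ⟨a ≫ σ, by rw [Category.assoc, hσ]⟩).1 = b ≫ σ := fun a b e hab => by
    have e' : (((a ≫ lR) ≫ pullback.fst p UY.hom) ≫ h) ≫ g = (((b ≫ lR) ≫ pullback.fst p UY.hom) ≫ h) ≫ g := by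
      simpa only [lR, Category.assoc, pullback.lift_fst_assoc] using e
    refine Eq.trans ?_ ((hμc (a ≫ lR) (b ≫ lR) e' (by
      simp only [lR, Category.assoc, pullback.lift_snd]; rw [reassoc_of% hab])).trans (Category.assoc _ _ _))
    exact phi_congr'' D (by simp only [lR, Category.assoc, pullback.lift_fst_assoc])
      (by simp only [lR, Category.assoc, pullback.lift_fst_assoc]) _ _ _ _ (Category.assoc _ _ _).symm
  have hclosed : ∀ ⦃T : Scheme.{u}⦄ (a : T ⟶ XR) (o : T ⟶ Ω) (e : (o ≫ x) ≫ g = (a ≫ aR ≫ h) ≫ g),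
      a ≫ tR = o ≫ ι ≫ closedPt R →
      (D.φ _ _ e ⟨o ≫ v.1, by rw [Category.assoc, v.2]⟩).1 = a ≫ σ := fun T a o e ha => by
    let y : T ⟶ pullback f (ι ≫ closedPt R) := pullback.lift (a ≫ pR) o (by rw [Category.assoc, hpRf, ha])
    have hy₁ : y ≫ j = a ≫ pR := pullback.lift_fst _ _ _
    have hy₂ : y ≫ oY = o := pullback.lift_snd _ _ _
    let k : T ⟶ pullback p yΩ := pullback.lift (a ≫ aR) y (by
      show (a ≫ aR) ≫ p = y ≫ j ≫ yR
      rw [reassoc_of% hy₁, Category.assoc, hpR.w])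
    have hk₁ : k ≫ aΩ = a ≫ aR := pullback.lift_fst _ _ _
    have hk₂ : k ≫ cΩ = y := pullback.lift_snd _ _ _
    have hl : k ≫ lΩ = a ≫ lR := by
      apply pullback.hom_ext
      · rw [Category.assoc, hl₂, hk₁, Category.assoc, pullback.lift_fst]
      · show (k ≫ lΩ) ≫ _ = _
        rw [Category.assoc, Category.assoc, pullback.lift_snd, show lΩ ≫ pullback.snd p UY.hom = sΩ' from rfl,
          ← hsΩc, reassoc_of% hk₂, ← reassoc_of% hy₁]
        have : j ≫ sY = sΩ := by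
          rw [← hs₀c, ← hsY₀, show j = c₀ ≫ j₀ from (pullback.lift_fst _ _ _).symm, Category.assoc]
        rw [this]
    calc (D.φ _ _ e ⟨o ≫ v.1, by rw [Category.assoc, v.2]⟩).1
        = k ≫ vΩ := by
          rw [phi_natural_val D k _ _ hvx]
          exact phi_congr'' D (by simp only [← Category.assoc]; rw [hk₂, hy₂])
            (by rw [← Category.assoc a, ← Category.assoc k, hk₁]) _ _ _ _
            (by simp only [← Category.assoc]; rw [hk₂, hy₂])
      _ = a ≫ σ := by rw [← hl₁, reassoc_of% hl]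
  refine ⟨σ, hσ, fun T a b e hab => ?_, hclosed⟩
  -- the agreement locus on pairs
  let P2 := pullback tR tR
  let a₀ := pullback.fst tR tR
  let b₀ := pullback.snd tR tR
  have ht : tR ≫ r = aR ≫ h ≫ g := pullback.condition.symm
  have he₀ : (a₀ ≫ aR ≫ h) ≫ g = (b₀ ≫ aR ≫ h) ≫ g := by
    simp only [Category.assoc, ← ht, a₀, b₀]
    rw [reassoc_of% (pullback.condition (f := tR) (g := tR))]
  let m₁ := (D.φ _ _ he₀ ⟨a₀ ≫ σ, by rw [Category.assoc, hσ]⟩).1
  let m₂ := b₀ ≫ σ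
  have hm : m₁ ≫ D.obj.hom = m₂ ≫ D.obj.hom :=
    (D.φ _ _ he₀ _).2.trans (by rw [Category.assoc b₀, hσ])
  let ab : P2 ⟶ pullback D.obj.hom D.obj.hom := pullback.lift m₁ m₂ hm
  let E := pullback.snd (pullback.diagonal D.obj.hom) ab
  haveI : IsClosedImmersion (pullback.diagonal D.obj.hom) := IsSeparated.isClosedImmersion_diagonal
  haveI : IsOpenImmersion E := inferInstance
  haveI : IsClosedImmersion E := inferInstance
  have hEeq : E ≫ m₁ = E ≫ m₂ := by
    have c : E ≫ ab = pullback.fst _ _ ≫ pullback.diagonal D.obj.hom := pullback.condition.symm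
    have c₁ := congrArg (· ≫ pullback.fst D.obj.hom D.obj.hom) c
    have c₂ := congrArg (· ≫ pullback.snd D.obj.hom D.obj.hom) c
    simp only [ab, Category.assoc, pullback.lift_fst, pullback.lift_snd, pullback.diagonal_fst,
      pullback.diagonal_snd, Category.comp_id] at c₁ c₂
    rw [c₁, c₂]
  have hE : ∀ {Z : Scheme.{u}} (z : Z ⟶ P2), z ≫ m₁ = z ≫ m₂ → Set.range z ⊆ Set.range E := fun {Z} z hz => by
    let l : Z ⟶ pullback (pullback.diagonal D.obj.hom) ab := pullback.lift (z ≫ m₁) z (by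
      apply pullback.hom_ext
      · simp [ab]
      · simp [ab, hz])
    rintro _ ⟨s, rfl⟩
    exact ⟨l s, by rw [← Scheme.Hom.comp_apply, pullback.lift_snd]⟩
  have hm₁ : ∀ {Z : Scheme.{u}} (z : Z ⟶ P2) (a b : Z ⟶ XR), z ≫ a₀ = a → z ≫ b₀ = b →
      ∀ e : (a ≫ aR ≫ h) ≫ g = (b ≫ aR ≫ h) ≫ g,
      z ≫ m₁ = (D.φ _ _ e ⟨a ≫ σ, by rw [Category.assoc, hσ]⟩).1 := fun z a b ha hb e => by
    rw [phi_natural_val D z _ _ he₀]
    exact phi_congr'' D (by rw [← ha, Category.assoc]) (by rw [← hb, Category.assoc]) _ _ _ _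
      (by show z ≫ a₀ ≫ σ = a ≫ σ; rw [← ha, Category.assoc])
  have hRg : ∀ {Z : Scheme.{u}} (a b : Z ⟶ XR), a ≫ tR = b ≫ tR →
      (a ≫ aR ≫ h) ≫ g = (b ≫ aR ≫ h) ≫ g := fun a b e => by
    simp only [Category.assoc, ← ht]; rw [reassoc_of% e]
  let PP : P2 ⟶ pullback f f := pullback.map tR tR f f pR pR (𝟙 _) (by rw [Category.comp_id, hpRf])
    (by rw [Category.comp_id, hpRf])
  haveI : Flat PP := MorphismProperty.pullbackMap (P := @Flat) ‹_› ‹_› hpRf.symm hpRf.symm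
  haveI : LocallyOfFinitePresentation PP := MorphismProperty.pullbackMap (P := @LocallyOfFinitePresentation) ‹_› ‹_› hpRf.symm hpRf.symm
  haveI : Surjective PP := MorphismProperty.pullbackMap (P := @Surjective) ‹_› ‹_› hpRf.symm hpRf.symm
  have hPP₁ : PP ≫ pullback.fst f f = a₀ ≫ pR := pullback.lift_fst _ _ _
  have hPP₂ : PP ≫ pullback.snd f f = b₀ ≫ pR := pullback.lift_snd _ _ _
  have hsat : PP ⁻¹' (PP '' Set.range E) = Set.range E := by
    refine Set.Subset.antisymm ?_ (Set.subset_preimage_image _ _)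
    rintro z₁ ⟨z₀, hz₀, hz⟩
    obtain ⟨ω, hω₀, hω₁⟩ := Scheme.Pullback.exists_preimage_pullback (f := PP) (g := PP) z₀ z₁ hz
    let k := (pullback PP PP).fromSpecResidueField ω
    let k₀ := k ≫ pullback.fst PP PP
    let k₁ := k ≫ pullback.snd PP PP
    have hk : k₀ ≫ PP = k₁ ≫ PP := by simp only [k₀, k₁, Category.assoc, pullback.condition]
    have hr : Set.range k₀ ⊆ Set.range E := by
      rintro _ ⟨t, rfl⟩
      show pullback.fst PP PP (k t) ∈ Set.range E
      rw [Scheme.fromSpecResidueField_apply, hω₀]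
      exact hz₀
    have h₀ : k₀ ≫ m₁ = k₀ ≫ m₂ := by
      rw [← IsOpenImmersion.lift_fac E k₀ hr, Category.assoc, Category.assoc, hEeq]
    have hA : (k₀ ≫ a₀) ≫ pR = (k₁ ≫ a₀) ≫ pR := by
      exact (Category.assoc _ _ _).trans ((congrArg (k₀ ≫ ·) hPP₁.symm).trans (((reassoc_of% hk) _).trans ((congrArg (k₁ ≫ ·) hPP₁).trans (Category.assoc _ _ _).symm)))
    have hB : (k₀ ≫ b₀) ≫ pR = (k₁ ≫ b₀) ≫ pR := by
      exact (Category.assoc _ _ _).trans ((congrArg (k₀ ≫ ·) hPP₂.symm).trans (((reassoc_of% hk) _).trans ((congrArg (k₁ ≫ ·) hPP₂).trans (Category.assoc _ _ _).symm)))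
    have hP : ∀ k' : Spec ((pullback PP PP).residueField ω) ⟶ P2, (k' ≫ a₀) ≫ tR = (k' ≫ b₀) ≫ tR :=
      fun k' => by simp only [a₀, b₀, Category.assoc, pullback.condition]
    have hAt : (k₀ ≫ a₀) ≫ tR = (k₁ ≫ a₀) ≫ tR := by
      rw [← hpRf, ← Category.assoc, hA, Category.assoc]
    have hBt : (k₀ ≫ b₀) ≫ tR = (k₁ ≫ b₀) ≫ tR := by
      rw [← hpRf, ← Category.assoc, hB, Category.assoc]
    have e₀₀ := hRg _ _ (hP k₀)
    have e₁₁ := hRg _ _ (hP k₁)
    rw [hm₁ k₀ _ _ rfl rfl e₀₀] at h₀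
    have h₁ : k₁ ≫ m₁ = k₁ ≫ m₂ := by
      rw [hm₁ k₁ _ _ rfl rfl e₁₁, phi_trans_val D _ _ _ (hRg _ _ hAt) e₁₁ ⟨(k₀ ≫ a₀) ≫ σ, by rw [Category.assoc, hσ]⟩ _
          (hsame _ _ _ hA),
        ← phi_trans_val D _ _ _ e₀₀ (hRg _ _ hBt) ⟨(k₀ ≫ a₀) ≫ σ, by rw [Category.assoc, hσ]⟩
          ⟨(k₀ ≫ b₀) ≫ σ, by rw [Category.assoc, hσ]⟩ (h₀.trans (Category.assoc _ _ _).symm),
        hsame _ _ _ hB]
      exact Category.assoc _ _ _
    obtain ⟨pt⟩ : Nonempty (Spec ((pullback PP PP).residueField ω)) := inferInstance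
    have hp : k₁ pt = z₁ :=
      ((Scheme.Hom.comp_apply _ _ _).trans
        (congrArg (pullback.snd PP PP) (Scheme.fromSpecResidueField_apply ω pt))).trans hω₁
    exact hp ▸ hE k₁ h₁ ⟨pt, rfl⟩
  have hqm := isQuotientMap_of_univSubmersive (univSubmersive_of_universallyOpen PP)
  have hopen : IsOpen (PP '' Set.range E) :=
    hqm.isOpen_preimage.1 (hsat.symm ▸ E.isOpenEmbedding.isOpen_range)
  haveI : IsProper (pullback.fst f f ≫ f) := inferInstance
  have hall : (PP '' Set.range E)ᶜ = ∅ := by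
    refine eq_empty_of_closedFibre (pullback.fst f f ≫ f) hopen.isClosed_compl fun z hz hz' => hz ?_
    obtain ⟨w', rfl⟩ := PP.surjective z
    refine ⟨w', ?_, rfl⟩
    let k := P2.fromSpecResidueField w'
    obtain ⟨α, hα⟩ := exists_factor_closedPt ((k ≫ a₀) ≫ tR) fun pt => by
      have e : (k ≫ a₀) ≫ tR = k ≫ PP ≫ pullback.fst f f ≫ f := by
        rw [← Category.assoc PP, hPP₁, Category.assoc a₀, hpRf, Category.assoc]
      rw [e]
      exact (((Scheme.Hom.comp_apply _ _ _).trans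
        (congrArg (PP ≫ pullback.fst f f ≫ f) (Scheme.fromSpecResidueField_apply w' pt))).trans
          (Scheme.Hom.comp_apply _ _ _)).trans hz'
    let c := pullback.fst α ι
    let o := pullback.snd α ι
    have hc : c ≫ α = o ≫ ι := pullback.condition
    haveI : Surjective c := inferInstance
    have hta : ((c ≫ k) ≫ a₀) ≫ tR = o ≫ ι ≫ closedPt R := by
      rw [← reassoc_of% hc, Category.assoc, Category.assoc, hα, Category.assoc k]
    have htab : ((c ≫ k) ≫ a₀) ≫ tR = ((c ≫ k) ≫ b₀) ≫ tR := by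
      simp only [a₀, b₀, Category.assoc, pullback.condition]
    have hoe : ∀ a' : pullback α ι ⟶ XR, a' ≫ tR = o ≫ ι ≫ closedPt R →
        (o ≫ x) ≫ g = (a' ≫ aR ≫ h) ≫ g := fun a' e => by
      simp only [Category.assoc, ← ht]
      rw [hx, reassoc_of% e]
      simp only [Category.assoc]
    have hA := hclosed _ o (hoe _ hta) hta
    have hB := hclosed _ o (hoe _ (htab.symm.trans hta)) (htab.symm.trans hta)
    have heq : (c ≫ k) ≫ m₁ = (c ≫ k) ≫ m₂ := by
      rw [hm₁ (c ≫ k) _ _ rfl rfl (hRg _ _ htab), phi_trans_val D _ _ _ (hoe _ hta) (hRg _ _ htab)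
        ⟨o ≫ v.1, by rw [Category.assoc, v.2]⟩ _ hA, hB]
      exact Category.assoc _ _ _
    obtain ⟨pt⟩ : Nonempty (Spec (P2.residueField w')) := inferInstance
    obtain ⟨pt', hpt'⟩ := c.surjective pt
    have hp : (c ≫ k) pt' = w' :=
      (Scheme.Hom.comp_apply _ _ _).trans ((congrArg k hpt').trans (Scheme.fromSpecResidueField_apply w' pt))
    exact hp ▸ hE _ heq ⟨pt', rfl⟩
  haveI : Surjective E := ⟨fun z => by
    have : z ∈ PP ⁻¹' (PP '' Set.range E) := by
      rw [Set.mem_preimage, Set.compl_empty_iff.1 hall]; trivial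
    rw [hsat] at this
    exact this⟩
  haveI : IsIso E := (isIso_iff_isOpenImmersion_and_surjective E).mpr ⟨inferInstance, inferInstance⟩
  have hmm : m₁ = m₂ := (cancel_epi E).1 hEeq
  have := congrArg (pullback.lift a b hab ≫ ·) hmm
  rw [hm₁ _ a b (pullback.lift_fst _ _ _) (pullback.lift_snd _ _ _) e] at this
  exact this.trans (by rw [← Category.assoc, pullback.lift_snd])

end Groth.Agent.H15Subtr
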