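import Groth.Agent.H15Subtr.EtLocal
import Groth.Agent.H15Subtr.EtColim
import Groth.Agent.H15Subtr.EtExtend
import Groth.Agent.H18Et.UHomeoLift
import Groth.Agent.H7Lim.Basic
import Groth.Agent.H7Lim.GeomConnFinite
import Mathlib.AlgebraicGeometry.AlgClosed.Basic

/-!
# Charts of an étale datum near a point

For a morphism with a refinement by a flat cover of a proper surjective morphism, every point of a separated
étale datum lies in the image of a morphism from the canonical datum of an étale scheme over the base.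
-/

set_option autoImplicit false
set_option linter.style.haveILetI false
set_option backward.isDefEq.respectTransparency false

universe u

open CategoryTheory CategoryTheory.Limits AlgebraicGeometry Opposite

namespace Groth.Agent.H15Subtr

open H9Hens H13Desc.Eff

attribute [local instance] PtEtale.isFiltered

variable {S' S X Y : Scheme.{u}} {g : S' ⟶ S} (D : Desc.SchDD g) (h : X ⟶ S') (p : X ⟶ Y) (q : Y ⟶ S)

/-- A datum of points on a stage, compatible with the gluing. -/
def CompatStage {W : Scheme.{u}} (t : W ⟶ S) (σ : pullback (h ≫ g) t ⟶ D.obj.left)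
    (hσ : σ ≫ D.obj.hom = pullback.fst (h ≫ g) t ≫ h) : Prop :=
  ∀ ⦃T : Scheme.{u}⦄ (a b : T ⟶ pullback (h ≫ g) t)
    (e : (a ≫ pullback.fst (h ≫ g) t ≫ h) ≫ g = (b ≫ pullback.fst (h ≫ g) t ≫ h) ≫ g),
    a ≫ pullback.snd (h ≫ g) t = b ≫ pullback.snd (h ≫ g) t →
    (D.φ _ _ e ⟨a ≫ σ, by rw [Category.assoc, hσ]⟩).1 = b ≫ σ

variable (w : h ≫ g = p ≫ q) [Etale D.obj.hom] [IsSeparated D.obj.hom] [Flat p] [Surjective p]
  [LocallyOfFinitePresentation p] [QuasiCompact p] [IsSeparated p] [IsProper q] [Surjective q]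

include w in
theorem compat_stage_of_limit {A : Type u} [CommRing A] (ι₀ : Spec (CommRingCat.of A) ⟶ S) [IsOpenImmersion ι₀]
    {k : Type u} [CommRing k] [Algebra A k] {H : Type u} [CommRing H] [Algebra A H] {π : H →ₐ[A] k}
    (hH : IsPtColim π) (σ : pullback (h ≫ g) (Spec.map (CommRingCat.ofHom (algebraMap A H)) ≫ ι₀) ⟶ D.obj.left)
    (hσ : σ ≫ D.obj.hom = pullback.fst _ _ ≫ h)
    (hc : CompatStage D h (Spec.map (CommRingCat.ofHom (algebraMap A H)) ≫ ι₀) σ hσ) :
    ∃ (j : (PtEtale A k)ᵒᵖ) (σj : pullback (h ≫ g) (stageHom j.unop ≫ ι₀) ⟶ D.obj.left)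
      (hσj : σj ≫ D.obj.hom = pullback.fst _ _ ≫ h),
      CompatStage D h (stageHom j.unop ≫ ι₀) σj hσj ∧
      pullback.map (h ≫ g) (Spec.map (CommRingCat.ofHom (algebraMap A H)) ≫ ι₀) (h ≫ g) (stageHom j.unop ≫ ι₀)
        (𝟙 X) ((specCone hH).π.app j) (𝟙 S) (by simp)
        (by rw [Category.comp_id]; exact ((congrArg (· ≫ ι₀) (specCone_stageHom hH j)).symm).trans (Category.assoc _ _ _))
        ≫ σj = σ := by
  let D₀ := specDiag A k
  let t : ∀ j : (PtEtale A k)ᵒᵖ, D₀.obj j ⟶ S := fun j => stageHom j.unop ≫ ι₀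
  have ht : ∀ {i j : (PtEtale A k)ᵒᵖ} (f : i ⟶ j), D₀.map f ≫ t j = t i := fun f => by
    rw [← Category.assoc, stageHom_naturality]
  let r := Spec.map (CommRingCat.ofHom (algebraMap A H)) ≫ ι₀
  have hr : ∀ j, (specCone hH).π.app j ≫ t j = r := fun j =>
    (Category.assoc _ _ _).symm.trans (congrArg (· ≫ ι₀) (specCone_stageHom hH j))
  haveI : ∀ {i j : (PtEtale A k)ᵒᵖ} (f : i ⟶ j), IsAffineHom (D₀.map f) := fun f =>
    inferInstanceAs (IsAffineHom (Spec.map _))
  haveI : ∀ i, CompactSpace ↥(D₀.obj i) := fun i => inferInstanceAs (CompactSpace (PrimeSpectrum i.unop.ring))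
  haveI : ∀ i, QuasiSeparatedSpace ↥(D₀.obj i) := fun i => inferInstanceAs (QuasiSeparatedSpace ↥(Spec (CommRingCat.of i.unop.ring)))
  obtain ⟨i₀⟩ : Nonempty (PtEtale A k)ᵒᵖ := ⟨op (PtEtale.nonempty (A := A) (k := k)).some⟩
  haveI : IsSeparated (h ≫ g) := by rw [w]; infer_instance
  haveI : QuasiCompact (h ≫ g) := by rw [w]; infer_instance
  let a₀ := pullback.snd (h ≫ g) (t i₀)
  haveI : CompactSpace ↥(pullback (h ≫ g) (t i₀)) :=
    @QuasiCompact.compactSpace_of_compactSpace _ (D₀.obj i₀) a₀ inferInstance inferInstance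
  haveI : QuasiSeparatedSpace ↥(pullback (h ≫ g) (t i₀)) :=
    @quasiSeparatedSpace_of_quasiSeparated _ (D₀.obj i₀) a₀ inferInstance inferInstance
  let E := H7Lim.pbDiagram D₀ i₀ a₀
  haveI : ∀ {i j : Over i₀} (f : i ⟶ j), IsAffineHom (E.map f) := fun f =>
    H7Lim.isAffineHom_pbDiagram_map D₀ i₀ a₀ _ _ f
  haveI : ∀ j : Over i₀, CompactSpace ↥(E.obj j) := fun j => H7Lim.compactSpace_pbDiagram_obj D₀ i₀ a₀ j
  haveI : ∀ j : Over i₀, QuasiSeparatedSpace ↥(E.obj j) := fun j =>
    H7Lim.quasiSeparatedSpace_pbDiagram_obj D₀ i₀ a₀ j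
  -- stage and limit pullbacks
  have hstage : ∀ j : Over i₀, IsPullback (pullback.fst a₀ (D₀.map j.hom) ≫ pullback.fst (h ≫ g) (t i₀))
      (pullback.snd a₀ (D₀.map j.hom)) (h ≫ g) (t j.left) := fun j => by
    rw [← ht j.hom]
    exact (IsPullback.of_hasPullback a₀ (D₀.map j.hom)).paste_horiz (IsPullback.of_hasPullback (h ≫ g) (t i₀))
  have hlim : IsPullback (pullback.fst a₀ ((specCone hH).π.app i₀) ≫ pullback.fst (h ≫ g) (t i₀))
      (pullback.snd a₀ ((specCone hH).π.app i₀)) (h ≫ g) r := by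
    rw [← hr i₀]
    exact (IsPullback.of_hasPullback a₀ ((specCone hH).π.app i₀)).paste_horiz
      (IsPullback.of_hasPullback (h ≫ g) (t i₀))
  let el := hlim.isoPullback
  let tt : E ⟶ (Functor.const (Over i₀)).obj S' :=
    { app := fun j => pullback.fst a₀ (D₀.map j.hom) ≫ pullback.fst (h ≫ g) (t i₀) ≫ h
      naturality := fun i j f => by simp [E] }
  obtain ⟨j, σ', hσ'₁, hσ'₂⟩ := Scheme.exists_π_app_comp_eq_of_locallyOfFinitePresentation E tt D.obj.hom
    (H7Lim.pbCone D₀ (specCone hH) i₀ a₀) (H7Lim.isLimitPbCone D₀ i₀ a₀ (isLimitSpecCone hH))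
    (el.hom ≫ σ) (by
      ext j
      simp only [NatTrans.comp_app, Functor.const_map_app, Category.assoc, hσ, tt, H7Lim.pbCone_π_app,
        pullback.lift_fst_assoc, Category.comp_id]
      exact ((reassoc_of% hlim.isoPullback_hom_fst) h).symm)
  -- the stage datum
  let ej := (hstage j).isoPullback
  let σ₁ : pullback (h ≫ g) (t j.left) ⟶ D.obj.left := ej.inv ≫ σ'
  have hσ₁ : σ₁ ≫ D.obj.hom = pullback.fst (h ≫ g) (t j.left) ≫ h := by
    rw [Category.assoc, hσ'₂]
    exact (congrArg (ej.inv ≫ ·) (Category.assoc _ _ _).symm).trans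
      ((reassoc_of% (hstage j).isoPullback_inv_fst) h)
  let mapTo : ∀ {i : (PtEtale A k)ᵒᵖ} (c : D₀.obj i ⟶ D₀.obj j.left), c ≫ t j.left = t i →
      (pullback (h ≫ g) (t i) ⟶ pullback (h ≫ g) (t j.left)) := fun c hc' =>
    pullback.lift (pullback.fst _ _) (pullback.snd _ _ ≫ c) (by rw [Category.assoc, hc', pullback.condition])
  let πj : pullback (h ≫ g) r ⟶ pullback (h ≫ g) (t j.left) :=
    pullback.lift (pullback.fst _ _) (pullback.snd _ _ ≫ (specCone hH).π.app j.left)
      (by rw [Category.assoc, hr, pullback.condition])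
  have hπj : πj ≫ σ₁ = σ := by
    have h1 : el.inv ≫ (H7Lim.pbCone D₀ (specCone hH) i₀ a₀).π.app j ≫ ej.hom = πj := by
      apply pullback.hom_ext
      · simp only [Category.assoc, IsPullback.isoPullback_hom_fst, H7Lim.pbCone_π_app, pullback.lift_fst_assoc,
          pullback.lift_fst, πj, ej, Category.comp_id, el]
        exact hlim.isoPullback_inv_fst
      · simp only [Category.assoc, IsPullback.isoPullback_hom_snd, H7Lim.pbCone_π_app, pullback.lift_snd,
          πj, ej, el, IsPullback.isoPullback_inv_snd_assoc]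
    rw [← h1]
    simp only [σ₁, Category.assoc, Iso.hom_inv_id_assoc]
    rw [hσ'₁, Iso.inv_hom_id_assoc]
  -- pairs
  let tX := pullback.snd (h ≫ g) (t j.left)
  let T₂ := pullback tX tX
  let a₂ : T₂ ⟶ D₀.obj j.left := pullback.fst tX tX ≫ tX
  haveI : CompactSpace ↥(pullback (h ≫ g) (t j.left)) :=
    @QuasiCompact.compactSpace_of_compactSpace _ (D₀.obj j.left) tX inferInstance inferInstance
  haveI : IsSeparated tX := inferInstance
  haveI : QuasiCompact tX := inferInstance
  haveI : CompactSpace ↥T₂ := QuasiCompact.compactSpace_of_compactSpace (pullback.fst tX tX)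
  haveI : QuasiSeparatedSpace ↥T₂ :=
    @quasiSeparatedSpace_of_quasiSeparated _ (D₀.obj j.left) a₂ inferInstance inferInstance
  let E₂ := H7Lim.pbDiagram D₀ j.left a₂
  haveI : ∀ {i l : Over j.left} (f : i ⟶ l), IsAffineHom (E₂.map f) := fun f =>
    H7Lim.isAffineHom_pbDiagram_map D₀ j.left a₂ _ _ f
  haveI : ∀ l : Over j.left, CompactSpace ↥(E₂.obj l) := fun l => H7Lim.compactSpace_pbDiagram_obj D₀ j.left a₂ l
  haveI : ∀ l : Over j.left, QuasiSeparatedSpace ↥(E₂.obj l) := fun l =>
    H7Lim.quasiSeparatedSpace_pbDiagram_obj D₀ j.left a₂ l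
  have he : (pullback.fst tX tX ≫ pullback.fst (h ≫ g) (t j.left) ≫ h) ≫ g =
      (pullback.snd tX tX ≫ pullback.fst (h ≫ g) (t j.left) ≫ h) ≫ g := by
    simp only [Category.assoc, pullback.condition (f := h ≫ g) (g := t j.left)]
    rw [reassoc_of% (pullback.condition (f := tX) (g := tX))]
  let m₁ := (D.φ _ _ he ⟨pullback.fst tX tX ≫ σ₁, by rw [Category.assoc, hσ₁]⟩).1
  let m₂ := pullback.snd tX tX ≫ σ₁
  let t₂ : E₂ ⟶ (Functor.const (Over j.left)).obj S' :=
    { app := fun l => pullback.fst a₂ (D₀.map l.hom) ≫ pullback.snd tX tX ≫ pullback.fst (h ≫ g) (t j.left) ≫ h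
      naturality := fun i l f => by simp [E₂] }
  let top : Over j.left := Over.mk (𝟙 j.left)
  have hmval : ∀ {Z : Scheme.{u}} (z : Z ⟶ T₂) (a b : Z ⟶ pullback (h ≫ g) (t j.left)),
      z ≫ pullback.fst tX tX = a → z ≫ pullback.snd tX tX = b →
      ∀ e : (a ≫ pullback.fst (h ≫ g) (t j.left) ≫ h) ≫ g = (b ≫ pullback.fst (h ≫ g) (t j.left) ≫ h) ≫ g,
      z ≫ m₁ = (D.φ _ _ e ⟨a ≫ σ₁, by rw [Category.assoc, hσ₁]⟩).1 := fun z a b ha hb e => by
    rw [phi_natural_val D z _ _ he]
    exact phi_congr'' D (by rw [← ha, Category.assoc]) (by rw [← hb, Category.assoc]) _ _ _ _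
      (by show z ≫ pullback.fst tX tX ≫ σ₁ = a ≫ σ₁; rw [← ha, Category.assoc])
  obtain ⟨l, f, hl⟩ := Scheme.exists_hom_comp_eq_comp_of_locallyOfFiniteType E₂ t₂ D.obj.hom
    (H7Lim.pbCone D₀ (specCone hH) j.left a₂) (H7Lim.isLimitPbCone D₀ j.left a₂ (isLimitSpecCone hH))
    (i := top) (pullback.fst a₂ (D₀.map top.hom) ≫ m₁) (pullback.fst a₂ (D₀.map top.hom) ≫ m₂)
    (by rw [Category.assoc]; exact congrArg (pullback.fst a₂ _ ≫ ·) (D.φ _ _ he _).2.symm)
    (by rw [Category.assoc, Category.assoc, hσ₁])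
    (by
      have hproj : (H7Lim.pbCone D₀ (specCone hH) j.left a₂).π.app top ≫ pullback.fst a₂ (D₀.map top.hom) =
          pullback.fst a₂ ((specCone hH).π.app j.left) := by
        simp [H7Lim.pbCone_π_app]
      refine (Category.assoc _ _ _).symm.trans (Eq.trans ?_ (Category.assoc _ _ _))
      rw [hproj]
      let z := pullback.fst a₂ ((specCone hH).π.app j.left)
      let s := pullback.snd a₂ ((specCone hH).π.app j.left)
      have hz : z ≫ a₂ = s ≫ (specCone hH).π.app j.left := pullback.condition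
      have hr₁ : ((z ≫ pullback.fst tX tX) ≫ pullback.fst (h ≫ g) (t j.left)) ≫ h ≫ g = s ≫ r := by
        rw [← hr j.left, ← reassoc_of% hz]
        simp only [a₂, tX, Category.assoc, pullback.condition (f := h ≫ g) (g := t j.left)]
      have hr₂ : ((z ≫ pullback.snd tX tX) ≫ pullback.fst (h ≫ g) (t j.left)) ≫ h ≫ g = s ≫ r := by
        rw [← hr₁]
        simp only [Category.assoc, pullback.condition (f := h ≫ g) (g := t j.left)]
        rw [reassoc_of% (pullback.condition (f := tX) (g := tX))]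
      let a := pullback.lift ((z ≫ pullback.fst tX tX) ≫ pullback.fst (h ≫ g) (t j.left)) s hr₁
      let b := pullback.lift ((z ≫ pullback.snd tX tX) ≫ pullback.fst (h ≫ g) (t j.left)) s hr₂
      have ha : a ≫ πj = z ≫ pullback.fst tX tX := by
        apply pullback.hom_ext
        · simp [a, πj]
        · simp only [a, πj, Category.assoc, pullback.lift_snd, pullback.lift_snd_assoc]
          exact hz.symm.trans (by simp only [a₂, tX, Category.assoc])
      have hb : b ≫ πj = z ≫ pullback.snd tX tX := by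
        apply pullback.hom_ext
        · simp [b, πj]
        · simp only [b, πj, Category.assoc, pullback.lift_snd, pullback.lift_snd_assoc]
          refine hz.symm.trans ?_
          exact congrArg (z ≫ ·) pullback.condition
      have e : (a ≫ pullback.fst (h ≫ g) r ≫ h) ≫ g = (b ≫ pullback.fst (h ≫ g) r ≫ h) ≫ g := by
        simp only [a, b, Category.assoc, pullback.lift_fst_assoc]
        simpa only [Category.assoc] using hr₁.trans hr₂.symm
      have hfa : a ≫ pullback.fst (h ≫ g) r = (z ≫ pullback.fst tX tX) ≫ pullback.fst (h ≫ g) (t j.left) :=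
        pullback.lift_fst _ _ _
      have hfb : b ≫ pullback.fst (h ≫ g) r = (z ≫ pullback.snd tX tX) ≫ pullback.fst (h ≫ g) (t j.left) :=
        pullback.lift_fst _ _ _
      have e' : ((z ≫ pullback.fst tX tX) ≫ pullback.fst (h ≫ g) (t j.left) ≫ h) ≫ g =
          ((z ≫ pullback.snd tX tX) ≫ pullback.fst (h ≫ g) (t j.left) ≫ h) ≫ g := by
        simpa only [Category.assoc, reassoc_of% hfa, reassoc_of% hfb] using e
      rw [hmval z _ _ rfl rfl e']
      refine Eq.trans ?_ ((hc a b e ((pullback.lift_snd _ _ _).trans (pullback.lift_snd _ _ _).symm)).trans ((congrArg (b ≫ ·) hπj.symm).trans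
        ((Category.assoc _ _ _).symm.trans ((congrArg (· ≫ σ₁) hb).trans (Category.assoc _ _ _)))))
      exact phi_congr'' D (by rw [← Category.assoc a, hfa]; simp only [Category.assoc])
        (by rw [← Category.assoc b, hfb]; simp only [Category.assoc])
        _ _ _ _ (by
          show (z ≫ pullback.fst tX tX) ≫ σ₁ = a ≫ σ
          rw [← ha, Category.assoc, hπj]))
  have hf : f.left = l.hom := by simpa [top] using Over.w f
  have hlw : D₀.map l.hom ≫ t j.left = t l.left := ht l.hom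
  let c := mapTo (D₀.map l.hom) hlw
  refine ⟨l.left, c ≫ σ₁, by rw [Category.assoc, hσ₁, pullback.lift_fst_assoc], fun T a b e hab => ?_, ?_⟩
  · have h2 : (a ≫ c) ≫ tX = (b ≫ c) ≫ tX := by
      simp only [c, mapTo, tX, Category.assoc, pullback.lift_snd]
      rw [reassoc_of% hab]
    let z : T ⟶ E₂.obj l := pullback.lift (pullback.lift (a ≫ c) (b ≫ c) h2) (a ≫ pullback.snd (h ≫ g) (t l.left)) (by
      simp only [a₂, c, mapTo, tX, Category.assoc, pullback.lift_fst_assoc, pullback.lift_snd])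
    have hmap : E₂.map f ≫ pullback.fst a₂ (D₀.map top.hom) = pullback.fst a₂ (D₀.map l.hom) := by
      simp [E₂]
    have hlz := congrArg (z ≫ ·) hl
    simp only [reassoc_of% hmap] at hlz
    rw [pullback.lift_fst_assoc, pullback.lift_fst_assoc] at hlz
    have hfa : c ≫ pullback.fst (h ≫ g) (t j.left) = pullback.fst (h ≫ g) (t l.left) := pullback.lift_fst _ _ _
    have e' : ((a ≫ c) ≫ pullback.fst (h ≫ g) (t j.left) ≫ h) ≫ g =
        ((b ≫ c) ≫ pullback.fst (h ≫ g) (t j.left) ≫ h) ≫ g := by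
      simpa only [Category.assoc, reassoc_of% hfa] using e
    rw [hmval _ (a ≫ c) (b ≫ c) (pullback.lift_fst _ _ _) (pullback.lift_snd _ _ _) e', pullback.lift_snd_assoc] at hlz
    refine Eq.trans ?_ (hlz.trans (Category.assoc _ _ _))
    exact phi_congr'' D (by rw [Category.assoc a c, reassoc_of% hfa])
      (by rw [Category.assoc b c, reassoc_of% hfa]) _ _ _ _ (Category.assoc _ _ _).symm
  · rw [← Category.assoc]
    have : pullback.map (h ≫ g) r (h ≫ g) (t l.left) (𝟙 X) ((specCone hH).π.app l.left) (𝟙 S) (by simp)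
        (by rw [Category.comp_id, hr]) ≫ c = πj := by
      apply pullback.hom_ext
      · simp [c, mapTo, πj]
      · simp only [c, mapTo, πj, Category.assoc, pullback.lift_snd, pullback.lift_snd_assoc]
        exact congrArg (pullback.snd (h ≫ g) r ≫ ·) ((specCone hH).w l.hom)
    rw [this, hπj]

end Groth.Agent.H15Subtr
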