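import Groth.Agent.H15Subtr.EtQC

/-!
# Charts of étale data along universally open surjective morphisms
-/

set_option autoImplicit false
set_option linter.style.haveILetI false
set_option backward.isDefEq.respectTransparency false

universe u

open CategoryTheory CategoryTheory.Limits AlgebraicGeometry

namespace Groth.Agent.H15Subtr

open H13Desc.Eff

variable {S' S : Scheme.{u}} {g : S' ⟶ S}

/-- A separated étale datum along a universally open surjective morphism to a quasi-separated scheme has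
charts. -/
theorem hasCharts_univOpen [QuasiSeparatedSpace S] [UniversallyOpen g] (D : Desc.SchDD g)
    [IsSeparated D.obj.hom] [Etale D.obj.hom] : HasCharts D := by
  intro u
  obtain ⟨V', hV', huV', -⟩ := exists_isAffineOpen_mem_and_subset (U := (⊤ : S'.Opens))
    (x := D.obj.hom u) trivial
  haveI : IsAffine (V' : Scheme.{u}) := hV'
  let a : (V' : Scheme.{u}) ⟶ S := V'.ι ≫ g
  haveI : UniversallyOpen a := inferInstanceAs (UniversallyOpen (V'.ι ≫ g))
  haveI : QuasiCompact a := quasiCompact_of_compactSpace a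
  let A : S.Opens := ⟨Set.range a, a.isOpenMap.isOpen_range⟩
  have hsA : g (D.obj.hom u) ∈ A := ⟨⟨_, huV'⟩, Scheme.Hom.comp_apply _ _ _⟩
  obtain ⟨V₁, hV₁, hsV₁, hV₁A⟩ := exists_isAffineOpen_mem_and_subset (U := A) (x := g (D.obj.hom u)) hsA
  haveI : IsAffine (V₁ : Scheme.{u}) := hV₁
  let h : pullback a V₁.ι ⟶ S' := pullback.fst a V₁.ι ≫ V'.ι
  let p : pullback a V₁.ι ⟶ (V₁ : Scheme.{u}) := pullback.snd a V₁.ι
  have w : h ≫ g = p ≫ V₁.ι := by
    show (pullback.fst a V₁.ι ≫ V'.ι) ≫ g = _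
    rw [Category.assoc]
    exact pullback.condition
  haveI : UniversallyOpen p := MorphismProperty.pullback_snd _ _ ‹_›
  haveI : QuasiCompact p := MorphismProperty.pullback_snd _ _ ‹_›
  haveI : Surjective p := ⟨fun v => by
    obtain ⟨y, hy⟩ := hV₁A v.2
    obtain ⟨z, -, hz⟩ := Scheme.Pullback.exists_preimage_pullback (f := a) (g := V₁.ι) y v hy
    exact ⟨z, hz⟩⟩
  haveI : IsOpenImmersion (pullback.fst a V₁.ι) := MorphismProperty.pullback_fst _ _ inferInstance
  haveI : QuasiSeparatedSpace ↥(pullback a V₁.ι) :=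
    quasiSeparatedSpace_of_quasiSeparated (pullback.fst a V₁.ι)
  let D₀ := pullRef D h p V₁.ι w
  haveI : Etale D₀.obj.hom := inferInstanceAs (Etale (pullback.snd D.obj.hom h))
  haveI : IsSeparated D₀.obj.hom := inferInstanceAs (IsSeparated (pullback.snd D.obj.hom h))
  obtain ⟨x, hx, -⟩ := Scheme.Pullback.exists_preimage_pullback (f := a) (g := V₁.ι) ⟨_, huV'⟩ ⟨_, hsV₁⟩
    (Scheme.Hom.comp_apply _ _ _)
  obtain ⟨u₀, hu₀, -⟩ := Scheme.Pullback.exists_preimage_pullback (f := D.obj.hom) (g := h) u x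
    ((Scheme.Hom.comp_apply (pullback.fst a V₁.ι) V'.ι x).trans (congrArg V'.ι hx)).symm
  obtain ⟨U₀, hU₀, hu₀U, -⟩ := exists_isAffineOpen_mem_and_subset (U := (⊤ : D₀.obj.left.Opens))
    (x := u₀) trivial
  let O := satOpen D₀ U₀
  have hO : Saturated D₀ O := saturated_satOpen (D := D₀) U₀
  haveI : CompactSpace O.toScheme := isCompact_iff_compactSpace.1 (isCompact_satOpen hU₀.isCompact)
  haveI : Etale (restrict hO).obj.hom := inferInstanceAs (Etale (O.ι ≫ D₀.obj.hom))
  haveI : IsSeparated (restrict hO).obj.hom := inferInstanceAs (IsSeparated (O.ι ≫ D₀.obj.hom))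
  haveI : QuasiCompact (restrict hO).obj.hom := quasiCompact_of_compactSpace (O.ι ≫ D₀.obj.hom)
  obtain ⟨W₁, f₁, hW₁, hf₁⟩ := hasCharts_qc (univSS_of_universallyOpen p) (restrict hO)
    (⟨u₀, le_satOpen (D := D₀) U₀ hu₀U⟩ : O.toScheme)
  obtain ⟨W₂, f₂, hW₂, hf₂⟩ := exists_chart_of_restrict hO f₁ _ hf₁
  obtain ⟨W, f, hW, hf⟩ := exists_chart_of_ref D h p V₁.ι w (univSubmersive_of_universallyOpen p) f₂ u₀ hf₂
  exact ⟨W, f, hW, hu₀ ▸ hf⟩

end Groth.Agent.H15Subtr
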