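import Groth.Agent.H7Lim.MaximalPoints
import Groth.Agent.H8Props.FlatLocus.Scheme
import Groth.Agent.H12AlgSp.Residual
import Groth.Agent.H17.QcImage

/-!
# Flatness over a quasi-compact open containing all maximal points of a reduced base
-/

set_option autoImplicit false
set_option linter.style.haveILetI false
set_option backward.isDefEq.respectTransparency false

universe u

open CategoryTheory CategoryTheory.Limits AlgebraicGeometry TopologicalSpace

namespace Groth.Agent.H15Subtr

/-- Over a reduced base with quasi-compact set of maximal points a morphism of finite presentation is flat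
over a quasi-compact open containing all maximal points. -/
theorem exists_flat_open_maxPoints {X Y : Scheme.{u}} [IsReduced Y]
    (hgen : IsCompact {y : Y | ∀ y' : Y, y' ⤳ y → y' = y})
    (f : X ⟶ Y) [LocallyOfFinitePresentation f] [QuasiCompact f] :
    ∃ U : Y.Opens, (∀ y : Y, (∀ y' : Y, y' ⤳ y → y' = y) → y ∈ (U : Set Y)) ∧ IsCompact (U : Set Y) ∧
      Flat (f ∣_ U) := by
  let Z : Closeds X := ⟨{x | (f.stalkMap x).hom.Flat}ᶜ,
    (Groth.Agent.H8Props.FlatLocus.isOpen_setOf_flat_stalkMap f).isClosed_compl⟩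
  let g := (Scheme.IdealSheafData.vanishingIdeal Z).subschemeι ≫ f
  have hrg : Set.range g = f '' {x | (f.stalkMap x).hom.Flat}ᶜ := by
    rw [Scheme.Hom.comp_base, TopCat.coe_comp, Set.range_comp, Scheme.IdealSheafData.range_subschemeι,
      Scheme.IdealSheafData.coe_support_vanishingIdeal]
    rfl
  let O : Y.Opens := ⟨(closure (Set.range g))ᶜ, isClosed_closure.isOpen_compl⟩
  have hmax : ∀ y : Y, (∀ y' : Y, y' ⤳ y → y' = y) → y ∈ O := by
    intro y hy hcl
    obtain ⟨z, hz⟩ := Groth.Agent.H17.exists_specializes_of_mem_closure_range g hcl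
    have hzr : y ∈ f '' {x | (f.stalkMap x).hom.Flat}ᶜ := hrg ▸ ⟨z, hy _ hz⟩
    obtain ⟨x, hx, rfl⟩ := hzr
    refine hx ?_
    letI := (Groth.Agent.H12AlgSp.Residual.isField_stalk_of_reduced (f x) hy).toField
    algebraize [(f.stalkMap x).hom]
    exact (inferInstance : Module.Flat (Y.presheaf.stalk (f x)) (X.presheaf.stalk x))
  have hA : ∀ y : Y, y ∈ O → ∃ A : Y.affineOpens, y ∈ A.1 ∧ A.1 ≤ O := fun y hy => by
    obtain ⟨A, hA, hyA, hAO⟩ := exists_isAffineOpen_mem_and_subset (U := O) hy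
    exact ⟨⟨A, hA⟩, hyA, hAO⟩
  choose A hyA hAO using hA
  obtain ⟨t, ht⟩ := hgen.elim_finite_subcover (fun y : O => ((A y.1 y.2).1 : Set Y)) (fun y => (A y.1 y.2).1.2)
    fun y hy => Set.mem_iUnion.2 ⟨⟨y, hmax y hy⟩, hyA _ _⟩
  let U : Y.Opens := ⨆ y ∈ t, (A y.1 y.2).1
  have hU : (U : Set Y) = ⋃ y ∈ t, ((A y.1 y.2).1 : Set Y) := by simp [U]
  have hUO : U ≤ O := iSup₂_le fun y _ => hAO _ _
  refine ⟨U, fun y hy => hU ▸ ht hy, ?_, ?_⟩
  · rw [hU]
    exact t.isCompact_biUnion fun y _ => (A y.1 y.2).2.isCompact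
  · refine (Flat.iff_flat_stalkMap _).2 fun x => ?_
    refine (RingHom.Flat.respectsIso.arrow_mk_iso_iff (morphismRestrictStalkMap f U x)).2 ?_
    by_contra hx
    exact hUO x.2 (subset_closure (hrg.ge ⟨x.1, hx, rfl⟩))

end Groth.Agent.H15Subtr
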