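import Groth.Agent.H18Subtr.Basic
import Groth.Agent.H7Lim.Basic
import Groth.Agent.H7Lim.Points
import Mathlib.AlgebraicGeometry.PullbackCarrier

/-!
# Lifting of ordered pairs of points passes to limits
-/

set_option autoImplicit false
set_option linter.style.haveILetI false
set_option backward.isDefEq.respectTransparency false

universe u

open CategoryTheory CategoryTheory.Limits AlgebraicGeometry

namespace Groth.Agent.H15Subtr

theorem exists_of_isPullback {P X Y Z : Scheme.{u}} {p : P ⟶ X} {q : P ⟶ Y} {f : X ⟶ Z} {g : Y ⟶ Z}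
    (h : IsPullback p q f g) (x : X) (y : Y) (e : f x = g y) : ∃ z : P, p z = x ∧ q z = y := by
  obtain ⟨z, hz, hz'⟩ := Scheme.Pullback.exists_preimage_pullback x y e
  refine ⟨h.isoPullback.inv z, ?_, ?_⟩
  · rw [← Scheme.Hom.comp_apply, h.isoPullback_inv_fst, hz]
  · rw [← Scheme.Hom.comp_apply, h.isoPullback_inv_snd, hz']

variable {I : Type u} [SmallCategory I] [IsCofiltered I] (D : I ⥤ Scheme.{u}) (c : Cone D) (hc : IsLimit c)
  [∀ (i j : I) (a : i ⟶ j), IsAffineHom (D.map a)] (i₀ : I)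
  {X₀ Y₀ : Scheme.{u}} (f₀ : X₀ ⟶ Y₀) (g₀ : Y₀ ⟶ D.obj i₀)

include hc in
theorem isSSubtrusive_of_stages [QuasiCompact f₀] {i₁ : I} (ψ : i₁ ⟶ i₀)
    (hstage : ∀ (i : I) (φ : i ⟶ i₁),
      Subtr.IsSSubtrusive (pullback.snd f₀ (pullback.fst g₀ (D.map (φ ≫ ψ))))) :
    Subtr.IsSSubtrusive (pullback.snd f₀ (pullback.fst g₀ (c.π.app i₀))) := by
  intro y y' hy
  let qY := pullback.fst g₀ (c.π.app i₀)
  let fX := pullback.snd f₀ qY
  let rY : ∀ a : Over i₁, pullback g₀ (c.π.app i₀) ⟶ pullback g₀ (D.map (a.hom ≫ ψ)) := fun a =>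
    pullback.map _ _ _ _ (𝟙 Y₀) (c.π.app a.left) (𝟙 _) (by simp) (by simp)
  let rX : ∀ a : Over i₁, pullback f₀ qY ⟶ pullback f₀ (pullback.fst g₀ (D.map (a.hom ≫ ψ))) := fun a =>
    pullback.map _ _ _ _ (𝟙 X₀) (rY a) (𝟙 _) (by simp) (by simp [rY, qY])
  let fi := fun a : Over i₁ => pullback.snd f₀ (pullback.fst g₀ (D.map (a.hom ≫ ψ)))
  have hsq : ∀ a, IsPullback (rX a) fX (fi a) (rY a) := fun a => by
    refine IsPullback.of_right (h₁₂ := pullback.fst f₀ _) (h₂₂ := pullback.fst g₀ _) (v₁₃ := f₀) ?_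
      (by simp [rX, fX, fi]) (IsPullback.of_hasPullback _ _)
    simpa [rX, rY, qY] using IsPullback.of_hasPullback f₀ qY
  -- points of the fibre of `y` lying in the closures of the fibres of the stages
  let C : Over i₁ → Set (pullback f₀ qY : Scheme.{u}) := fun a =>
    fX ⁻¹' {y} ∩ rX a ⁻¹' closure (fi a ⁻¹' {rY a y'})
  have hmapY : ∀ {a b : Over i₁} (m : a ⟶ b), ∃ t : pullback g₀ (D.map (a.hom ≫ ψ)) ⟶ pullback g₀ (D.map (b.hom ≫ ψ)),
      rY a ≫ t = rY b ∧ ∃ t' : pullback f₀ (pullback.fst g₀ (D.map (a.hom ≫ ψ))) ⟶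
        pullback f₀ (pullback.fst g₀ (D.map (b.hom ≫ ψ))), rX a ≫ t' = rX b ∧ t' ≫ fi b = fi a ≫ t := by
    intro a b m
    let t : pullback g₀ (D.map (a.hom ≫ ψ)) ⟶ pullback g₀ (D.map (b.hom ≫ ψ)) :=
      pullback.map _ _ _ _ (𝟙 Y₀) (D.map m.left) (𝟙 _) (by simp)
        (by rw [Category.comp_id, ← D.map_comp, ← Category.assoc, Over.w m])
    refine ⟨t, ?_, pullback.map _ _ _ _ (𝟙 X₀) t (𝟙 _) (by simp) (by simp [t]), ?_, ?_⟩
    · apply pullback.hom_ext <;> simp [rY, t]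
    · apply pullback.hom_ext
      · simp [rX]
      · simp only [rX, Category.assoc, pullback.lift_snd, pullback.lift_snd_assoc]
        congr 1
        apply pullback.hom_ext <;> simp [rY, t]
    · simp [fi]
  have hmono : ∀ {a b : Over i₁} (m : a ⟶ b), C a ⊆ C b := by
    intro a b m x hx
    obtain ⟨t, htY, t', htX, ht⟩ := hmapY m
    refine ⟨hx.1, ?_⟩
    show rX b x ∈ closure _
    rw [← htX, Scheme.Hom.comp_apply]
    refine closure_mono ?_ (image_closure_subset_closure_image t'.continuous ⟨_, hx.2, rfl⟩)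
    rintro _ ⟨z, hz, rfl⟩
    show fi b (t' z) = rY b y'
    rw [← Scheme.Hom.comp_apply, ht, Scheme.Hom.comp_apply, show fi a z = rY a y' from hz,
      ← Scheme.Hom.comp_apply, htY]
  have hne : ∀ a, (C a).Nonempty := fun a => by
    obtain ⟨x, x', hx, hfx, hfx'⟩ := hstage a.left a.hom (hy.map (rY a).continuous)
    obtain ⟨z, hz, hz'⟩ := exists_of_isPullback (hsq a) x y hfx
    refine ⟨z, hz', ?_⟩
    show rX a z ∈ closure (fi a ⁻¹' {rY a y'})
    rw [hz]
    exact hx.mem_closed isClosed_closure (subset_closure hfx')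
  haveI : QuasiCompact fX := MorphismProperty.pullback_snd _ _ ‹_›
  let F := fX.fiberι y
  haveI : CompactSpace (fX.fiber y) :=
    haveI : QuasiCompact (fX.fiberToSpecResidueField y) := MorphismProperty.pullback_snd _ _ ‹_›
    QuasiCompact.compactSpace_of_compactSpace (fX.fiberToSpecResidueField y)
  let K : Over i₁ → Set (fX.fiber y) := fun a => F ⁻¹' (rX a ⁻¹' closure (fi a ⁻¹' {rY a y'}))
  have hKcl : ∀ a, IsClosed (K a) := fun a => (isClosed_closure.preimage (rX a).continuous).preimage F.continuous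
  haveI : Nonempty (Over i₁) := ⟨Over.mk (𝟙 i₁)⟩
  obtain ⟨p, hp⟩ := IsCompact.nonempty_iInter_of_directed_nonempty_isCompact_isClosed K
    (fun a b => by
      have sub : ∀ {d e : Over i₁} (m : d ⟶ e), K d ⊆ K e := fun {d e} m q hq =>
        (hmono m (show F q ∈ C d from ⟨(fX.range_fiberι y).le ⟨q, rfl⟩, hq⟩)).2
      exact ⟨IsCofiltered.min a b, sub (IsCofiltered.minToLeft a b), sub (IsCofiltered.minToRight a b)⟩)
    (fun a => by
      obtain ⟨z, hz, hz'⟩ := hne a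
      obtain ⟨q, rfl⟩ := (fX.range_fiberι y).ge (show z ∈ fX ⁻¹' {y} from hz)
      exact ⟨q, hz'⟩)
    (fun a => (hKcl a).isCompact) hKcl
  rw [Set.mem_iInter] at hp
  have hx : F p ∈ closure (fX ⁻¹' {y'}) := by
    have hsqX := (IsPullback.of_hasPullback f₀ qY).paste_vert (IsPullback.of_hasPullback g₀ (c.π.app i₀))
    let e := hsqX.isoPullback
    rw [mem_closure_iff]
    intro O hO hpO
    obtain ⟨_, ⟨k, V, -, rfl⟩, hmem, hsub⟩ := TopologicalSpace.Opens.isBasis_iff_nbhd.mp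
      (isBasis_preimage_isAffineOpen _ _ (H7Lim.isLimitPbCone D i₀ (f₀ ≫ g₀) hc))
      (U := ⟨e.inv ⁻¹' O, hO.preimage e.inv.continuous⟩) (x := e.hom (F p))
      (show e.inv (e.hom (F p)) ∈ O by
        rw [← Scheme.Hom.comp_apply, e.hom_inv_id]
        simpa using hpO)
    obtain ⟨i, φ, α, hφ⟩ := IsCofiltered.cospan ψ k.hom
    let ι : pullback f₀ (pullback.fst g₀ (D.map (φ ≫ ψ))) ⟶ pullback (f₀ ≫ g₀) (D.map k.hom) :=
      pullback.lift (pullback.fst _ _) (pullback.snd _ _ ≫ pullback.snd _ _ ≫ D.map α) (by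
        rw [Category.assoc, Category.assoc, ← D.map_comp, ← hφ, ← pullback.condition,
          pullback.condition_assoc])
    let a : Over i₁ := Over.mk φ
    have hfac : rX a ≫ ι = e.hom ≫ (H7Lim.pbCone D c i₀ (f₀ ≫ g₀)).π.app k := by
      apply pullback.hom_ext
      · simp [rX, ι, e, H7Lim.pbCone, a]
      · simp [rX, rY, ι, e, H7Lim.pbCone, a]
    have hnb : rX a (F p) ∈ ι ⁻¹ᵁ V := by
      show ι (rX a (F p)) ∈ V
      rw [show ι (rX a (F p)) = (rX a ≫ ι) (F p) from (Scheme.Hom.comp_apply _ _ _).symm, hfac,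
        Scheme.Hom.comp_apply]
      exact hmem
    obtain ⟨z, hzV, hz⟩ := mem_closure_iff.1 (hp a) _ (ι ⁻¹ᵁ V).2 hnb
    obtain ⟨w, hw, hw'⟩ := exists_of_isPullback (hsq a) z y' hz
    refine ⟨w, ?_, hw'⟩
    have h2 : (e.hom ≫ (H7Lim.pbCone D c i₀ (f₀ ≫ g₀)).π.app k) w ∈ V := by
      rw [show (e.hom ≫ (H7Lim.pbCone D c i₀ (f₀ ≫ g₀)).π.app k) w = (rX a ≫ ι) w from congrArg (fun t : pullback f₀ qY ⟶ pullback (f₀ ≫ g₀) (D.map k.hom) => t w) hfac.symm,
        Scheme.Hom.comp_apply, hw]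
      exact hzV
    have h1 : e.hom w ∈ e.inv ⁻¹' O := hsub h2
    rw [Set.mem_preimage, ← Scheme.Hom.comp_apply, e.hom_inv_id] at h1
    simpa using h1
  obtain ⟨x', hx', hfx'⟩ := H18Subtr.exists_specializes_of_mem_closure_fibre fX y' hx
  exact ⟨F p, x', hx', (fX.range_fiberι y).le ⟨p, rfl⟩, hfx'⟩

end Groth.Agent.H15Subtr
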