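import Groth.Agent.H7Lim.Descend
import Groth.Agent.H06EGA14.UnivOpenNormal

/-!
# Morphisms which become flat after a nil-immersion
-/

set_option autoImplicit false
set_option linter.style.haveILetI false
set_option backward.isDefEq.respectTransparency false

universe u

open CategoryTheory CategoryTheory.Limits AlgebraicGeometry

namespace Groth.Agent.H15Subtr

/-- `f` becomes flat and of finite presentation on a surjective closed subscheme of the source. -/
def nilFlat : MorphismProperty Scheme.{u} := fun X _ f =>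
  ∃ (X'' : Scheme.{u}) (r : X'' ⟶ X), IsClosedImmersion r ∧ Surjective r ∧ Flat (r ≫ f) ∧
    LocallyOfFinitePresentation (r ≫ f)

theorem nilFlat_of_isPullback {X X' W W' : Scheme.{u}} {g' : X' ⟶ X} {f' : X' ⟶ W'} {f : X ⟶ W}
    {g : W' ⟶ W} (sq : IsPullback g' f' f g) (hf : nilFlat f) : nilFlat f' := by
  obtain ⟨X'', r, h1, h2, h3, h4⟩ := hf
  have hbig := (IsPullback.of_hasPullback r g').paste_vert sq
  exact ⟨_, pullback.snd r g', MorphismProperty.pullback_snd _ _ h1, MorphismProperty.pullback_snd _ _ h2,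
    MorphismProperty.of_isPullback hbig h3, MorphismProperty.of_isPullback hbig h4⟩

instance nilFlat_respectsIso : nilFlat.{u}.RespectsIso := by
  refine MorphismProperty.RespectsIso.mk _ (fun {X Y Z} e f hf => ?_) (fun {X Y Z} e f hf => ?_)
  · exact nilFlat_of_isPullback (g' := e.hom) (g := 𝟙 _)
      (IsPullback.of_horiz_isIso ⟨by rw [Category.comp_id]⟩) hf
  · exact nilFlat_of_isPullback (g' := 𝟙 _) (g := e.inv)
      (IsPullback.of_horiz_isIso ⟨by rw [Category.id_comp, Category.assoc, e.hom_inv_id, Category.comp_id]⟩) hf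

instance nilFlat_isStableUnderBaseChange : nilFlat.{u}.IsStableUnderBaseChange :=
  ⟨fun sq hf => nilFlat_of_isPullback sq hf⟩

theorem universallyOpen_of_nilFlat {X W : Scheme.{u}} {f : X ⟶ W} (hf : nilFlat f) : UniversallyOpen f := by
  obtain ⟨X'', r, h1, h2, h3, h4⟩ := hf
  haveI := h2
  haveI := h3
  haveI := h4
  exact H06EGA14.universallyOpen_of_comp_surjective r f

/-- Universal openness descends along finite jointly surjective families of universally closed morphisms. -/
theorem universallyOpen_of_family {T S : Scheme.{u}} (a : T ⟶ S) {κ : Type} [Finite κ] {W : κ → Scheme.{u}}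
    (w : ∀ k, W k ⟶ S) [∀ k, UniversallyClosed (w k)] (hsurj : ∀ s : S, ∃ k z, w k z = s)
    (h : ∀ k, UniversallyOpen (pullback.snd a (w k))) : UniversallyOpen a := by
  refine ⟨fun {A B} i₁ i₂ g hsq => ?_⟩
  intro O hO
  have hcl : ∀ k, IsClosed ((pullback.snd (w k) i₂) '' ((pullback.snd (w k) i₂) ⁻¹' (g '' O))ᶜ) := by
    intro k
    haveI : UniversallyClosed (pullback.snd (w k) i₂) := MorphismProperty.pullback_snd _ _ inferInstance
    refine (pullback.snd (w k) i₂).isClosedMap _ (IsOpen.isClosed_compl ?_)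
    haveI : UniversallyOpen (pullback.snd g (pullback.snd (w k) i₂)) := by
      have h1 : UniversallyOpen (pullback.snd a (pullback.fst (w k) i₂ ≫ w k)) :=
        H7Lim.prop_snd_of_fac (P := @UniversallyOpen) (pullback.fst (w k) i₂) rfl (h k)
      have hbig := (IsPullback.of_hasPullback g (pullback.snd (w k) i₂)).paste_horiz hsq.flip
      rw [← pullback.condition] at hbig
      exact (H7Lim.prop_iff_of_isPullback (P := @UniversallyOpen) hbig).2 h1
    rw [show (pullback.snd (w k) i₂) ⁻¹' (g '' O) =
      (pullback.snd g (pullback.snd (w k) i₂)) '' ((pullback.fst g (pullback.snd (w k) i₂)) ⁻¹' O) from by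
      ext z
      constructor
      · rintro ⟨x, hx, he⟩
        obtain ⟨p, hp, hp'⟩ := Scheme.Pullback.exists_preimage_pullback x z he
        exact ⟨p, show pullback.fst g _ p ∈ O from hp.symm ▸ hx, hp'⟩
      · rintro ⟨p, hp, rfl⟩
        exact ⟨_, hp, by rw [← Scheme.Hom.comp_apply, pullback.condition, Scheme.Hom.comp_apply]⟩]
    exact (pullback.snd g (pullback.snd (w k) i₂)).isOpenMap _ (hO.preimage (Scheme.Hom.continuous _))
  rw [← isClosed_compl_iff]
  have e : (g '' O)ᶜ = ⋃ k, (pullback.snd (w k) i₂) '' ((pullback.snd (w k) i₂) ⁻¹' (g '' O))ᶜ := by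
    ext b
    simp only [Set.mem_iUnion, Set.mem_image, Set.mem_compl_iff, Set.mem_preimage]
    constructor
    · intro hb
      obtain ⟨k, z, hz⟩ := hsurj (i₂ b)
      obtain ⟨p, -, hp⟩ := Scheme.Pullback.exists_preimage_pullback z b hz
      exact ⟨k, p, by rw [hp]; simpa using hb, hp⟩
    · rintro ⟨k, p, hp, rfl⟩
      simpa using hp
  rw [e]
  exact isClosed_iUnion_of_finite hcl

end Groth.Agent.H15Subtr
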