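import Groth.Agent.H15Subtr.NilFlat
import Groth.Agent.H15Subtr.GenericFlat
import Groth.Agent.S1273
import Groth.Agent.H7Flat.Flatten.Strict
import Groth.Agent.H29Blow.MaxPoints
import Groth.Agent.H26Blow.Proper
import Groth.Agent.H18HTop.AlmostBlowUpExists
import Groth.Agent.H05EGA4.EtaleFac
import Groth.Agent.H17.Reduced

/-!
# Proper covers over which a universally open morphism becomes flat after a nil-immersion

For a morphism of finite presentation over a Noetherian base whose base change to a cofiltered limit is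
universally open, some stage has a finite family of proper, jointly surjective morphisms of finite
presentation such that all base changes are flat after nil-immersions.
-/

set_option autoImplicit false
set_option linter.style.haveILetI false
set_option backward.isDefEq.respectTransparency false

universe u

open CategoryTheory CategoryTheory.Limits AlgebraicGeometry TopologicalSpace
open Groth.Agent.H7Lim Topology

namespace Groth.Agent.H15Subtr

variable {I : Type u} [Category.{u} I] [IsCofiltered I] {D : I ⥤ Scheme.{u}} {c : Cone D}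
  [∀ (i j : I) (f : i ⟶ j), IsAffineHom (D.map f)] {i : I}
  {S₀ T₀ : Scheme.{u}} (e : D.obj i ⟶ S₀) (a₀ : T₀ ⟶ S₀)

/-- At some stage a finite family of proper morphisms covers the preimage of `Z` and flattens `a₀`. -/
def CoveredBy (Z : Set S₀) : Prop :=
  ∃ (j : I) (φ : j ⟶ i) (κ : Type) (_ : Finite κ) (W : κ → Scheme.{u}) (w : ∀ k, W k ⟶ D.obj j),
    (∀ k, IsProper (w k) ∧ LocallyOfFinitePresentation (w k)) ∧
    (∀ k, nilFlat (pullback.snd a₀ (w k ≫ D.map φ ≫ e))) ∧
    ∀ s : D.obj j, (D.map φ ≫ e) s ∈ Z → ∃ k z, w k z = s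

theorem coveredBy_empty : CoveredBy (D := D) e a₀ (∅ : Set S₀) :=
  ⟨i, 𝟙 i, PEmpty, inferInstance, PEmpty.elim, fun k => k.elim, fun k => k.elim, fun k => k.elim,
    fun _ h => h.elim⟩

omit [IsCofiltered I] in
theorem exists_shift {j j' : I} (φ : j ⟶ i) (ψ : j' ⟶ j) {W : Scheme.{u}} {w : W ⟶ D.obj j}
    (hw : IsProper w ∧ LocallyOfFinitePresentation w) (h : nilFlat (pullback.snd a₀ (w ≫ D.map φ ≫ e))) :
    (IsProper (pullback.snd w (D.map ψ)) ∧ LocallyOfFinitePresentation (pullback.snd w (D.map ψ))) ∧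
      nilFlat (pullback.snd a₀ (pullback.snd w (D.map ψ) ≫ D.map (ψ ≫ φ) ≫ e)) := by
  obtain ⟨_, _⟩ := hw
  refine ⟨⟨MorphismProperty.pullback_snd _ _ inferInstance, MorphismProperty.pullback_snd _ _ inferInstance⟩, ?_⟩
  refine prop_snd_of_fac (pullback.fst w (D.map ψ)) ?_ h
  rw [D.map_comp, Category.assoc, pullback.condition_assoc]

theorem coveredBy_union {Z Z' : Set S₀} (h : CoveredBy (D := D) e a₀ Z) (h' : CoveredBy (D := D) e a₀ Z') :
    CoveredBy (D := D) e a₀ (Z ∪ Z') := by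
  obtain ⟨j, φ, κ, _, W, w, hw, hn, hc⟩ := h
  obtain ⟨j', φ', κ', _, W', w', hw', hn', hc'⟩ := h'
  obtain ⟨l, ψ, ψ', he⟩ := IsCofiltered.cospan φ φ'
  let V : κ ⊕ κ' → Scheme.{u} :=
    Sum.elim (fun k => pullback (w k) (D.map ψ)) fun k => pullback (w' k) (D.map ψ')
  let v : ∀ k, V k ⟶ D.obj l := fun k => match k with
    | .inl k => pullback.snd (w k) (D.map ψ)
    | .inr k => pullback.snd (w' k) (D.map ψ')
  refine ⟨l, ψ ≫ φ, κ ⊕ κ', inferInstance, V, v, ?_, ?_, fun s hs => ?_⟩
  · rintro (k | k)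
    · exact (exists_shift e a₀ φ ψ (hw k) (hn k)).1
    · exact (exists_shift e a₀ φ' ψ' (hw' k) (hn' k)).1
  · rintro (k | k)
    · exact (exists_shift e a₀ φ ψ (hw k) (hn k)).2
    · rw [he]
      exact (exists_shift e a₀ φ' ψ' (hw' k) (hn' k)).2
  · rcases hs with hs | hs
    · obtain ⟨k, z, hz⟩ := hc (D.map ψ s) (by
        rwa [← Scheme.Hom.comp_apply, ← Category.assoc, ← D.map_comp])
      obtain ⟨p, -, hp⟩ := Scheme.Pullback.exists_preimage_pullback z s hz
      exact ⟨.inl k, p, hp⟩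
    · obtain ⟨k, z, hz⟩ := hc' (D.map ψ' s) (by
        rwa [← Scheme.Hom.comp_apply, ← Category.assoc, ← D.map_comp, ← he])
      obtain ⟨p, -, hp⟩ := Scheme.Pullback.exists_preimage_pullback z s hz
      exact ⟨.inr k, p, hp⟩

/-- The main step: after a blow-up, a closed piece at some stage. -/
theorem exists_coveredBy_open (hc : IsLimit c) [CompactSpace (D.obj i)] [QuasiSeparatedSpace (D.obj i)]
    [IsNoetherian S₀] [LocallyOfFinitePresentation a₀] [QuasiCompact a₀] [QuasiSeparated a₀]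
    (hopen : UniversallyOpen (pullback.snd a₀ (c.π.app i ≫ e)))
    {Zs : Scheme.{u}} (ι : Zs ⟶ S₀) [IsClosedImmersion ι] [IsReduced Zs] [Nonempty Zs] :
    ∃ U : Zs.Opens, (U : Set Zs).Nonempty ∧ CoveredBy (D := D) e a₀ (ι '' (U : Set Zs)) := by
  classical
  haveI : IsLocallyNoetherian Zs := LocallyOfFiniteType.isLocallyNoetherian ι
  haveI : CompactSpace Zs := QuasiCompact.compactSpace_of_compactSpace ι
  haveI : IsNoetherian Zs := ⟨⟩
  let aZ := pullback.snd a₀ ι
  haveI : LocallyOfFinitePresentation aZ := MorphismProperty.pullback_snd _ _ inferInstance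
  haveI : QuasiCompact aZ := MorphismProperty.pullback_snd _ _ inferInstance
  haveI : QuasiSeparated aZ := MorphismProperty.pullback_snd _ _ inferInstance
  obtain ⟨U, hUmax, hUc, hUf⟩ := exists_flat_open_maxPoints
    (Groth.Agent.H05EGA4.EtaleFac.finite_maximal.isCompact) aZ
  haveI := hUf
  haveI : LocallyOfFinitePresentation (aZ ∣_ U) := inferInstance
  obtain ⟨η₀, -, hη₀⟩ := H29Blow.exists_maximal_generization (Classical.arbitrary Zs)
  refine ⟨U, ⟨η₀, hUmax η₀ hη₀⟩, ?_⟩
  obtain ⟨𝓘, Z', b, hb, hadm, hflat⟩ := S1273.result aZ U hUc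
  haveI : IsProper b := H26Blow.isProper_of_isBlowUp hb fun y => by
    obtain ⟨V, hV, hyV, -⟩ := exists_isAffineOpen_mem_and_subset (U := (⊤ : Zs.Opens)) (x := y) trivial
    exact ⟨⟨V, hV⟩, hyV, hadm.1 _⟩
  haveI hbs : Surjective b := ⟨fun y => by
    obtain ⟨η, hη, hmax⟩ := H29Blow.exists_maximal_generization y
    have hηI : η ∉ (𝓘.support : Set Zs) := fun h => Set.disjoint_left.1 hadm.2 h (hUmax η hmax)
    obtain ⟨η', -, hη'⟩ := (H29Blow.bijOn_maximalPoints hb).2.2 ⟨hmax, hηI⟩
    exact hη.mem_closed b.isClosedMap.isClosed_range ⟨η', hη'⟩⟩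
  haveI : IsLocallyNoetherian Z' := LocallyOfFiniteType.isLocallyNoetherian b
  haveI : CompactSpace Z' := QuasiCompact.compactSpace_of_compactSpace b
  haveI : IsNoetherian Z' := ⟨⟩
  -- the strict transform
  let z0 : Z' ⟶ S₀ := b ≫ ι
  let X' := pullback a₀ z0
  let p₂ : X' ⟶ Z' := pullback.snd a₀ z0
  let p₁ : X' ⟶ pullback a₀ ι := pullback.map _ _ _ _ (𝟙 T₀) b (𝟙 _) (by simp) (by simp [z0])
  have hcart : IsPullback p₁ p₂ aZ b := by
    refine IsPullback.of_right (h₁₂ := pullback.fst a₀ ι) (h₂₂ := ι) (v₁₃ := a₀) ?_ (by simp [p₁, p₂, aZ])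
      (IsPullback.of_hasPullback _ _)
    simpa [p₁, p₂, z0] using IsPullback.of_hasPullback a₀ (b ≫ ι)
  let Ex := (𝓘.comap aZ).comap p₁
  have hE : Ex = (𝓘.comap b).comap p₂ := by
    rw [← Scheme.IdealSheafData.comap_comp, ← hcart.w, Scheme.IdealSheafData.comap_comp]
  have hEp : HTop.IsLocPrincipal Ex := by
    rw [hE]
    exact H18HTop.isLocPrincipal_comap (H18HTop.isLocPrincipal_of_isEffCartierIdeal hb.1) p₂
  let iS := (HTop.supportedOn Ex).subschemeι
  obtain ⟨hfl, hlfp, -, -⟩ := hflat X' p₁ p₂ hcart (HTop.supportedOn Ex)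
    (H7Flat.Flatten.mem_supportedOn_iff_killed hEp)
  let U' : Z'.Opens := b ⁻¹ᵁ U
  have hgood : p₂ ⁻¹' (U' : Set Z') ⊆ Set.range iS := by
    intro x hx
    haveI := H7Flat.Flatten.isIso_subschemeι_restrict Ex
    have hxE : x ∈ HTop.awayFrom Ex := by
      rw [hE, H18HTop.awayFrom_comap, H18HTop.awayFrom_comap]
      exact fun h => Set.disjoint_left.1 hadm.2 h hx
    obtain ⟨z, hz⟩ := (iS ∣_ HTop.awayFrom Ex).homeomorph.surjective ⟨x, hxE⟩
    refine ⟨z.1, ?_⟩
    have := congrArg (fun w => (HTop.awayFrom Ex).ι w) hz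
    rw [Scheme.Hom.homeomorph_apply, ← Scheme.Hom.comp_apply, morphismRestrict_ι, Scheme.Hom.comp_apply] at this
    exact this
  haveI : IsLocallyNoetherian X' :=
    haveI : LocallyOfFinitePresentation p₂ := MorphismProperty.pullback_snd _ _ inferInstance
    LocallyOfFiniteType.isLocallyNoetherian p₂
  haveI : LocallyOfFinitePresentation p₂ := MorphismProperty.pullback_snd _ _ inferInstance
  haveI : QuasiCompact p₂ := MorphismProperty.pullback_snd _ _ inferInstance
  haveI : CompactSpace X' := QuasiCompact.compactSpace_of_compactSpace p₂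
  haveI : IsNoetherian X' := ⟨⟩
  let B₀ : Set Z' := p₂ '' (Set.range iS)ᶜ
  have hB₀ : IsLocallyConstructible B₀ :=
    p₂.isLocallyConstructible_image
      (((NoetherianSpace.isCompact (Set.range iS)ᶜ).isConstructible
        iS.isClosedEmbedding.isClosed_range.isOpen_compl).isLocallyConstructible)
  -- the system over `Z'`
  haveI : IsProper z0 := inferInstance
  haveI : LocallyOfFinitePresentation z0 := H18HTop.locallyOfFinitePresentation_of_noetherian z0
  let πP : pullback z0 e ⟶ D.obj i := pullback.snd z0 e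
  haveI : IsProper πP := MorphismProperty.pullback_snd _ _ inferInstance
  haveI : LocallyOfFinitePresentation πP := MorphismProperty.pullback_snd _ _ inferInstance
  haveI : CompactSpace ↥(pullback z0 e) := QuasiCompact.compactSpace_of_compactSpace πP
  haveI : QuasiSeparatedSpace ↥(pullback z0 e) := quasiSeparatedSpace_of_quasiSeparated πP
  let E := pbDiagram D i πP
  let cE := pbCone D c i πP
  have hcE : IsLimit cE := isLimitPbCone D i πP hc
  let toZ : ∀ k : Over i, E.obj k ⟶ Z' := fun k => pullback.fst πP (D.map k.hom) ≫ pullback.fst z0 e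
  have toZ_map : ∀ {k l : Over i} (ψ : k ⟶ l), E.map ψ ≫ toZ l = toZ k := fun {k l} ψ => by
    simp [E, toZ]
  let k₀ : Over i := Over.mk (𝟙 i)
  let tinf : cE.pt ⟶ Z' := pullback.fst πP (c.π.app i) ≫ pullback.fst z0 e
  have htinf : ∀ k, cE.π.app k ≫ toZ k = tinf := fun k => by simp [cE, toZ, tinf]
  -- openness in the limit
  let finf := pullback.snd a₀ (tinf ≫ z0)
  haveI : UniversallyOpen finf := by
    refine prop_snd_of_fac (P := @UniversallyOpen) (pullback.snd πP (c.π.app i)) ?_ hopen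
    rw [show tinf ≫ z0 = pullback.fst πP (c.π.app i) ≫ pullback.fst z0 e ≫ z0 by simp [tinf],
      pullback.condition, ← Category.assoc (pullback.snd πP (c.π.app i))]
    show (pullback.snd πP (c.π.app i) ≫ c.π.app i) ≫ e = pullback.fst πP (c.π.app i) ≫ πP ≫ e
    rw [← pullback.condition, Category.assoc]
  let t : pullback a₀ (tinf ≫ z0) ⟶ X' := pullback.map _ _ _ _ (𝟙 T₀) tinf (𝟙 _) (by simp) (by simp)
  have hts : IsPullback t finf p₂ tinf := by
    refine IsPullback.of_right (h₁₂ := pullback.fst a₀ z0) (h₂₂ := z0) (v₁₃ := a₀) ?_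
      (by simp [t, p₂, finf]) (IsPullback.of_hasPullback _ _)
    simpa [t, finf] using IsPullback.of_hasPullback a₀ (tinf ≫ z0)
  have hdisj : ∀ w, tinf w ∈ B₀ → w ∉ closure (tinf ⁻¹' (U' : Set Z')) := by
    rintro w ⟨x, hx, hxw⟩ hw
    obtain ⟨v, hv, hv'⟩ : ∃ v, t v = x ∧ finf v = w := by
      obtain ⟨p, hp, hp'⟩ := Scheme.Pullback.exists_preimage_pullback x w hxw
      exact ⟨hts.isoPullback.inv p,
        by rw [← Scheme.Hom.comp_apply, hts.isoPullback_inv_fst, hp],
        by rw [← Scheme.Hom.comp_apply, hts.isoPullback_inv_snd, hp']⟩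
    have h1 : v ∈ closure (finf ⁻¹' (tinf ⁻¹' (U' : Set Z'))) :=
      finf.isOpenMap.preimage_closure_subset_closure_preimage (show finf v ∈ _ from hv'.symm ▸ hw)
    have h2 : finf ⁻¹' (tinf ⁻¹' (U' : Set Z')) = t ⁻¹' (p₂ ⁻¹' (U' : Set Z')) := by
      ext q
      show tinf (finf q) ∈ U' ↔ p₂ (t q) ∈ U'
      rw [← Scheme.Hom.comp_apply, ← hts.w, Scheme.Hom.comp_apply]
    rw [h2] at h1
    have h3 := map_mem_closure t.continuous h1 (fun q hq => hgood hq)
    rw [iS.isClosedEmbedding.isClosed_range.closure_eq, hv] at h3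
    exact hx h3
  -- separate by a quasi-compact open at a stage
  have hBq : ∀ k : Over i, IsLocallyConstructible (toZ k ⁻¹' B₀) := fun k =>
    isLocallyConstructible_preimage hB₀ _
  haveI : ∀ k : Over i, IsAffineHom (cE.π.app k) := fun k => isAffineHom_π_app E cE hcE k
  have hBinf : IsCompact (tinf ⁻¹' B₀) := by
    rw [← htinf k₀, Scheme.Hom.comp_base, TopCat.coe_comp, Set.preimage_comp]
    exact ((qcImage_of_isLocallyConstructible (hBq k₀)).preimage (cE.π.app k₀)).isCompact
  have hA : ∀ w : tinf ⁻¹' B₀, ∃ A : cE.pt.Opens, IsAffineOpen A ∧ w.1 ∈ A ∧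
      (A : Set cE.pt) ⊆ (closure (tinf ⁻¹' (U' : Set Z')))ᶜ := fun w => by
    obtain ⟨A, hA, hwA, hAU⟩ := exists_isAffineOpen_mem_and_subset
      (U := ⟨(closure (tinf ⁻¹' (U' : Set Z')))ᶜ, isClosed_closure.isOpen_compl⟩) (x := w.1) (hdisj w.1 w.2)
    exact ⟨A, hA, hwA, hAU⟩
  choose A hA hwA hAU using hA
  obtain ⟨s, hs⟩ := hBinf.elim_finite_subcover (fun w => (A w : Set cE.pt)) (fun w => (A w).2)
    fun w hw => Set.mem_iUnion.2 ⟨⟨w, hw⟩, hwA _⟩
  let Vinf : Set cE.pt := ⋃ w ∈ s, (A w : Set cE.pt)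
  have hVo : IsOpen Vinf := isOpen_biUnion fun w _ => (A w).2
  have hVc : IsCompact Vinf := s.isCompact_biUnion fun w _ => (hA w).isCompact
  obtain ⟨k₁, -, V, hV, hV', hVeq⟩ := exists_isCompact_isOpen_preimage_eq hcE k₀ hVo hVc
  have hVcons : IsConstructible V := hV'.isConstructible hV
  have step1 : ∃ (k₂ : Over i) (ψ : k₂ ⟶ k₁), E.map ψ ⁻¹' (toZ k₁ ⁻¹' B₀) ⊆ E.map ψ ⁻¹' V := by
    refine QCImage.exists_preimage_subset hcE (qcImage_of_isLocallyConstructible
      ((hBq k₁).inter (isLocallyConstructible_compl hVcons.isLocallyConstructible))) ?_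
    rw [← Set.preimage_comp, ← TopCat.coe_comp, ← Scheme.Hom.comp_base, htinf, hVeq]
    exact hs
  obtain ⟨k₂, ψ₁, hB₂⟩ := step1
  have hU'c : IsLocallyConstructible (U' : Set Z') :=
    ((NoetherianSpace.isCompact (U' : Set Z')).isConstructible U'.2).isLocallyConstructible
  have hV₂c : IsConstructible (E.map ψ₁ ⁻¹' V) := (E.map ψ₁).isConstructible_preimage hVcons
  have step2 : ∃ (k₃ : Over i) (ψ : k₃ ⟶ k₂),
      E.map ψ ⁻¹' (toZ k₂ ⁻¹' (U' : Set Z')) ⊆ E.map ψ ⁻¹' (E.map ψ₁ ⁻¹' V)ᶜ := by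
    refine QCImage.exists_preimage_subset hcE (qcImage_of_isLocallyConstructible
      ((isLocallyConstructible_preimage hU'c _).inter
        (isLocallyConstructible_compl hV₂c.compl.isLocallyConstructible))) ?_
    rw [← Set.preimage_comp, ← TopCat.coe_comp, ← Scheme.Hom.comp_base, htinf, Set.preimage_compl,
      preimage_π_map, hVeq]
    intro w hw hwV
    obtain ⟨a, -, hwa⟩ := Set.mem_iUnion₂.1 hwV
    exact hAU a hwa (subset_closure hw)
  obtain ⟨k, ψ₂, hU₃⟩ := step2
  let V₃ : (E.obj k).Opens := ⟨E.map ψ₂ ⁻¹' (E.map ψ₁ ⁻¹' V), (hV.preimage (E.map ψ₁).continuous).preimage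
    (E.map ψ₂).continuous⟩
  have hV₃ : IsCompact (V₃ : Set (E.obj k)) :=
    (E.map ψ₂).isCompact_preimage (U := ⟨E.map ψ₁ ⁻¹' V, hV.preimage (E.map ψ₁).continuous⟩)
      ((E.map ψ₁).isCompact_preimage (U := ⟨V, hV⟩) hV')
  obtain ⟨K, hK, hKV⟩ := H7Flat.Flatten.exists_centre_awayFrom_eq V₃ hV₃
  haveI : LocallyOfFinitePresentation K.subschemeι :=
    (H18HTop.lfp_iff_ker_fg K.subschemeι).2 fun A => by rw [Scheme.IdealSheafData.ker_subschemeι]; exact hK A
  let w : K.subscheme ⟶ D.obj k.left := K.subschemeι ≫ pullback.snd πP (D.map k.hom)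
  haveI : IsProper (pullback.snd πP (D.map k.hom)) := MorphismProperty.pullback_snd _ _ inferInstance
  haveI : LocallyOfFinitePresentation (pullback.snd πP (D.map k.hom)) :=
    MorphismProperty.pullback_snd _ _ inferInstance
  have hKr : Set.range K.subschemeι = (V₃ : Set (E.obj k))ᶜ := by
    rw [Scheme.IdealSheafData.range_subschemeι, ← hKV]
    exact (compl_compl (K.support : Set (E.obj k))).symm
  refine ⟨k.left, k.hom, PUnit, inferInstance, fun _ => K.subscheme, fun _ => w,
    fun _ => ⟨inferInstance, inferInstance⟩, fun _ => ?_, fun s' hs' => ?_⟩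
  · let g : K.subscheme ⟶ Z' := K.subschemeι ≫ toZ k
    have hg : g ≫ z0 = w ≫ D.map k.hom ≫ e := by
      simp only [g, w, toZ, Category.assoc]
      rw [pullback.condition (f := z0) (g := e), ← pullback.condition_assoc (f := πP)]
    refine prop_snd_of_fac (P := nilFlat) (b := g ≫ z0) (𝟙 _) (by rw [Category.id_comp]; exact hg) ?_
    let tW : pullback a₀ (g ≫ z0) ⟶ X' := pullback.map _ _ _ _ (𝟙 T₀) g (𝟙 _) (by simp) (by simp)
    have htW : IsPullback tW (pullback.snd a₀ (g ≫ z0)) p₂ g := by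
      refine IsPullback.of_right (h₁₂ := pullback.fst a₀ z0) (h₂₂ := z0) (v₁₃ := a₀) ?_
        (by simp [tW, p₂]) (IsPullback.of_hasPullback _ _)
      simpa [tW] using IsPullback.of_hasPullback a₀ (g ≫ z0)
    have hsurj : Surjective (pullback.snd iS tW) := ⟨fun x => by
      by_cases hmem : tW x ∈ Set.range iS
      · obtain ⟨z, hz⟩ := hmem
        obtain ⟨p, -, hp⟩ := Scheme.Pullback.exists_preimage_pullback z x hz
        exact ⟨p, hp⟩
      · have hB : toZ k (K.subschemeι (pullback.snd a₀ (g ≫ z0) x)) ∈ B₀ := by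
          refine ⟨tW x, hmem, ?_⟩
          rw [← Scheme.Hom.comp_apply, htW.w, Scheme.Hom.comp_apply]
          rfl
        have hin : K.subschemeι (pullback.snd a₀ (g ≫ z0) x) ∈ V₃ := by
          refine hB₂ ?_
          show toZ k₁ (E.map ψ₁ (E.map ψ₂ _)) ∈ B₀
          rw [← Scheme.Hom.comp_apply, ← Scheme.Hom.comp_apply, toZ_map, toZ_map]
          exact hB
        exact absurd hin (hKr.le ⟨_, rfl⟩)⟩
    have hbig := (IsPullback.of_hasPullback iS tW).paste_vert htW
    exact ⟨_, pullback.snd iS tW, MorphismProperty.pullback_snd _ _ inferInstance, hsurj,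
      MorphismProperty.of_isPullback hbig hfl, MorphismProperty.of_isPullback hbig hlfp⟩
  · obtain ⟨u, hu, huz⟩ := hs'
    obtain ⟨z', rfl⟩ := b.surjective u
    obtain ⟨p, hp, hp'⟩ := Scheme.Pullback.exists_preimage_pullback (f := z0) (g := e) z' (D.map k.hom s')
      (by rw [Scheme.Hom.comp_apply, huz, Scheme.Hom.comp_apply])
    obtain ⟨q, hq, hq'⟩ := Scheme.Pullback.exists_preimage_pullback (f := πP) (g := D.map k.hom) p s' hp'
    have hqU : toZ k q ∈ (U' : Set Z') := by
      show b (toZ k q) ∈ U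
      rw [show toZ k q = z' from
        (Scheme.Hom.comp_apply _ _ _).trans ((congrArg (pullback.fst z0 e) hq).trans hp)]
      exact hu
    have hqV : q ∉ V₃ := by
      refine hU₃ ?_
      show toZ k₂ (E.map ψ₂ q) ∈ (U' : Set Z')
      rw [← Scheme.Hom.comp_apply, toZ_map]
      exact hqU
    obtain ⟨r, hr⟩ := hKr.ge hqV
    exact ⟨PUnit.unit, r, (Scheme.Hom.comp_apply _ _ _).trans
      ((congrArg (pullback.snd πP (D.map k.hom)) hr).trans hq')⟩

theorem coveredBy_univ (hc : IsLimit c) [CompactSpace (D.obj i)] [QuasiSeparatedSpace (D.obj i)]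
    [IsNoetherian S₀] [LocallyOfFinitePresentation a₀] [QuasiCompact a₀] [QuasiSeparated a₀]
    (hopen : UniversallyOpen (pullback.snd a₀ (c.π.app i ≫ e))) :
    CoveredBy (D := D) e a₀ (Set.univ : Set S₀) := by
  suffices ∀ Z : Closeds S₀, CoveredBy (D := D) e a₀ (Z : Set S₀) from this ⊤
  intro Z
  induction Z using WellFoundedLT.induction with
  | ind Z ih =>
    by_cases hne : (Z : Set S₀).Nonempty
    · let J := Scheme.IdealSheafData.vanishingIdeal Z
      haveI : IsReduced J.subscheme := H17.isReduced_vanishingIdeal_subscheme _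
      have hr : Set.range J.subschemeι = (Z : Set S₀) := by
        rw [Scheme.IdealSheafData.range_subschemeι, Scheme.IdealSheafData.coe_support_vanishingIdeal]
      haveI : Nonempty J.subscheme := by
        obtain ⟨z, hz⟩ := hne
        obtain ⟨y, -⟩ := hr.ge hz
        exact ⟨y⟩
      obtain ⟨U, ⟨η, hη⟩, hU⟩ := exists_coveredBy_open e a₀ hc hopen J.subschemeι
      let Z' : Closeds S₀ := ⟨J.subschemeι '' (U : Set _)ᶜ,
        J.subschemeι.isClosedMap _ U.2.isClosed_compl⟩
      have hlt : Z' < Z := by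
        refine lt_of_le_not_ge (fun x hx => ?_) fun hle => ?_
        · obtain ⟨y, -, rfl⟩ := hx
          exact hr.le ⟨y, rfl⟩
        · obtain ⟨y, hy, hye⟩ := hle (hr.le ⟨η, rfl⟩)
          exact hy (J.subschemeι.isClosedEmbedding.injective hye ▸ hη)
      have := coveredBy_union e a₀ hU (ih Z' hlt)
      rw [show (J.subschemeι '' (U : Set _)) ∪ (Z' : Set S₀) = (Z : Set S₀) by
        rw [← hr, ← Set.image_univ, ← Set.union_compl_self (U : Set J.subscheme), Set.image_union]
        rfl] at this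
      exact this
    · rw [Set.not_nonempty_iff_eq_empty.1 hne]
      exact coveredBy_empty e a₀

end Groth.Agent.H15Subtr
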