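import Groth.Agent.H18HTop.PhOfV
import Groth.Agent.H18Subtr.Basic

/-!
# Finitely many lifts of a geometric point suffice for all valuation rings centred on the base
-/

set_option autoImplicit false
set_option linter.style.haveILetI false
set_option backward.isDefEq.respectTransparency false

universe u

open CategoryTheory CategoryTheory.Limits AlgebraicGeometry TopologicalSpace
open IsLocalRing (closedPoint)
open Groth.Agent.H18HTop

namespace Groth.Agent.H15Subtr

/-- The generic point of the spectrum of a valuation subring. -/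
noncomputable abbrev gen {L : Type u} [Field L] (W : ValuationSubring L) :
    Spec (CommRingCat.of L) ⟶ Spec (CommRingCat.of W) :=
  Spec.map (CommRingCat.ofHom W.subtype)

theorem apply_gen_mem {L : Type u} [Field L] (W : ValuationSubring L) {T : Scheme.{u}}
    (l : Spec (CommRingCat.of W) ⟶ T) (U : T.Opens) (h : l (closedPoint W) ∈ U) :
    (gen W ≫ l) (closedPoint L) ∈ U :=
  range_subset_of_closedPoint_mem l U h ⟨gen W (closedPoint L), rfl⟩

variable {Y : Scheme.{u}} {κ : Type} [Finite κ] {V : κ → Scheme.{u}} (q : ∀ k, V k ⟶ Y)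

/-- A finite family with the valuative lifting property. -/
def Lifts : Prop := HTop.HasValLift (PreZeroHypercover.mk κ V q)

theorem exists_finset_lifts [CompactSpace Y] [∀ k, QuasiCompact (q k)] [∀ k, LocallyOfFiniteType (q k)]
    (hlift : Lifts q) {L : Type u} [Field L] [IsAlgClosed L] (σ : Spec (CommRingCat.of L) ⟶ Y) :
    ∃ S : Finset (Σ k, {g : Spec (CommRingCat.of L) ⟶ V k // g ≫ q k = σ}),
      ∀ (W : ValuationSubring L) (l : Spec (CommRingCat.of W) ⟶ Y), gen W ≫ l = σ →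
        ∃ a ∈ S, ∃ m : Spec (CommRingCat.of W) ⟶ V a.1, gen W ≫ m = a.2.1 ∧ m ≫ q a.1 = l := by
  classical
  let Φ := Σ k, {g : Spec (CommRingCat.of L) ⟶ V k // g ≫ q k = σ}
  have main : ∀ U : Y.affineOpens, ∃ S : Finset Φ,
      ∀ (W : ValuationSubring L) (l : Spec (CommRingCat.of W) ⟶ Y), gen W ≫ l = σ → l (closedPoint W) ∈ U.1 →
        ∃ a ∈ S, ∃ m : Spec (CommRingCat.of W) ⟶ V a.1, gen W ≫ m = a.2.1 ∧ m ≫ q a.1 = l := by
    intro U
    by_cases hσU : σ (closedPoint L) ∈ U.1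
    swap
    · exact ⟨∅, fun W l hl hlU => absurd (hl ▸ apply_gen_mem W l U.1 hlU) hσU⟩
    have hD : ∀ k, ∃ s : Set (V k).affineOpens, s.Finite ∧
        q k ⁻¹ᵁ U.1 = ⨆ (i : (V k).affineOpens) (_ : i ∈ s), (i : (V k).Opens) := fun k =>
      (isCompact_iff_finite_and_eq_biUnion_affineOpens (U := q k ⁻¹ᵁ U.1)).mp ((q k).isCompact_preimage U.2.isCompact)
    choose D hDfin hDeq using hD
    haveI : ∀ k, Finite (D k) := fun k => (hDfin k).to_subtype
    let e := (Finite.equivFin (Σ k, D k)).symm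
    have hle : ∀ j, ((e j).2.1 : (V (e j).1).Opens) ≤ q (e j).1 ⁻¹ᵁ U.1 := fun j => by
      rw [hDeq]
      exact le_iSup₂ (f := fun (i : (V (e j).1).affineOpens) (_ : i ∈ D (e j).1) => (i : (V (e j).1).Opens))
        (e j).2.1 (e j).2.2
    let A : CommRingCat.{u} := Γ(Y, U.1)
    let B : Fin (Nat.card (Σ k, D k)) → CommRingCat.{u} := fun j => Γ(V (e j).1, (e j).2.1.1)
    let φ : ∀ j, A ⟶ B j := fun j => (q (e j).1).appLE U.1 (e j).2.1.1 (hle j)
    have hφ : ∀ j, Spec.map (φ j) ≫ U.2.fromSpec = (e j).2.1.2.fromSpec ≫ q (e j).1 := fun j =>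
      IsAffineOpen.SpecMap_appLE_fromSpec _ U.2 (e j).2.1.2 (hle j)
    have hft : ∀ j, (φ j).hom.FiniteType := fun j =>
      LocallyOfFiniteType.finiteType_appLE (q (e j).1) U.2 (e j).2.1.2 (hle j)
    have hlift' : HTop.HasValLift
        (PreZeroHypercover.mk _ (fun j => Spec (B j)) (fun j => Spec.map (φ j))) := by
      intro R _ _ g
      obtain ⟨W, i1, i2, ψ, hψ, k, v, hv⟩ := hlift R (g ≫ U.2.fromSpec)
      haveI := i1
      haveI := i2
      let v' : Spec W ⟶ V k := v
      have hv' : v' ≫ q k = Spec.map ψ ≫ g ≫ U.2.fromSpec := hv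
      have hm : v' (closedPoint W) ∈ q k ⁻¹ᵁ U.1 := by
        show q k (v' (closedPoint W)) ∈ U.1
        rw [← Scheme.Hom.comp_apply, hv', Scheme.Hom.comp_apply, Scheme.Hom.comp_apply]
        have := U.2.range_fromSpec
        exact this.le ⟨_, rfl⟩
      rw [hDeq] at hm
      obtain ⟨i, hi⟩ := Opens.mem_iSup.1 hm
      obtain ⟨his, hiW⟩ := Opens.mem_iSup.1 hi
      obtain ⟨j, hj⟩ := e.surjective ⟨k, i, his⟩
      have key : ∀ (x : Σ k, D k), x = ⟨k, i, his⟩ → ∃ v'' : Spec W ⟶ Spec Γ(V x.1, x.2.1.1),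
          v'' ≫ x.2.1.2.fromSpec ≫ q x.1 = Spec.map ψ ≫ g ≫ U.2.fromSpec := by
        rintro _ rfl
        refine ⟨IsOpenImmersion.lift i.2.fromSpec v' ?_, ?_⟩
        · rw [i.2.range_fromSpec]
          exact range_subset_of_closedPoint_mem v' _ hiW
        · rw [IsOpenImmersion.lift_fac_assoc, hv']
      obtain ⟨v'', hv''⟩ := key _ hj
      refine ⟨W, i1, i2, ψ, hψ, j, v'', ?_⟩
      show v'' ≫ Spec.map (φ j) = Spec.map ψ ≫ g
      rw [← cancel_mono U.2.fromSpec, Category.assoc, hφ, hv'', Category.assoc]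
    have hσr : Set.range σ ⊆ Set.range U.2.fromSpec := by
      rw [U.2.range_fromSpec]
      rintro _ ⟨z, rfl⟩
      rw [Subsingleton.elim z (closedPoint L)]
      exact hσU
    let σA : A →+* L := (Spec.preimage (IsOpenImmersion.lift U.2.fromSpec σ hσr)).hom
    have hσA : Spec.map (CommRingCat.ofHom σA) ≫ U.2.fromSpec = σ := by
      rw [show CommRingCat.ofHom σA = Spec.preimage (IsOpenImmersion.lift U.2.fromSpec σ hσr) from rfl,
        Spec.map_preimage, IsOpenImmersion.lift_fac]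
    obtain ⟨S₀, hS₀⟩ := PhOfV.exists_finset_points B φ hft hlift' σA
    let pt : (Σ j, {f : B j →+* L // f.comp (φ j).hom = σA}) → Φ := fun a =>
      ⟨(e a.1).1, Spec.map (CommRingCat.ofHom a.2.1) ≫ (e a.1).2.1.2.fromSpec, by
        rw [Category.assoc, ← hφ, ← Category.assoc, ← Spec.map_comp, ← hσA]
        exact congrArg (fun t => Spec.map t ≫ U.2.fromSpec) (CommRingCat.hom_ext a.2.2)⟩
    refine ⟨S₀.image pt, fun W l hl hlU => ?_⟩
    haveI := PhOfV.isDominant_generic W
    have hlr : Set.range l ⊆ Set.range U.2.fromSpec := by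
      rw [U.2.range_fromSpec]; exact range_subset_of_closedPoint_mem l _ hlU
    let lA : A ⟶ CommRingCat.of W := Spec.preimage (IsOpenImmersion.lift U.2.fromSpec l hlr)
    have hlA : Spec.map lA ≫ U.2.fromSpec = l := by
      rw [Spec.map_preimage, IsOpenImmersion.lift_fac]
    have hcomp : lA ≫ CommRingCat.ofHom W.subtype = CommRingCat.ofHom σA := by
      apply Spec.map_injective
      rw [← cancel_mono U.2.fromSpec, Spec.map_comp, Category.assoc, hlA, hσA, ← hl]
    have hint : ∀ x, σA x ∈ W := fun x => by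
      rw [show σA x = (lA ≫ CommRingCat.ofHom W.subtype).hom x from by rw [hcomp]; rfl]
      exact (lA.hom x).2
    obtain ⟨a, ha, haW⟩ := hS₀ W hint
    refine ⟨pt a, Finset.mem_image_of_mem _ ha,
      Spec.map (CommRingCat.ofHom (a.2.1.codRestrict W haW)) ≫ (e a.1).2.1.2.fromSpec, ?_, ?_⟩
    · rw [← Spec.map_comp_assoc]
      rfl
    · show (_ ≫ _) ≫ q (e a.1).1 = l
      rw [Category.assoc, ← hφ, ← Spec.map_comp_assoc, ← hlA]
      congr 2
      apply CommRingCat.hom_ext
      ext x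
      exact (RingHom.congr_fun a.2.2 x).trans
        (congrArg (fun t : A ⟶ CommRingCat.of L => t.hom x) hcomp).symm
  choose S hS using main
  obtain ⟨T, hT, hTeq⟩ := (isCompact_iff_finite_and_eq_biUnion_affineOpens (U := (⊤ : Y.Opens))).mp
    (by simpa using (isCompact_univ (X := Y)))
  refine ⟨hT.toFinset.biUnion S, fun W l hl => ?_⟩
  have : l (closedPoint W) ∈ (⊤ : Y.Opens) := trivial
  rw [hTeq] at this
  obtain ⟨U, hU⟩ := Opens.mem_iSup.1 this
  obtain ⟨hUT, hUl⟩ := Opens.mem_iSup.1 hU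
  obtain ⟨a, ha, h⟩ := hS U W l hl hUl
  exact ⟨a, Finset.mem_biUnion.2 ⟨U, hT.mem_toFinset.2 hUT, ha⟩, h⟩

end Groth.Agent.H15Subtr
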