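import Groth.Agent.H15Subtr.NilFlatCover
import Groth.Agent.H15Subtr.Refine
import Groth.Agent.H7Lim.FPDescent.Noetherian

/-!
# Universal openness descends to a stage; universally open morphisms become flat after proper covers
-/

set_option autoImplicit false
set_option linter.style.haveILetI false
set_option backward.isDefEq.respectTransparency false

universe u

open CategoryTheory CategoryTheory.Limits AlgebraicGeometry TopologicalSpace Opposite
open Groth.Agent.H7Lim Groth.Agent.H7Lim.FPDescent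

namespace Groth.Agent.H15Subtr

/-- A Noetherian model of a morphism of finite presentation over an affine scheme. -/
theorem exists_noetherian_square {T S : Scheme.{u}} [IsAffine S] (a : T ⟶ S) [CompactSpace T]
    [QuasiSeparatedSpace T] [LocallyOfFinitePresentation a] :
    ∃ (S₀ T₀ : Scheme.{u}) (e : S ⟶ S₀) (a₀ : T₀ ⟶ S₀) (g : T ⟶ T₀), IsNoetherian S₀ ∧
      LocallyOfFinitePresentation a₀ ∧ QuasiCompact a₀ ∧ QuasiSeparated a₀ ∧ IsPullback g a a₀ e := by
  let A := Γ(S, ⊤)
  let F := (subringFunctor A).op ⋙ Scheme.Spec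
  let cs : Cone F := Scheme.Spec.mapCone (subringCocone A).op
  have hcs : IsLimit cs := isLimitOfPreserves Scheme.Spec (subringIsColimit A).op
  haveI : ∀ (i j : (Finset A)ᵒᵖ) (φ : i ⟶ j), IsAffineHom (F.map φ) := fun i j φ =>
    inferInstanceAs (IsAffineHom (Spec.map _))
  haveI : ∀ i, IsAffine (F.obj i) := fun i => inferInstanceAs (IsAffine (Spec _))
  haveI : ∀ i, CompactSpace (F.obj i) := fun i => inferInstanceAs (CompactSpace ↥(Spec _))
  haveI : ∀ i, QuasiSeparatedSpace (F.obj i) := fun i => inferInstanceAs (QuasiSeparatedSpace ↥(Spec _))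
  haveI : Nonempty (Finset A) := ⟨∅⟩
  let a' : T ⟶ cs.pt := a ≫ S.isoSpec.hom
  haveI : LocallyOfFinitePresentation a' := by
    haveI : IsIso S.isoSpec.hom := inferInstance
    exact MorphismProperty.comp_mem @LocallyOfFinitePresentation _ _ inferInstance inferInstance
  haveI : QuasiCompact a' := quasiCompact_of_compactSpace (Y := Spec A) a'
  haveI : QuasiSeparated a' := inferInstanceAs (QuasiSeparated (a ≫ S.isoSpec.hom))
  obtain ⟨i, ⟨M⟩⟩ := exists_model hcs (X := T) a'
  haveI := M.compactSpace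
  haveI := M.quasiSeparatedSpace
  haveI : IsNoetherianRing (Algebra.adjoin ℤ ((unop i : Finset A) : Set A)) := by
    haveI := (Algebra.adjoin ℤ ((unop i : Finset A) : Set A)).fg_iff_finiteType.1 ⟨unop i, rfl⟩
    exact Algebra.FiniteType.isNoetherianRing ℤ _
  let e : S ⟶ Spec (CommRingCat.of (Algebra.adjoin ℤ ((unop i : Finset A) : Set A))) :=
    (show S ⟶ cs.pt from S.isoSpec.hom) ≫ cs.π.app i
  refine ⟨_, M.P, e, M.p, M.g, inferInstance, M.lfp, quasiCompact_of_compactSpace _, ?_, ?_⟩
  · exact (quasiSeparated_iff_quasiSeparatedSpace _).2 inferInstance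
  · have h1 : IsPullback (𝟙 T) a a' (show S ⟶ cs.pt from S.isoSpec.hom) := by
      haveI : IsIso (show S ⟶ cs.pt from S.isoSpec.hom) := inferInstanceAs (IsIso S.isoSpec.hom)
      exact IsPullback.of_horiz_isIso ⟨by rw [Category.id_comp]⟩
    have h2 := h1.paste_horiz M.hpb
    rw [Category.id_comp] at h2
    exact h2

theorem descendsAffine_universallyOpen :
    H7Lim.DescendsAffine.{u} @UniversallyOpen @LocallyOfFinitePresentation := by
  intro I _ _ D c hc _ _ i T a _ _ ha h
  haveI : LocallyOfFinitePresentation a := ha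
  obtain ⟨S₀, T₀, e, a₀, g, hS₀, ha₀, hqc, hqs, sq⟩ := exists_noetherian_square a
  have hopen : UniversallyOpen (pullback.snd a₀ (c.π.app i ≫ e)) :=
    (prop_iff_of_isPullback (P := @UniversallyOpen)
      ((IsPullback.of_hasPullback a (c.π.app i)).paste_horiz sq)).1 h
  obtain ⟨j, φ, κ, _, W, w, hw, hn, hcov⟩ := coveredBy_univ e a₀ hc hopen
  refine ⟨j, φ, ?_⟩
  haveI : ∀ k, UniversallyClosed (w k) := fun k => by
    haveI := (hw k).1
    infer_instance
  refine universallyOpen_of_family _ w (fun s => hcov s (Set.mem_univ _)) fun k => ?_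
  exact (prop_iff_of_isPullback (P := @UniversallyOpen)
    ((IsPullback.of_hasPullback (pullback.snd a (D.map φ)) (w k)).paste_horiz
      ((IsPullback.of_hasPullback a (D.map φ)).paste_horiz sq))).2 (universallyOpen_of_nilFlat (hn k))

/-- A finite family of covers flattening `f` gives a single one. -/
theorem exists_single_cover {X Y : Scheme.{u}} (f : X ⟶ Y) [CompactSpace Y] [QuasiSeparatedSpace Y]
    [QuasiCompact f] [QuasiSeparated f] {κ : Type u} [Finite κ] {W : κ → Scheme.{u}} (q : ∀ k, W k ⟶ Y)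
    (hq : ∀ k, IsProper (q k) ∧ LocallyOfFinitePresentation (q k)) (hsurj : ∀ y, ∃ k z, q k z = y)
    (hn : ∀ k, nilFlat (pullback.snd f (q k))) :
    ∃ (Y' : Scheme.{u}) (qq : Y' ⟶ Y) (X' : Scheme.{u}) (r : X' ⟶ pullback f qq),
      IsProper qq ∧ Surjective qq ∧ LocallyOfFinitePresentation qq ∧
      IsClosedImmersion r ∧ Surjective r ∧
      Flat (r ≫ pullback.snd f qq) ∧ (Surjective f → Surjective (r ≫ pullback.snd f qq)) ∧
      LocallyOfFinitePresentation (r ≫ pullback.snd f qq) ∧ QuasiCompact (r ≫ pullback.snd f qq) ∧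
      QuasiSeparated (r ≫ pullback.snd f qq) := by
  choose X'' r hr hrs hfl hlfp using hn
  let qq : (∐ W) ⟶ Y := Sigma.desc q
  obtain ⟨hqp, hqf⟩ : properFp qq := goodClass_properFp.desc_mem q hq
  haveI := hqp
  haveI : Surjective qq := ⟨fun y => by
    obtain ⟨k, z, hz⟩ := hsurj y
    exact ⟨Sigma.ι W k z, by rw [← Scheme.Hom.comp_apply, Sigma.ι_desc]; exact hz⟩⟩
  let m : ∀ k, pullback f (q k) ⟶ pullback f qq := fun k =>
    pullback.map _ _ _ _ (𝟙 X) (Sigma.ι W k) (𝟙 _) (by simp) (by simp [qq])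
  have hm : ∀ k, IsPullback (m k) (pullback.snd f (q k)) (pullback.snd f qq) (Sigma.ι W k) := fun k => by
    refine IsPullback.of_right (h₁₂ := pullback.fst f qq) (h₂₂ := qq) (v₁₃ := f) ?_ (by simp [m])
      (IsPullback.of_hasPullback _ _)
    simpa [m, qq] using IsPullback.of_hasPullback f (q k)
  haveI : ∀ k, IsOpenImmersion (m k) := fun k =>
    MorphismProperty.of_isPullback (P := @IsOpenImmersion) (hm k).flip inferInstance
  let R : (∐ X'') ⟶ pullback f qq := Sigma.desc fun k => r k ≫ m k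
  have hmem : ∀ k x, (x ∈ Set.range (m k)) ↔ pullback.snd f qq x ∈ Set.range (Sigma.ι W k) := fun k x => by
    constructor
    · rintro ⟨z, rfl⟩
      exact ⟨pullback.snd f (q k) z, by rw [← Scheme.Hom.comp_apply, ← (hm k).w, Scheme.Hom.comp_apply]⟩
    · rintro ⟨z, hz⟩
      obtain ⟨p, hp, -⟩ := Scheme.Pullback.exists_preimage_pullback x z hz.symm
      exact ⟨(hm k).isoPullback.inv p, by rw [← Scheme.Hom.comp_apply, (hm k).isoPullback_inv_fst, hp]⟩
  have hcov : ⨆ k, (m k).opensRange = ⊤ := top_le_iff.1 fun x _ => by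
    obtain ⟨k, z, hz⟩ := (sigmaOpenCover W).exists_eq (pullback.snd f qq x)
    exact Opens.mem_iSup.2 ⟨k, (hmem k x).2 ⟨z, hz⟩⟩
  have hsq : ∀ k, IsPullback (Sigma.ι X'' k) (r k) R (m k) := fun k => by
    refine (IsOpenImmersion.isPullback (r k) (Sigma.ι X'' k) (m k) R (by simp [R]) ?_).flip
    refine Opens.ext (Set.ext fun x => ⟨fun hx => ?_, ?_⟩)
    · obtain ⟨l, z, rfl⟩ := (sigmaOpenCover X'').exists_eq x
      change R (Sigma.ι X'' l z) ∈ Set.range (m k) at hx
      rw [← Scheme.Hom.comp_apply, Sigma.ι_desc, Scheme.Hom.comp_apply, hmem,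
        ← Scheme.Hom.comp_apply (m l), (hm l).w, Scheme.Hom.comp_apply] at hx
      obtain rfl : l = k := by
        by_contra hlk
        obtain ⟨w, hw⟩ := hx
        exact Set.disjoint_left.1 (Opens.coe_disjoint.2 (disjoint_opensRange_sigmaι W l k hlk))
          ⟨_, rfl⟩ ⟨w, hw⟩
      exact ⟨z, rfl⟩
    · rintro ⟨z, rfl⟩
      change R (Sigma.ι X'' k z) ∈ Set.range (m k)
      rw [← Scheme.Hom.comp_apply, Sigma.ι_desc, Scheme.Hom.comp_apply]
      exact ⟨_, rfl⟩
  haveI : IsClosedImmersion R := by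
    refine IsZariskiLocalAtTarget.of_iSup_eq_top (P := @IsClosedImmersion) (fun k => (m k).opensRange) hcov fun k => ?_
    refine (MorphismProperty.arrow_mk_iso_iff @IsClosedImmersion (morphismRestrictOpensRange R (m k))).2 ?_
    rw [← (hsq k).isoPullback_inv_snd]
    haveI := hr k
    infer_instance
  haveI : Surjective R := ⟨fun x => by
    obtain ⟨k, hk⟩ := Opens.mem_iSup.1 (hcov ▸ (Opens.mem_top x : x ∈ (⊤ : (pullback f qq).Opens)))
    obtain ⟨z, rfl⟩ := hk
    haveI := hrs k
    obtain ⟨w, rfl⟩ := (r k).surjective z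
    exact ⟨Sigma.ι X'' k w, by rw [← Scheme.Hom.comp_apply, Sigma.ι_desc, Scheme.Hom.comp_apply]⟩⟩
  have hcomp : ∀ k, Sigma.ι X'' k ≫ R ≫ pullback.snd f qq = (r k ≫ pullback.snd f (q k)) ≫ Sigma.ι W k :=
    fun k => by rw [Sigma.ι_desc_assoc, Category.assoc, (hm k).w, Category.assoc]
  have hFlat : Flat (R ≫ pullback.snd f qq) :=
    (IsZariskiLocalAtSource.iff_of_openCover (P := @Flat) (sigmaOpenCover _)).2 fun k => by
      change Flat (Sigma.ι X'' k ≫ R ≫ pullback.snd f qq)
      rw [hcomp k]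
      haveI := hfl k
      exact MorphismProperty.comp_mem @Flat _ _ inferInstance inferInstance
  have hLfp : LocallyOfFinitePresentation (R ≫ pullback.snd f qq) :=
    (IsZariskiLocalAtSource.iff_of_openCover (P := @LocallyOfFinitePresentation) (sigmaOpenCover _)).2 fun k => by
      change LocallyOfFinitePresentation (Sigma.ι X'' k ≫ R ≫ pullback.snd f qq)
      rw [hcomp k]
      haveI := hlfp k
      exact MorphismProperty.comp_mem @LocallyOfFinitePresentation _ _ inferInstance inferInstance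
  haveI : QuasiCompact (pullback.snd f qq) := MorphismProperty.pullback_snd _ _ inferInstance
  haveI : QuasiSeparated (pullback.snd f qq) := MorphismProperty.pullback_snd _ _ inferInstance
  exact ⟨_, qq, _, R, inferInstance, inferInstance, hqf, inferInstance, inferInstance, hFlat,
    fun hf => by
      haveI : Surjective (pullback.snd f qq) := MorphismProperty.pullback_snd _ _ hf
      exact MorphismProperty.comp_mem @Surjective _ _ inferInstance inferInstance,
    hLfp, inferInstance, inferInstance⟩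

/-- Flattening of universally open morphisms by proper surjections and nil-immersions. -/
theorem exists_nilFlat_family {X Y : Scheme.{u}} (f : X ⟶ Y) (hY : IsAffine Y ∨ IsNoetherian Y)
    [LocallyOfFinitePresentation f] [QuasiCompact f] [QuasiSeparated f] [UniversallyOpen f] :
    ∃ (κ : Type) (_ : Finite κ) (W : κ → Scheme.{u}) (q : ∀ k, W k ⟶ Y),
      (∀ k, IsProper (q k) ∧ LocallyOfFinitePresentation (q k)) ∧ (∀ y, ∃ k z, q k z = y) ∧
      ∀ k, nilFlat (pullback.snd f (q k)) := by
  obtain ⟨S₀, X₀, e, a₀, g, hS₀, ha₀, hqc, hqs, sq⟩ :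
      ∃ (S₀ T₀ : Scheme.{u}) (e : Y ⟶ S₀) (a₀ : T₀ ⟶ S₀) (g : X ⟶ T₀), IsNoetherian S₀ ∧
        LocallyOfFinitePresentation a₀ ∧ QuasiCompact a₀ ∧ QuasiSeparated a₀ ∧ IsPullback g f a₀ e := by
    rcases hY with h | h
    · haveI := h
      haveI : CompactSpace X := QuasiCompact.compactSpace_of_compactSpace f
      haveI : QuasiSeparatedSpace X := quasiSeparatedSpace_of_quasiSeparated f
      exact exists_noetherian_square f
    · exact ⟨Y, X, 𝟙 Y, f, 𝟙 X, h, inferInstance, inferInstance, inferInstance,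
        IsPullback.of_horiz_isIso ⟨by rw [Category.id_comp, Category.comp_id]⟩⟩
  obtain ⟨_, _⟩ := quasiSeparatedSpace_of_affine_or_noetherian hY
  let D : PUnit.{u + 1} ⥤ Scheme.{u} := (Functor.const _).obj Y
  let c : Cone D := { pt := Y, π := 𝟙 _ }
  have hc : IsLimit c :=
    { lift := fun s => s.π.app PUnit.unit
      fac := fun s j => by cases j; exact Category.comp_id _
      uniq := fun s m hm => (Category.comp_id m).symm.trans (hm PUnit.unit) }
  haveI : ∀ (i j : PUnit.{u + 1}) (φ : i ⟶ j), IsAffineHom (D.map φ) := fun _ _ _ =>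
    inferInstanceAs (IsAffineHom (𝟙 Y))
  haveI : CompactSpace (D.obj PUnit.unit) := inferInstanceAs (CompactSpace Y)
  haveI : QuasiSeparatedSpace (D.obj PUnit.unit) := inferInstanceAs (QuasiSeparatedSpace Y)
  let e' : D.obj PUnit.unit ⟶ S₀ := e
  have hopen : UniversallyOpen (pullback.snd a₀ (c.π.app PUnit.unit ≫ e')) := by
    refine prop_snd_of_fac (P := @UniversallyOpen) (b := e) (𝟙 _) ?_
      ((prop_iff_of_isPullback (P := @UniversallyOpen) sq).1 inferInstance)
    rfl
  obtain ⟨j, φ, κ, hκ, W, w, hw, hn, hcov⟩ := coveredBy_univ (c := c) e' a₀ hc hopen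
  let w' : ∀ k, W k ⟶ Y := w
  refine ⟨κ, hκ, W, w', hw, fun y => hcov y (Set.mem_univ _), fun k => ?_⟩
  refine (prop_iff_of_isPullback (P := nilFlat) ((IsPullback.of_hasPullback f (w' k)).paste_horiz sq)).2 ?_
  refine prop_snd_of_fac (P := nilFlat) (b := w k ≫ D.map φ ≫ e') (𝟙 _) ?_ (hn k)
  show 𝟙 _ ≫ w' k ≫ 𝟙 Y ≫ e = w' k ≫ e
  simp

end Groth.Agent.H15Subtr
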