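import Groth.Prelude.Def_W4c2submetdescSubtr
import Groth.Prelude.Def_SGA1
import Groth.Agent.H18Subtr.OverValuation
import Groth.Agent.H18HTop.SpecLiftDVR
import Groth.Agent.H18HTop.VCoverCrit

/-!
# Universally submersive morphisms: formal properties and criteria
-/

set_option autoImplicit false
set_option linter.style.haveILetI false

universe u

open CategoryTheory CategoryTheory.Limits AlgebraicGeometry

namespace Groth.Agent.H15Subtr

variable {X Y Z : Scheme.{u}}

instance isStableUnderBaseChange_univSubmersive : SGA1.UnivSubmersive.{u}.IsStableUnderBaseChange :=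
  MorphismProperty.universally_isStableUnderBaseChange _

instance isStableUnderComposition_univSubmersive : SGA1.UnivSubmersive.{u}.IsStableUnderComposition :=
  have : (topologically fun f => Topology.IsQuotientMap f : MorphismProperty Scheme.{u}).IsStableUnderComposition :=
    topologically_isStableUnderComposition _ fun _ _ hf hg => hg.comp hf
  inferInstanceAs (MorphismProperty.universally _).IsStableUnderComposition

theorem univSubmersive_comp {f : X ⟶ Y} {g : Y ⟶ Z} (hf : SGA1.UnivSubmersive f) (hg : SGA1.UnivSubmersive g) :
    SGA1.UnivSubmersive (f ≫ g) :=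
  MorphismProperty.comp_mem _ _ _ hf hg

theorem univSubmersive_fst {f : X ⟶ Y} {g : Z ⟶ Y} (hg : SGA1.UnivSubmersive g) :
    SGA1.UnivSubmersive (pullback.fst f g) :=
  MorphismProperty.pullback_fst f g hg

theorem univSubmersive_snd {f : X ⟶ Y} {g : Z ⟶ Y} (hf : SGA1.UnivSubmersive f) :
    SGA1.UnivSubmersive (pullback.snd f g) :=
  MorphismProperty.pullback_snd f g hf

theorem isQuotientMap_of_univSubmersive {f : X ⟶ Y} (hf : SGA1.UnivSubmersive f) : Topology.IsQuotientMap f :=
  MorphismProperty.universally_le _ f hf

theorem surjective_of_univSubmersive {f : X ⟶ Y} (hf : SGA1.UnivSubmersive f) : Surjective f :=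
  ⟨(isQuotientMap_of_univSubmersive hf).surjective⟩

theorem univSubmersive_of_universallyOpen (f : X ⟶ Y) [UniversallyOpen f] [Surjective f] :
    SGA1.UnivSubmersive f := by
  intro X' Y' i₁ i₂ f' hP
  haveI : UniversallyOpen f' := MorphismProperty.of_isPullback (P := @UniversallyOpen) hP.flip ‹_›
  haveI : Surjective f' := MorphismProperty.of_isPullback (P := @Surjective) hP.flip ‹_›
  exact f'.isOpenMap.isQuotientMap f'.continuous f'.surjective

theorem univSubmersive_of_universallyClosed (f : X ⟶ Y) [UniversallyClosed f] [Surjective f] :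
    SGA1.UnivSubmersive f := by
  intro X' Y' i₁ i₂ f' hP
  haveI : UniversallyClosed f' := MorphismProperty.of_isPullback (P := @UniversallyClosed) hP.flip ‹_›
  haveI : Surjective f' := MorphismProperty.of_isPullback (P := @Surjective) hP.flip ‹_›
  exact f'.isClosedMap.isQuotientMap f'.continuous f'.surjective

theorem univSubmersive_of_univSS (f : X ⟶ Y) [QuasiCompact f] (hf : Subtr.UnivSSubtrusive f) :
    SGA1.UnivSubmersive f := by
  haveI : ∀ i, QuasiCompact ((PreZeroHypercover.singleton.{u} f).f i) := fun _ => ‹QuasiCompact f›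
  haveI : Finite (PreZeroHypercover.singleton.{u} f).I₀ := inferInstanceAs (Finite PUnit)
  exact (H18HTop.univSubmersive_iff_desc_singleton f).2 (H18HTop.univSubmersive_sigmaDesc _
    (H18HTop.isVCover_singleton_of_hasValLift f ((H18Subtr.univSSubtrusive_iff_hasValLift.{u} f).1 hf)))

end Groth.Agent.H15Subtr
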