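import Groth.Agent.H18Subint.WeakClosure
import Groth.Agent.H8Props.WeakEtaleReduced
import Mathlib.RingTheory.Smooth.IntegralClosure
import Mathlib.RingTheory.Flat.Localization
import Mathlib.RingTheory.Flat.Stability
import Mathlib.RingTheory.Localization.BaseChange

/-!
# Weak subintegral closure and weakly étale base change
-/

set_option autoImplicit false
set_option linter.unusedSectionVars false
set_option linter.style.haveILetI false

universe u

open TensorProduct CategoryTheory AlgebraicGeometry

namespace Groth.Agent.H15Subtr.WeakClosureBC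

open H17.UnivHomeoAlg H18Subint

theorem weaklyEtale_of_isLocalization {A A' : Type u} [CommRing A] [CommRing A'] [Algebra A A']
    (M : Submonoid A) [IsLocalization M A'] : Algebra.WeaklyEtale A A' := by
  haveI := IsLocalization.flat A' M
  refine { flat_lmul' := .of_bijective ?_ }
  have h : ⇑(Algebra.TensorProduct.lmul' A (S := A')) = ⇑(IsLocalization.moduleLid M A' (M₁ := A')) := by
    funext x
    induction x using TensorProduct.induction_on with
    | zero => simp
    | tmul a b => exact (Algebra.TensorProduct.lmul'_apply_tmul a b).trans rfl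
    | add a b ha hb => rw [map_add, map_add, ha, hb]
  show Function.Bijective (Algebra.TensorProduct.lmul' A (S := A'))
  rw [h]
  exact LinearEquiv.bijective _

variable {A B A' : Type u} [CommRing A] [CommRing B] [CommRing A'] [Algebra A B] [Algebra A A']

theorem isUnivHomeo_algEquiv {D E : Type u} [CommRing D] [CommRing E] [Algebra A D] [Algebra A E]
    (e : D ≃ₐ[A] E) (h : FlatMor.IsUnivHomeo (Spec.map (CommRingCat.ofHom (algebraMap A D)))) :
    FlatMor.IsUnivHomeo (Spec.map (CommRingCat.ofHom (algebraMap A E))) := by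
  obtain ⟨hi, hu, hl⟩ := isUnivHomeo_iff.1 h
  refine isUnivHomeo_iff.2 ⟨⟨fun x => ?_⟩, fun L _ ψ ψ' hψ => ?_, fun K _ _ φ => ?_⟩
  · obtain ⟨d, rfl⟩ := e.surjective x
    exact (Algebra.IsIntegral.isIntegral d).map e
  · have := hu L (ψ.comp e.toAlgHom.toRingHom) (ψ'.comp e.toAlgHom.toRingHom) (RingHom.ext fun a =>
      (congrArg ψ (e.commutes a)).trans ((DFunLike.congr_fun hψ a).trans (congrArg ψ' (e.commutes a)).symm))
    refine RingHom.ext fun x => ?_
    obtain ⟨d, rfl⟩ := e.surjective x
    exact DFunLike.congr_fun this d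
  · obtain ⟨ψ, hψ⟩ := hl K φ
    exact ⟨ψ.comp e.symm.toAlgHom.toRingHom, RingHom.ext fun a =>
      (congrArg ψ (e.symm.commutes a)).trans (DFunLike.congr_fun hψ a)⟩

theorem isReduced_tensor {R R' Q : Type u} [CommRing R] [CommRing R'] [CommRing Q] [Algebra R R'] [Algebra R Q]
    [IsReduced Q] [Algebra.WeaklyEtale R R'] : IsReduced (R' ⊗[R] Q) := by
  haveI := H8Props.WeakEtaleReduced.isReduced_of_weaklyEtale Q (Q ⊗[R] R')
  exact isReduced_of_injective (Algebra.TensorProduct.comm R R' Q) (AlgEquiv.injective _)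

theorem eq_zero_of_forall_field {R : Type u} [CommRing R] [IsReduced R] (x : R)
    (h : ∀ (L : Type u) [Field L] (r : R →+* L), r x = 0) : x = 0 := by
  refine IsNilpotent.eq_zero ?_
  rw [nilpotent_iff_mem_prime]
  intro P hP
  exact Ideal.algebraMap_residueField_eq_zero.1 (h P.ResidueField (algebraMap R P.ResidueField))

/-- An element of `A' ⊗ E` which no pair of field points over `A'` separates comes from `agree A E`. -/
theorem exists_agree_preimage {E : Type u} [CommRing E] [Algebra A E] [Algebra.WeaklyEtale A A']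
    (y : A' ⊗[A] E) (hy : ∀ (L : Type u) [Field L] (ψ ψ' : A' ⊗[A] E →+* L),
      (∀ a, ψ (algebraMap A' _ a) = ψ' (algebraMap A' _ a)) → ψ y = ψ' y) :
    ∃ z, LinearMap.lTensor A' (agree A E).val.toLinearMap z = y := by
  let Q := (E ⊗[A] E) ⧸ nilradical (E ⊗[A] E)
  haveI : IsReduced Q := (Ideal.isRadical_iff_quotient_reduced _).1 (Ideal.radical_isRadical _)
  haveI hQ : IsReduced (A' ⊗[A] Q) := isReduced_tensor
  let q : E ⊗[A] E →ₐ[A] Q := Ideal.Quotient.mkₐ A _
  let q₁ : E →ₐ[A] Q := q.comp Algebra.TensorProduct.includeLeft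
  let q₂ : E →ₐ[A] Q := q.comp Algebra.TensorProduct.includeRight
  let φ₁ := Algebra.TensorProduct.map (AlgHom.id A' A') q₁
  let φ₂ := Algebra.TensorProduct.map (AlgHom.id A' A') q₂
  have h12 : φ₁ y = φ₂ y := by
    refine sub_eq_zero.1 (eq_zero_of_forall_field (R := A' ⊗[A] Q) (φ₁ y - φ₂ y) fun L _ r => ?_)
    rw [map_sub, sub_eq_zero]
    exact hy L (r.comp φ₁.toRingHom) (r.comp φ₂.toRingHom) fun a =>
      congrArg r ((φ₁.commutes a).trans (φ₂.commutes a).symm)
  let d : E →ₗ[A] Q := q₁.toLinearMap - q₂.toLinearMap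
  have hex : Function.Exact (agree A E).val.toLinearMap d := fun b => by
    have hd : d b = Ideal.Quotient.mk (nilradical (E ⊗[A] E)) (b ⊗ₜ 1 - 1 ⊗ₜ b) :=
      (map_sub (Ideal.Quotient.mk (nilradical (E ⊗[A] E))) _ _).symm
    rw [hd, Ideal.Quotient.eq_zero_iff_mem, mem_nilradical]
    exact ⟨fun h => ⟨⟨b, mem_agree_iff.2 h⟩, rfl⟩, fun ⟨x, hx⟩ => hx ▸ mem_agree_iff.1 x.2⟩
  have h0 : LinearMap.lTensor A' d y = 0 := by
    have : ∀ z, LinearMap.lTensor A' d z = φ₁ z - φ₂ z := fun z => by
      induction z using TensorProduct.induction_on with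
      | zero => simp
      | tmul a b => simp [d, φ₁, φ₂, TensorProduct.tmul_sub]
      | add z z' hz hz' =>
        rw [map_add, hz, hz', map_add, map_add]
        abel
    rw [this, h12, sub_self]
  exact (Module.Flat.lTensor_exact A' hex y).1 h0

variable (hinj : Function.Injective (algebraMap A B)) (C : Subalgebra A B)
  (hC : FlatMor.IsUnivHomeo (Spec.map (CommRingCat.ofHom (algebraMap A C))))
  (hmax : ∀ D : Subalgebra A B, FlatMor.IsUnivHomeo (Spec.map (CommRingCat.ofHom (algebraMap A D))) → D ≤ C)

include hinj hmax in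
theorem mem_of_agree (b : integralClosure A B) (hb : b ∈ agree A (integralClosure A B)) : (b : B) ∈ C := by
  have h0 := isUnivHomeo_agree (A := A) (B := integralClosure A B)
    (fun x y h => hinj (congrArg Subtype.val h))
  exact hmax ((agree A (integralClosure A B)).map (integralClosure A B).val)
    (isUnivHomeo_algEquiv ((agree A (integralClosure A B)).equivMapOfInjective (integralClosure A B).val
      Subtype.val_injective) h0) ⟨b, hb, rfl⟩

variable (A') in
include hinj hC in
theorem isUnivHomeo_range [Module.Flat A A'] :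
    FlatMor.IsUnivHomeo (Spec.map (CommRingCat.ofHom (algebraMap A'
      (Algebra.TensorProduct.map (AlgHom.id A' A') C.val).range))) := by
  obtain ⟨hi, hu, -⟩ := isUnivHomeo_iff.1 hC
  let Φ := Algebra.TensorProduct.map (AlgHom.id A' A') C.val
  haveI : Algebra.IsIntegral A' Φ.range := ⟨fun x => by
    obtain ⟨y, hy⟩ := Φ.rangeRestrict_surjective x
    rw [← hy]
    exact (Algebra.IsIntegral.isIntegral y).map Φ.rangeRestrict⟩
  refine isUnivHomeo_iff.2 ⟨inferInstance, fun L _ ψ ψ' hψ => ?_, lf_of_integral fun a ha => ⟨1, ?_⟩⟩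
  · refine RingHom.ext fun x => ?_
    obtain ⟨y, rfl⟩ := Φ.rangeRestrict_surjective x
    have h1 : ∀ a : A', ψ (Φ.rangeRestrict (algebraMap A' _ a)) = ψ' (Φ.rangeRestrict (algebraMap A' _ a)) := fun a => by
      rw [Φ.rangeRestrict.commutes]
      exact DFunLike.congr_fun hψ a
    have h2 := hu L
      (((ψ.comp Φ.rangeRestrict.toRingHom)).comp (Algebra.TensorProduct.includeRight : C →ₐ[A] A' ⊗[A] C).toRingHom)
      (((ψ'.comp Φ.rangeRestrict.toRingHom)).comp (Algebra.TensorProduct.includeRight : C →ₐ[A] A' ⊗[A] C).toRingHom)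
      (RingHom.ext fun a => by
        show ψ (Φ.rangeRestrict (Algebra.TensorProduct.includeRight (R := A) (algebraMap A C a))) =
          ψ' (Φ.rangeRestrict (Algebra.TensorProduct.includeRight (R := A) (algebraMap A C a)))
        rw [AlgHom.commutes, IsScalarTower.algebraMap_apply A A' (A' ⊗[A] C)]
        exact h1 _)
    induction y using TensorProduct.induction_on with
    | zero => simp
    | tmul a c =>
      rw [show a ⊗ₜ[A] c = algebraMap A' (A' ⊗[A] C) a * Algebra.TensorProduct.includeRight (R := A) c by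
        simp [Algebra.TensorProduct.algebraMap_apply, Algebra.TensorProduct.tmul_mul_tmul]]
      rw [map_mul, map_mul, map_mul, h1 a]
      exact congrArg (_ * ·) (DFunLike.congr_fun h2 c)
    | add y z hy hz => rw [map_add, map_add, map_add, hy, hz]
  · rw [pow_one]
    have hl : Function.Injective (LinearMap.lTensor A' (Algebra.linearMap A B)) :=
      Module.Flat.lTensor_preserves_injective_linearMap _ hinj
    have h0 : algebraMap A' (A' ⊗[A] B) a = 0 := congrArg Subtype.val ha
    have h1 : LinearMap.lTensor A' (Algebra.linearMap A B) (a ⊗ₜ 1) = LinearMap.lTensor A' (Algebra.linearMap A B) 0 := by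
      rw [map_zero, LinearMap.lTensor_tmul]
      simpa [Algebra.TensorProduct.algebraMap_apply] using h0
    simpa using congrArg (TensorProduct.rid A A') (hl h1)

variable (C' : Subalgebra A' (A' ⊗[A] B))
  (hC' : FlatMor.IsUnivHomeo (Spec.map (CommRingCat.ofHom (algebraMap A' C'))))

include hinj hmax hC' in
theorem le_range [Algebra.WeaklyEtale A A']
    (hbij : Function.Bijective (TensorProduct.toIntegralClosure A A' B)) (c : A' ⊗[A] B) (hc : c ∈ C') :
    c ∈ Set.range (Algebra.TensorProduct.map (AlgHom.id A A') C.val) := by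
  obtain ⟨hi', hu', -⟩ := isUnivHomeo_iff.1 hC'
  have hint : ∀ x : C', IsIntegral A' (x : A' ⊗[A] B) := fun x => (Algebra.IsIntegral.isIntegral x).map C'.val
  let e := AlgEquiv.ofBijective _ hbij
  let inc : C' →ₐ[A'] A' ⊗[A] integralClosure A B :=
    e.symm.toAlgHom.comp (C'.val.codRestrict (integralClosure A' (A' ⊗[A] B)) hint)
  let y := inc ⟨c, hc⟩
  have hy : Algebra.TensorProduct.map (AlgHom.id A' A') (integralClosure A B).val y = c :=
    congrArg Subtype.val (e.apply_symm_apply ⟨c, hint ⟨c, hc⟩⟩)
  obtain ⟨z, hz⟩ := exists_agree_preimage (A := A) y fun L _ ψ ψ' h =>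
    DFunLike.congr_fun (hu' L (ψ.comp inc.toRingHom) (ψ'.comp inc.toRingHom)
      (RingHom.ext fun a => by
        show ψ (inc (algebraMap A' C' a)) = ψ' (inc (algebraMap A' C' a))
        rw [inc.commutes]
        exact h a)) ⟨c, hc⟩
  let h : agree A (integralClosure A B) →ₐ[A] C :=
    ((integralClosure A B).val.comp (agree A (integralClosure A B)).val).codRestrict C
      fun x => mem_of_agree hinj C hmax x.1 x.2
  refine ⟨Algebra.TensorProduct.map (AlgHom.id A A') h z, ?_⟩
  rw [← hy, ← hz]
  clear hz
  induction z using TensorProduct.induction_on with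
  | zero => simp
  | tmul a b => rfl
  | add z z' hz hz' => simp only [map_add, hz, hz']

include hinj hC hmax hC' in
/-- Weak subintegral closure commutes with weakly étale base change preserving integral closure. -/
theorem main [Algebra.WeaklyEtale A A'] (hbij : Function.Bijective (TensorProduct.toIntegralClosure A A' B))
    (hmax' : ∀ D : Subalgebra A' (A' ⊗[A] B),
      FlatMor.IsUnivHomeo (Spec.map (CommRingCat.ofHom (algebraMap A' D))) → D ≤ C') :
    (C' : Set (A' ⊗[A] B)) = Set.range (Algebra.TensorProduct.map (AlgHom.id A A') C.val) := by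
  refine Set.Subset.antisymm (fun c hc => le_range hinj C hmax C' hC' hbij c hc) ?_
  rintro _ ⟨x, rfl⟩
  refine hmax' _ (isUnivHomeo_range A' hinj C hC) ⟨x, ?_⟩
  induction x using TensorProduct.induction_on with
  | zero => simp
  | tmul a b => rfl
  | add z z' hz hz' => simp only [map_add, hz, hz']

end Groth.Agent.H15Subtr.WeakClosureBC
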